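import Cfsg.Agent.OddOrderCharacters.PF9.Defs
import Cfsg.Agent.OddOrderCharacters.IndRes
import Cfsg.Agent.Characters.Linear
import Cfsg.Agent.Blocks.Deflate
import Cfsg.Agent.S1512
import Cfsg.Agent.S0173
set_option linter.all false

/-!
# Peterfalvi (9.8)(b) = (9.9)(b): the reducible members of `S(H₀)`

There are exactly `p - 1` of them; they lie in `S(H₀C)`, have degree `q u` and are induced from linear
characters of `HC`.
-/

set_option autoImplicit false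
open Cfsg

namespace Cfsg.Agent.OddOrderCharacters.PF9.Reducible

open Cfsg.Agent.OddOrderCharacters.PFDefs
open Cfsg.Agent.OddOrderCharacters.PF9.Defs
open Cfsg.Agent.OddOrderCharacters.IndRes
open Cfsg.Agent.OddOrderCharacters.NormalInduced
open Cfsg.Agent.Characters.Core
open Cfsg.Agent.Characters.Linear

universe u

/-! ### General facts -/

/-- Deflation along a surjective homomorphism. -/
theorem exists_of_surjective {G Q : Type*} [Group G] [Group Q] [Finite G] (f : G →* Q)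
    (hf : Function.Surjective f) {χ : G → ℂ} (hχ : IsIrrCharacter G χ)
    (hker : ∀ g : G, f g = 1 → χ g = χ 1) :
    ∃ χ' : Q → ℂ, IsIrrCharacter Q χ' ∧ ∀ g : G, χ' (f g) = χ g := by
  classical
  have : Fintype f.ker := Fintype.ofFinite _
  have hsum : ∑ n : f.ker, χ n ≠ 0 := by
    rw [Finset.sum_congr rfl fun (n : f.ker) _ => hker n n.2, Finset.sum_const, Finset.card_univ,
      nsmul_eq_mul]
    refine mul_ne_zero ?_ (isIrr_apply_one_ne_zero hχ)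
    exact Nat.cast_ne_zero.mpr Fintype.card_ne_zero
  obtain ⟨χ₁, h₁⟩ := Cfsg.Agent.Blocks.Deflate.exists_deflation f.ker χ hχ hsum
  let e : G ⧸ f.ker ≃* Q := QuotientGroup.quotientKerEquivOfSurjective f hf
  refine ⟨(χ₁ : G ⧸ f.ker → ℂ) ∘ e.symm.toMonoidHom, isIrr_comp _ e.symm.surjective χ₁.2, ?_⟩
  intro g
  have h2 : e (QuotientGroup.mk g) = f g := rfl
  have h3 : e.symm (f g) = QuotientGroup.mk g := by rw [← h2, e.symm_apply_apply]
  show (χ₁ : G ⧸ f.ker → ℂ) (e.symm (f g)) = χ g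
  rw [h3, h₁]
  rfl

/-- An automorphism of a finite abelian group fixes as many linear characters as elements. -/
theorem card_fixed_hom {V : Type*} [Group V] [Finite V] (hc : ∀ a b : V, a * b = b * a)
    (α : V ≃* V) :
    Nat.card {ξ : V →* ℂˣ // ∀ v, ξ (α v) = ξ v} = Nat.card {v : V // α v = v} := by
  let _ : CommGroup V := { (inferInstance : Group V) with mul_comm := hc }
  let δ : V →* V := α.toMonoidHom / MonoidHom.id V
  have hδ : ∀ v, δ v = α v / v := fun v => rfl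
  have h1 : Nat.card {v : V // α v = v} = Nat.card δ.ker := by
    refine Nat.card_congr (Equiv.subtypeEquivRight fun v => ?_)
    rw [MonoidHom.mem_ker, hδ, div_eq_one]
  have h2 : Nat.card {ξ : V →* ℂˣ // ∀ v, ξ (α v) = ξ v} =
      Nat.card (MonoidHom.domRestrictHom δ.range ℂˣ).ker := by
    refine Nat.card_congr (Equiv.subtypeEquivRight fun ξ => ?_)
    rw [MonoidHom.mem_ker]
    constructor
    · intro h
      ext ⟨y, x, rfl⟩
      have := h x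
      simp only [MonoidHom.domRestrictHom_apply, MonoidHom.domRestrict_apply, hδ, map_div, this,
        div_self', MonoidHom.one_apply]
    · intro h v
      have h3 := DFunLike.congr_fun h ⟨δ v, v, rfl⟩
      simp only [MonoidHom.domRestrictHom_apply, MonoidHom.domRestrict_apply, hδ, map_div,
        MonoidHom.one_apply] at h3
      exact div_eq_one.mp h3
  rw [h1, h2, CommGroup.card_domRestrictHom_ker (M := ℂ) δ.range]
  have h4 := δ.range.card_eq_card_quotient_mul_card_subgroup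
  have h5 := δ.ker.card_eq_card_quotient_mul_card_subgroup
  have h6 : Nat.card (V ⧸ δ.ker) = Nat.card δ.range :=
    Nat.card_congr (QuotientGroup.quotientKerEquivRange δ).toEquiv
  rw [h6, h4, mul_comm] at h5
  exact Nat.eq_of_mul_eq_mul_left Nat.card_pos h5

/-! ### Group-theoretic facts -/

section groups

variable {L : Type u} [Group L] {K H U W₁ W₂ H₀ C : Subgroup L} {p q n : ℕ}

theorem exists_ne_one (s : Setup K H U W₁ W₂ H₀ C p q n) : ∃ w ∈ W₁, w ≠ 1 := by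
  have hp := s.hyp.W₁_prime
  have : Finite W₁ := Nat.finite_of_card_ne_zero hp.ne_zero
  have : Nontrivial W₁ := Finite.one_lt_card_iff_nontrivial.mp hp.one_lt
  obtain ⟨w, hw⟩ := exists_ne (1 : W₁)
  exact ⟨w, w.2, fun h => hw (Subtype.ext h)⟩

theorem mem_zpowers (s : Setup K H U W₁ W₂ H₀ C p q n) {v x : L} (hv : v ∈ W₁) (hv1 : v ≠ 1)
    (hx : x ∈ W₁) : x ∈ Subgroup.zpowers v := by
  have : Fact (Nat.card W₁).Prime := ⟨s.hyp.W₁_prime⟩
  have h1 : (⟨x, hx⟩ : W₁) ∈ Subgroup.zpowers (⟨v, hv⟩ : W₁) :=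
    mem_zpowers_of_prime_card rfl (fun h => hv1 (congrArg Subtype.val h))
  obtain ⟨k, hk⟩ := Subgroup.mem_zpowers_iff.mp h1
  exact Subgroup.mem_zpowers_iff.mpr ⟨k, congrArg Subtype.val hk⟩

theorem H_le_K (s : Setup K H U W₁ W₂ H₀ C p q n) : H ≤ K := by
  rw [← s.hyp.K_eq]; exact le_sup_left

theorem U_le_K (s : Setup K H U W₁ W₂ H₀ C p q n) : U ≤ K := by
  rw [← s.hyp.K_eq]; exact le_sup_right

theorem HC_le_K (s : Setup K H U W₁ W₂ H₀ C p q n) : H ⊔ C ≤ K :=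
  sup_le (H_le_K s) (s.C_lt.le.trans (U_le_K s))

theorem H₀C_le_HC (s : Setup K H U W₁ W₂ H₀ C p q n) : H₀ ⊔ C ≤ H ⊔ C :=
  sup_le_sup_right s.kernel.lt.le C

theorem exists_mul (s : Setup K H U W₁ W₂ H₀ C p q n) {g : L} (hg : g ∈ K) :
    ∃ h ∈ H, ∃ x ∈ U, h * x = g := by
  have := s.hyp.H_normal
  rw [← s.hyp.K_eq] at hg
  exact Subgroup.mem_sup_of_normal_left.mp hg

/-- `H ⊓ H₀C = H₀`. -/
theorem H_inf_H₀C (s : Setup K H U W₁ W₂ H₀ C p q n) {x : L} (hx : x ∈ H) (hx' : x ∈ H₀ ⊔ C) :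
    x ∈ H₀ := by
  have := s.kernel.normal
  obtain ⟨y, hy, c, hc, rfl⟩ := Subgroup.mem_sup_of_normal_left.mp hx'
  have hcH : c ∈ H := (Subgroup.mul_mem_cancel_left _ (s.kernel.lt.le hy)).mp hx
  have : c ∈ H ⊓ U := ⟨hcH, s.C_lt.le hc⟩
  rw [s.hyp.HU_inf, Subgroup.mem_bot] at this
  rw [this, mul_one]
  exact hy

/-- In `K / H₀`, the centralizer of `1 ≠ v ∈ W₁` is the image of `W₂`. -/
theorem fixed_K (s : Setup K H U W₁ W₂ H₀ C p q n) {v : L} (hv : v ∈ W₁) (hv1 : v ≠ 1) {x : L}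
    (hx : x ∈ K) (hc : v * x * v⁻¹ * x⁻¹ ∈ H₀) : ∃ y ∈ W₂, y⁻¹ * x ∈ H₀ := by
  have hHn := s.hyp.H_normal
  obtain ⟨h, hh, u, hu, rfl⟩ := exists_mul s hx
  have h1 : v * u * v⁻¹ * u⁻¹ ∈ H := by
    have e : v * (h * u) * v⁻¹ * (h * u)⁻¹ =
      (v * h * v⁻¹) * (v * u * v⁻¹ * u⁻¹) * h⁻¹ := by group
    have h2 := s.kernel.lt.le hc
    rw [e] at h2
    have h3 := (Subgroup.mul_mem_cancel_right _ (inv_mem hh)).mp h2
    exact (Subgroup.mul_mem_cancel_left _ (hHn.conj_mem h hh v)).mp h3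
  have h2 : v * u * v⁻¹ * u⁻¹ ∈ U := mul_mem (s.hyp.W₁_norm v hv u hu) (inv_mem hu)
  have h3 : v * u * v⁻¹ * u⁻¹ ∈ H ⊓ U := ⟨h1, h2⟩
  rw [s.hyp.HU_inf, Subgroup.mem_bot] at h3
  have h4 : u ∈ K ⊓ Subgroup.centralizer ({v} : Set L) := by
    refine Subgroup.mem_inf.mpr ⟨U_le_K s hu, Subgroup.mem_centralizer_singleton_iff.mpr ?_⟩
    rw [mul_inv_eq_one, mul_inv_eq_iff_eq_mul] at h3
    exact h3.symm
  rw [s.hyp.W₂_cent v hv hv1] at h4
  have h5 : u ∈ H ⊓ U := ⟨s.hyp.W₂_le h4, hu⟩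
  rw [s.hyp.HU_inf, Subgroup.mem_bot] at h5
  subst h5
  rw [mul_one] at hc ⊢
  exact s.W₁_fixed v hv hv1 h hh hc

theorem W₂_comm (s : Setup K H U W₁ W₂ H₀ C p q n) {v : L} (hv : v ∈ W₁) {x : L}
    (hx : x ∈ W₂) : v * x * v⁻¹ = x := by
  by_cases hv1 : v = 1
  · subst hv1; group
  · rw [← s.hyp.W₂_cent v hv hv1] at hx
    have := Subgroup.mem_centralizer_singleton_iff.mp hx.2
    rw [mul_inv_eq_iff_eq_mul]
    exact this.symm

/-! ### The upper bound -/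

variable [Finite L]

/-- At most `p` irreducible characters of `K` with `H₀` in the kernel are `W₁`-invariant. -/
theorem card_invariant_le (s : Setup K H U W₁ W₂ H₀ C p q n) {w : L} (hw : w ∈ W₁)
    (hw1 : w ≠ 1) [hK : K.Normal] :
    Nat.card {θ : IrrCharacter K // (∀ y : K, (y : L) ∈ H₀ → (θ : K → ℂ) y = (θ : K → ℂ) 1) ∧
      conjFn K (θ : K → ℂ) w = θ} ≤ p := by
  classical
  have hH₀ := s.kernel.normal
  let π : L →* L ⧸ H₀ := QuotientGroup.mk' H₀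
  have hπ : ∀ x, π x = 1 ↔ x ∈ H₀ := fun x => QuotientGroup.eq_one_iff x
  have hKb : (K.map π).Normal := hK.map π (QuotientGroup.mk'_surjective H₀)
  have hH₀K : H₀ ≤ K := s.kernel.lt.le.trans (H_le_K s)
  have hwK : w ∉ K := fun h => by
    have : w ∈ K ⊓ W₁ := ⟨h, hw⟩
    rw [s.hyp.W₁_inf, Subgroup.mem_bot] at this
    exact hw1 this
  have hwb : π w ≠ 1 := fun h => hwK (hH₀K ((hπ w).mp h))
  have hcop : Nat.Coprime (orderOf (π w)) (Nat.card (K.map π)) := by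
    have h1 : orderOf (π w) ∣ Nat.card W₁ :=
      (orderOf_map_dvd π w).trans (by
        rw [← Subgroup.orderOf_mk (a := w) hw]
        exact orderOf_dvd_natCard _)
    have h2 : Nat.card (K.map π) ∣ Nat.card K := Subgroup.card_map_dvd K π
    exact Nat.Coprime.coprime_dvd_left h1 (s.hyp.W₁_coprime.coprime_dvd_right h2)
  have hC : ∀ y ∈ Subgroup.zpowers (π w), y ≠ 1 →
      K.map π ⊓ Subgroup.centralizer ({y} : Set (L ⧸ H₀)) = W₂.map π := by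
    intro y hy hy1
    obtain ⟨k, rfl⟩ := Subgroup.mem_zpowers_iff.mp hy
    rw [← map_zpow] at hy1 ⊢
    have hv : w ^ k ∈ W₁ := zpow_mem hw k
    have hv1 : w ^ k ≠ 1 := fun h => hy1 (by rw [h, map_one])
    apply le_antisymm
    · rintro z hz
      obtain ⟨⟨x, hx, rfl⟩, hz2⟩ := Subgroup.mem_inf.mp hz
      have h1 := Subgroup.mem_centralizer_singleton_iff.mp hz2
      have h2 : w ^ k * x * (w ^ k)⁻¹ * x⁻¹ ∈ H₀ := by
        rw [← hπ]
        simp only [map_mul, map_inv]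
        rw [mul_inv_eq_one, mul_inv_eq_iff_eq_mul]
        exact h1.symm
      obtain ⟨y, hy, h3⟩ := fixed_K s hv hv1 hx h2
      refine ⟨y, hy, ?_⟩
      have h4 := (hπ _).mpr h3
      rw [map_mul, map_inv, inv_mul_eq_one] at h4
      exact h4
    · rintro z ⟨y, hy, rfl⟩
      refine Subgroup.mem_inf.mpr ⟨⟨y, (s.hyp.W₂_le.trans (H_le_K s)) hy, rfl⟩,
        Subgroup.mem_centralizer_singleton_iff.mpr ?_⟩
      have h1 := W₂_comm s hv hy
      rw [mul_inv_eq_iff_eq_mul] at h1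
      rw [← map_mul, ← map_mul, h1]
  have hcard : Nat.card (W₂.map π) = p := by
    rw [← Subgroup.relIndex_ker, QuotientGroup.ker_mk', ← s.W₂_bar, Subgroup.inf_relIndex_left]
  have hbound := S1512.result (K.map π) (W₂.map π) (π w) hwb hcop hC
  rw [S0173.result, hcard] at hbound
  refine le_trans ?_ hbound
  let f : K →* K.map π := π.subgroupMap K
  have hf : Function.Surjective f := π.subgroupMap_surjective K
  have hex : ∀ θ : {θ : IrrCharacter K // (∀ y : K, (y : L) ∈ H₀ → (θ : K → ℂ) y =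
      (θ : K → ℂ) 1) ∧ conjFn K (θ : K → ℂ) w = θ},
      ∃ χ : {χ : IrrCharacter (K.map π) // (χ : K.map π → ℂ) ∘
        (MulAut.conjNormal (π w) : MulAut (K.map π)) = (χ : K.map π → ℂ)},
        ∀ y : K, (χ.1 : K.map π → ℂ) (f y) = (θ.1 : K → ℂ) y := by
    rintro ⟨⟨θ, hθ⟩, h1, h2⟩
    obtain ⟨χ, hχ, h3⟩ := exists_of_surjective f hf hθ (fun g hg => h1 g
      ((hπ _).mp (congrArg Subtype.val hg)))
    refine ⟨⟨⟨χ, hχ⟩, ?_⟩, h3⟩
    funext z
    obtain ⟨y, rfl⟩ := hf z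
    have e : (MulAut.conjNormal (π w) : MulAut (K.map π)) (f y) =
        f (⟨w * y * w⁻¹, hK.conj_mem y y.2 w⟩ : K) := by
      ext
      simp [f, MulAut.conjNormal_apply]
    show χ ((MulAut.conjNormal (π w) : MulAut (K.map π)) (f y)) = χ (f y)
    rw [e, h3, h3]
    exact congrFun h2 y
  choose F hF using hex
  have := finite_irr (G := K.map π)
  refine Nat.card_le_card_of_injective F ?_
  intro a b hab
  apply Subtype.ext
  apply Subtype.ext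
  funext y
  rw [← hF a y, ← hF b y, hab]

/-! ### The invariant linear characters of `HC / H₀C` -/

/-- The `w`-invariant linear characters of `T` trivial on `N`. -/
def Xi (T N : Subgroup L) (w : L) : Set (↥T →* ℂˣ) :=
  {ξ | (∀ t : ↥T, (t : L) ∈ N → ξ t = 1) ∧ ∀ t t' : ↥T, (t' : L) = w * t * w⁻¹ → ξ t' = ξ t}

theorem card_Xi_ge (s : Setup K H U W₁ W₂ H₀ C p q n) {w : L} (hw : w ∈ W₁) :
    p ≤ (Xi (H ⊔ C) (H₀ ⊔ C) w).ncard := by
  classical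
  have hN := s.H₀C_normal
  have hT := s.HC_normal
  let π : L →* L ⧸ (H₀ ⊔ C) := QuotientGroup.mk' (H₀ ⊔ C)
  have hπ : ∀ x, π x = 1 ↔ x ∈ H₀ ⊔ C := fun x => QuotientGroup.eq_one_iff x
  have hTb : ((H ⊔ C).map π).Normal := hT.map π (QuotientGroup.mk'_surjective (H₀ ⊔ C))
  have hcomm : ∀ a b : ↥((H ⊔ C).map π), a * b = b * a := by
    rintro ⟨_, a, ha, rfl⟩ ⟨_, b, hb, rfl⟩
    apply Subtype.ext
    show π a * π b = π b * π a
    have h1 : a * b * a⁻¹ * b⁻¹ ∈ H₀ ⊔ C :=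
      (s.HC_comm.trans (sup_le_sup_left (Subgroup.commutator_le_self C) H₀))
        (Subgroup.commutator_mem_commutator ha hb)
    have h2 := (hπ _).mpr h1
    simp only [map_mul, map_inv] at h2
    rwa [mul_inv_eq_one, mul_inv_eq_iff_eq_mul] at h2
  have hcard : Nat.card (W₂.map π) = p := by
    rw [← Subgroup.relIndex_ker, QuotientGroup.ker_mk', ← s.W₂_bar, ← Subgroup.inf_relIndex_left]
    congr 1
    apply le_antisymm
    · intro x hx
      obtain ⟨h1, h2⟩ := Subgroup.mem_inf.mp hx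
      exact Subgroup.mem_inf.mpr ⟨h1, H_inf_H₀C s (s.hyp.W₂_le h1) h2⟩
    · exact inf_le_inf_left W₂ le_sup_left
  have h1 := card_fixed_hom hcomm (MulAut.conjNormal (π w) : MulAut ↥((H ⊔ C).map π))
  have h2 : p ≤ Nat.card {v : ↥((H ⊔ C).map π) //
      (MulAut.conjNormal (π w) : MulAut ↥((H ⊔ C).map π)) v = v} := by
    rw [← hcard]
    have hex : ∀ y : ↥(W₂.map π), ∃ v : {v : ↥((H ⊔ C).map π) //
        (MulAut.conjNormal (π w) : MulAut ↥((H ⊔ C).map π)) v = v}, (v.1 : L ⧸ (H₀ ⊔ C)) = y := by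
      rintro ⟨_, y, hy, rfl⟩
      refine ⟨⟨⟨π y, y, (s.hyp.W₂_le.trans le_sup_left) hy, rfl⟩, ?_⟩, rfl⟩
      ext
      rw [MulAut.conjNormal_apply, ← map_inv, ← map_mul, ← map_mul, W₂_comm s hw hy]
    choose F hF using hex
    refine Nat.card_le_card_of_injective F fun a b hab => ?_
    apply Subtype.ext
    rw [← hF a, ← hF b, hab]
  rw [← h1] at h2
  refine h2.trans ?_
  rw [← Nat.card_coe_set_eq]
  let f : ↥(H ⊔ C) →* ↥((H ⊔ C).map π) := π.subgroupMap (H ⊔ C)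
  have hf : Function.Surjective f := π.subgroupMap_surjective (H ⊔ C)
  have hfin : Finite (↥(H ⊔ C) →* ℂˣ) := inferInstance
  refine Nat.card_le_card_of_injective (β := Xi (H ⊔ C) (H₀ ⊔ C) w)
    (fun ξ => ⟨ξ.1.comp f, ?_, ?_⟩) ?_
  · intro t ht
    have : f t = 1 := Subtype.ext ((hπ _).mpr ht)
    rw [MonoidHom.comp_apply, this, map_one]
  · intro t t' ht
    have : f t' = (MulAut.conjNormal (π w) : MulAut ↥((H ⊔ C).map π)) (f t) := by
      ext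
      rw [MulAut.conjNormal_apply]
      show π t' = π w * π t * (π w)⁻¹
      rw [ht, map_mul, map_mul, map_inv]
    rw [MonoidHom.comp_apply, MonoidHom.comp_apply, this, ξ.2]
  · intro a b hab
    apply Subtype.ext
    have h3 : a.1.comp f = b.1.comp f := congrArg Subtype.val hab
    ext z : 1
    obtain ⟨y, rfl⟩ := hf z
    exact DFunLike.congr_fun h3 y

/-! ### Stabilizers -/

omit [Finite L] in
/-- The stabilizer in `L` of a linear character of the normal subgroup `T`. -/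
def stab (T : Subgroup L) [hT : T.Normal] (ξ : ↥T →* ℂˣ) : Subgroup L where
  carrier := {g | ∀ t t' : ↥T, (t' : L) = g * t * g⁻¹ → ξ t' = ξ t}
  mul_mem' := by
    intro a b ha hb t t' h
    have h1 := hb t ⟨b * t * b⁻¹, hT.conj_mem t t.2 b⟩ rfl
    rw [← h1]
    refine ha _ t' ?_
    rw [h]
    group
  one_mem' := by
    intro t t' h
    congr 1
    apply Subtype.ext
    rw [h]
    group
  inv_mem' := by
    intro a ha t t' h
    refine (ha t' t ?_).symm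
    rw [h]
    group

omit [Finite L] in
theorem mem_stab (T : Subgroup L) [T.Normal] (ξ : ↥T →* ℂˣ) (g : L) :
    g ∈ stab T ξ ↔ ∀ t t' : ↥T, (t' : L) = g * t * g⁻¹ → ξ t' = ξ t := Iff.rfl

omit [Finite L] in
theorem le_stab (T : Subgroup L) [T.Normal] (ξ : ↥T →* ℂˣ) : T ≤ stab T ξ := by
  intro g hg t t' h
  have : t' = ⟨g, hg⟩ * t * (⟨g, hg⟩ : T)⁻¹ := Subtype.ext h
  rw [this, map_mul, map_mul, map_inv, mul_comm (ξ ⟨g, hg⟩), mul_assoc, mul_inv_cancel, mul_one]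

omit [Finite L] in
/-- A nonprincipal `W₁`-invariant linear character of `HC / H₀C` has stabilizer `HC` in `K`. -/
theorem stab_le (s : Setup K H U W₁ W₂ H₀ C p q n) [(H ⊔ C).Normal] {ξ : ↥(H ⊔ C) →* ℂˣ}
    (h0 : ∀ t : ↥(H ⊔ C), (t : L) ∈ H₀ ⊔ C → ξ t = 1) (hW : W₁ ≤ stab (H ⊔ C) ξ) (h1 : ξ ≠ 1) :
    K ⊓ stab (H ⊔ C) ξ ≤ H ⊔ C := by
  have hHn := s.hyp.H_normal
  have hH₀ := s.kernel.normal
  set S := stab (H ⊔ C) ξ with hS
  have hTS : H ⊔ C ≤ S := le_stab (H ⊔ C) ξ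
  have hCU := s.C_lt.le
  set A := U ⊓ S with hA
  have hCA : C ≤ A := le_inf hCU (le_sup_right.trans hTS)
  have key : ∀ x : L, (∀ a ∈ A, x * a * x⁻¹ ∈ A) → ∀ m ∈ H₀ ⊔ ⁅A, H⁆,
      x * m * x⁻¹ ∈ H₀ ⊔ ⁅A, H⁆ := by
    intro x hx
    have h2 : H₀ ⊔ ⁅A, H⁆ ≤ (H₀ ⊔ ⁅A, H⁆).comap (MulAut.conj x).toMonoidHom := by
      refine sup_le (fun m hm => ?_) (Subgroup.commutator_le.mpr fun a ha h hh => ?_)
      · exact (le_sup_left : H₀ ≤ H₀ ⊔ ⁅A, H⁆) (hH₀.conj_mem m hm x)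
      · refine (le_sup_right : ⁅A, H⁆ ≤ H₀ ⊔ ⁅A, H⁆) ?_
        show x * (a * h * a⁻¹ * h⁻¹) * x⁻¹ ∈ ⁅A, H⁆
        have e : x * (a * h * a⁻¹ * h⁻¹) * x⁻¹ = (x * a * x⁻¹) * (x * h * x⁻¹) *
            (x * a * x⁻¹)⁻¹ * (x * h * x⁻¹)⁻¹ := by group
        rw [e]
        exact Subgroup.commutator_mem_commutator (hx a ha) (hHn.conj_mem h hh x)
    exact fun m hm => h2 hm
  have hAH : ⁅A, H⁆ ≤ H := by
    refine Subgroup.commutator_le.mpr fun a _ h hh => ?_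
    exact mul_mem (hHn.conj_mem h hh a) (inv_mem hh)
  rcases s.irr (H₀ ⊔ ⁅A, H⁆) le_sup_left (sup_le s.kernel.lt.le hAH)
    (fun x hx => key x fun a ha => by
      have h2 : x * a * x⁻¹ * a⁻¹ ∈ C :=
        s.U_der_le (Subgroup.commutator_mem_commutator hx (Subgroup.mem_inf.mp ha).1)
      have h3 : x * a * x⁻¹ = (x * a * x⁻¹ * a⁻¹) * a := by group
      rw [h3]
      exact mul_mem (hCA h2) ha)
    (fun v hv => key v fun a ha => by
      obtain ⟨h2, h3⟩ := Subgroup.mem_inf.mp ha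
      exact Subgroup.mem_inf.mpr ⟨s.hyp.W₁_norm v hv a h2,
        mul_mem (mul_mem (hW hv) h3) (inv_mem (hW hv))⟩) with h2 | h2
  · rintro g hg
    obtain ⟨hgK, hgS⟩ := Subgroup.mem_inf.mp hg
    obtain ⟨h, hh, x, hx, rfl⟩ := exists_mul s hgK
    have hhT : h ∈ H ⊔ C := (le_sup_left : H ≤ H ⊔ C) hh
    have hxS : x ∈ S := (Subgroup.mul_mem_cancel_left _ (hTS hhT)).mp hgS
    have hxC : x ∈ C := by
      rw [s.mem_C]
      refine ⟨hx, fun y hy => ?_⟩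
      have h3 : x * y * x⁻¹ * y⁻¹ ∈ ⁅A, H⁆ :=
        Subgroup.commutator_mem_commutator (Subgroup.mem_inf.mpr ⟨hx, hxS⟩) hy
      rw [← h2]
      exact (le_sup_right : ⁅A, H⁆ ≤ H₀ ⊔ ⁅A, H⁆) h3
    exact mul_mem hhT ((le_sup_right : C ≤ H ⊔ C) hxC)
  · exfalso
    apply h1
    have hker : H ⊔ C ≤ ξ.ker.map (H ⊔ C).subtype := by
      have h3 : ∀ x ∈ H₀ ⊔ C, x ∈ ξ.ker.map (H ⊔ C).subtype := fun x hx =>
        ⟨⟨x, H₀C_le_HC s hx⟩, h0 ⟨x, H₀C_le_HC s hx⟩ hx, rfl⟩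
      refine sup_le ?_ fun x hx => h3 x ((le_sup_right : C ≤ H₀ ⊔ C) hx)
      refine h2.ge.trans ?_
      refine sup_le (fun x hx => h3 x ((le_sup_left : H₀ ≤ H₀ ⊔ C) hx)) ?_
      rw [Subgroup.commutator_le]
      intro a ha h hh
      have hhT : h ∈ H ⊔ C := (le_sup_left : H ≤ H ⊔ C) hh
      have hhT' : a * h * a⁻¹ ∈ H ⊔ C := (le_sup_left : H ≤ H ⊔ C) (hHn.conj_mem h hh a)
      refine ⟨⟨a * h * a⁻¹, hhT'⟩ * (⟨h, hhT⟩ : ↥(H ⊔ C))⁻¹, ?_, rfl⟩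
      have h4 := (Subgroup.mem_inf.mp ha).2 ⟨h, hhT⟩ ⟨a * h * a⁻¹, hhT'⟩ rfl
      show ξ _ = 1
      rw [map_mul, map_inv, h4, mul_inv_cancel]
    ext t : 1
    obtain ⟨t', ht', h3⟩ := hker t.2
    have h4 : t' = t := Subtype.ext h3
    rw [← h4]
    exact ht'

omit [Finite L] in
/-- `HC ⊓ U = C`. -/
theorem HC_inf_U (s : Setup K H U W₁ W₂ H₀ C p q n) {x : L} (hx : x ∈ H ⊔ C) (hx' : x ∈ U) :
    x ∈ C := by
  have := s.hyp.H_normal
  obtain ⟨h, hh, c, hc, rfl⟩ := Subgroup.mem_sup_of_normal_left.mp hx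
  have hhU : h ∈ U := (Subgroup.mul_mem_cancel_right _ (s.C_lt.le hc)).mp hx'
  have : h ∈ H ⊓ U := ⟨hh, hhU⟩
  rw [s.hyp.HU_inf, Subgroup.mem_bot] at this
  rw [this, one_mul]
  exact hc

omit [Finite L] in
theorem relIndex_HC (s : Setup K H U W₁ W₂ H₀ C p q n) : (H ⊔ C).relIndex K = n := by
  have hT := s.HC_normal
  have h1 : K = U ⊔ (H ⊔ C) := by
    rw [← s.hyp.K_eq]
    apply le_antisymm
    · exact sup_le (le_sup_left.trans le_sup_right) le_sup_left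
    · exact sup_le le_sup_right (sup_le_sup_left s.C_lt.le H)
  rw [h1, Subgroup.relIndex_sup_right, ← s.u_eq, ← Subgroup.inf_relIndex_right]
  congr 1
  apply le_antisymm
  · intro x hx
    obtain ⟨h2, h3⟩ := Subgroup.mem_inf.mp hx
    exact HC_inf_U s h2 h3
  · exact le_inf le_sup_right s.C_lt.le

end groups

/-! ### The characters `θ_ξ` -/

theorem eq_one_of_sum {ι : Type*} [Fintype ι] (z : ι → ℂ) (hz : ∀ i, ‖z i‖ = 1)
    (hs : ∑ i, z i = Fintype.card ι) (i : ι) : z i = 1 := by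
  have hre : ∀ i, (z i).re ≤ 1 := fun i => (Complex.re_le_norm (z i)).trans (hz i).le
  have h1 : ∑ i, (1 - (z i).re) = 0 := by
    rw [Finset.sum_sub_distrib, ← Complex.re_sum, hs]
    simp
  have h2 := (Finset.sum_eq_zero_iff_of_nonneg (fun i _ => sub_nonneg.mpr (hre i))).mp h1 i
    (Finset.mem_univ i)
  have h3 : (z i).re = 1 := by linarith
  have h4 : (z i).re ^ 2 + (z i).im ^ 2 = 1 := by
    have := hz i
    rw [Complex.norm_eq_sqrt_sq_add_sq, Real.sqrt_eq_one] at this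
    exact this
  apply Complex.ext
  · rw [h3, Complex.one_re]
  · rw [h3] at h4
    have h5 : (z i).im ^ 2 = 0 := by linarith
    rw [Complex.one_im]
    exact pow_eq_zero_iff (two_ne_zero) |>.mp h5

section theta

variable {L : Type u} [Group L] [Fintype L]

/-- The homomorphism `ξ` seen on the subgroup `T.subgroupOf K` of `↥K`. -/
def xiK (K T : Subgroup L) (ξ : ↥T →* ℂˣ) : ↥(T.subgroupOf K) →* ℂˣ where
  toFun x := ξ ⟨((x : K) : L), Subgroup.mem_subgroupOf.mp x.2⟩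
  map_one' := map_one ξ
  map_mul' a b := map_mul ξ ⟨((a : K) : L), Subgroup.mem_subgroupOf.mp a.2⟩
    ⟨((b : K) : L), Subgroup.mem_subgroupOf.mp b.2⟩

/-- `θ_ξ = Ind_T^K ξ`. -/
noncomputable def theta (K T : Subgroup L) [Fintype K] (ξ : ↥T →* ℂˣ) : ↥K → ℂ :=
  indFun (T.subgroupOf K) (fun x => (xiK K T ξ x : ℂ))

variable {K T : Subgroup L} [Fintype K]

theorem indFun_theta (hTK : T ≤ K) (ξ : ↥T →* ℂˣ) :
    indFun K (theta K T ξ) = indFun T (fun x => (ξ x : ℂ)) :=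
  indFun_trans T K hTK (fun x => (ξ x : ℂ))

omit [Fintype L] in
theorem theta_one (ξ : ↥T →* ℂˣ) : theta K T ξ 1 = (T.relIndex K : ℂ) := by
  rw [theta, indFun_apply_one, map_one, Units.val_one, mul_one]
  rfl

omit [Fintype L] in
theorem theta_coe [T.Normal] (ξ : ↥T →* ℂˣ) (y : T.subgroupOf K) :
    theta K T ξ (y : K) = (Nat.card (T.subgroupOf K) : ℂ)⁻¹ *
      ∑ g : K, (xiK K T ξ (MulAut.conjNormal g y) : ℂ) :=
  indFun_coe (T.subgroupOf K) _ y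

omit [Fintype L] in
theorem theta_eq_of_trivial [hT : T.Normal] {ξ : ↥T →* ℂˣ} {N : Subgroup L} [hN : N.Normal]
    (hNT : N ≤ T) (h0 : ∀ t : ↥T, (t : L) ∈ N → ξ t = 1) {y : K} (hy : (y : L) ∈ N) :
    theta K T ξ y = theta K T ξ 1 := by
  have key : ∀ z : K, (z : L) ∈ N → theta K T ξ z = (Nat.card (T.subgroupOf K) : ℂ)⁻¹ *
      ∑ g : K, 1 := by
    intro z hz
    rw [show z = ((⟨z, hNT hz⟩ : T.subgroupOf K) : K) from rfl, theta_coe]
    congr 1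
    refine Finset.sum_congr rfl fun g _ => ?_
    have : xiK K T ξ (MulAut.conjNormal g ⟨z, hNT hz⟩) = 1 := by
      refine h0 _ ?_
      show (g : L) * z * (g : L)⁻¹ ∈ N
      exact hN.conj_mem z hz g
    rw [this, Units.val_one]
  rw [key y hy, key 1 N.one_mem]

omit [Fintype L] in
theorem eq_one_of_theta [hT : T.Normal] {ξ : ↥T →* ℂˣ} {y : ↥T} (hy : (y : L) ∈ K)
    (h : theta K T ξ ⟨y, hy⟩ = theta K T ξ 1) : ξ y = 1 := by
  have hc : (Nat.card (T.subgroupOf K) : ℂ) ≠ 0 := card_ne_zero_complex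
  have h1 := theta_coe ξ (⟨⟨y, hy⟩, y.2⟩ : T.subgroupOf K)
  have h2 := theta_coe ξ (1 : T.subgroupOf K)
  have h3 : theta K T ξ ((1 : T.subgroupOf K) : K) = theta K T ξ 1 := rfl
  have h4 : theta K T ξ ((⟨⟨y, hy⟩, y.2⟩ : T.subgroupOf K) : K) = theta K T ξ ⟨y, hy⟩ := rfl
  rw [h3] at h2
  rw [h4, h, h2] at h1
  have h5 := mul_left_cancel₀ (inv_ne_zero hc) h1
  have h6 : ∑ g : K, (xiK K T ξ (MulAut.conjNormal g 1) : ℂ) = Fintype.card K := by
    simp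
  rw [h6] at h5
  have h7 := eq_one_of_sum _ (fun g => norm_hom_apply (xiK K T ξ) _) h5.symm 1
  have h8 : (MulAut.conjNormal (1 : K) : MulAut (T.subgroupOf K)) ⟨⟨y, hy⟩, y.2⟩ =
      ⟨⟨y, hy⟩, y.2⟩ := by
    rw [map_one]; rfl
  rw [h8] at h7
  exact Units.ext h7

omit [Fintype L] in
theorem theta_conj [hT : T.Normal] [hK : K.Normal] {ξ : ↥T →* ℂˣ} {w : L} (hw : w ∈ stab T ξ) :
    conjFn K (theta K T ξ) w = theta K T ξ := by
  have key : ∀ z z' : K, (z' : L) = w * z * w⁻¹ →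
      extendByZero (T.subgroupOf K) (fun x => (xiK K T ξ x : ℂ)) z' =
      extendByZero (T.subgroupOf K) (fun x => (xiK K T ξ x : ℂ)) z := by
    intro z z' h
    by_cases hz : (z : L) ∈ T
    · have hz' : (z' : L) ∈ T := by rw [h]; exact hT.conj_mem z hz w
      have e1 : z ∈ T.subgroupOf K := hz
      have e2 : z' ∈ T.subgroupOf K := hz'
      rw [extendByZero_of_mem _ _ e1, extendByZero_of_mem _ _ e2]
      exact congrArg Units.val (hw ⟨z, hz⟩ ⟨z', hz'⟩ h)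
    · have hz' : (z' : L) ∉ T := by
        intro h'
        apply hz
        have := hT.conj_mem _ h' w⁻¹
        rw [h] at this
        have e : w⁻¹ * (w * z * w⁻¹) * w⁻¹⁻¹ = z := by group
        rwa [e] at this
      have e1 : z ∉ T.subgroupOf K := hz
      have e2 : z' ∉ T.subgroupOf K := hz'
      rw [extendByZero_of_notMem _ _ e1, extendByZero_of_notMem _ _ e2]
  funext y
  rw [conjFn_apply, theta, indFun_apply, indFun_apply]
  congr 1
  refine Fintype.sum_equiv (MulAut.conjNormal w⁻¹ : MulAut K).toEquiv _ _ fun x => ?_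
  refine key _ _ ?_
  simp only [MulEquiv.toEquiv_eq_coe, EquivLike.coe_coe, Subgroup.coe_mul, Subgroup.coe_inv,
    MulAut.conjNormal_apply]
  group

omit [Fintype L] in
theorem theta_irr [hT : T.Normal] (hTK : T ≤ K) {ξ : ↥T →* ℂˣ} (h : K ⊓ stab T ξ ≤ T) :
    IsIrrCharacter K (theta K T ξ) := by
  refine isIrr_indFun_of_stabilizer (T.subgroupOf K) (isIrrCharacter_hom (xiK K T ξ)) ?_
  intro g hg
  refine h (Subgroup.mem_inf.mpr ⟨g.2, ?_⟩)
  intro t t' ht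
  have h1 := congrFun hg ⟨⟨t, hTK t.2⟩, t.2⟩
  have h3 : conjFn (T.subgroupOf K) (fun x => (xiK K T ξ x : ℂ)) g ⟨⟨t, hTK t.2⟩, t.2⟩ =
      (ξ t' : ℂ) := by
    show (ξ _ : ℂ) = ξ t'
    congr 2
    exact Subtype.ext ht.symm
  rw [h3] at h1
  exact Units.ext h1

omit [Fintype L] in
theorem exists_conj_of_theta_eq [hT : T.Normal] (hTK : T ≤ K) {ξ ξ' : ↥T →* ℂˣ}
    (h : theta K T ξ = theta K T ξ') :
    ∃ g ∈ K, ∀ t t' : ↥T, (t' : L) = g * t * g⁻¹ → ξ' t' = ξ t := by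
  obtain ⟨g, hg⟩ := (indFun_eq_iff (T.subgroupOf K) (isIrrCharacter_hom (xiK K T ξ))
    (isIrrCharacter_hom (xiK K T ξ'))).mp h
  refine ⟨g, g.2, fun t t' ht => ?_⟩
  have h1 := congrFun hg ⟨⟨t, hTK t.2⟩, t.2⟩
  have h3 : conjFn (T.subgroupOf K) (fun x => (xiK K T ξ' x : ℂ)) g ⟨⟨t, hTK t.2⟩, t.2⟩ =
      (ξ' t' : ℂ) := by
    show (ξ' _ : ℂ) = ξ' t'
    congr 2
    exact Subtype.ext ht.symm
  rw [h3] at h1
  exact Units.ext h1

end theta

section main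

variable {L : Type u} [Group L] [Fintype L] {K H U W₁ W₂ H₀ C : Subgroup L} {p q n : ℕ}

omit [Fintype L] in
theorem W₁_le_stab (s : Setup K H U W₁ W₂ H₀ C p q n) [(H ⊔ C).Normal] {w : L}
    (hw : w ∈ W₁) (hw1 : w ≠ 1) {ξ : ↥(H ⊔ C) →* ℂˣ}
    (hξ : ξ ∈ Xi (H ⊔ C) (H₀ ⊔ C) w) : W₁ ≤ stab (H ⊔ C) ξ := by
  have h1 : w ∈ stab (H ⊔ C) ξ := hξ.2
  intro v hv
  exact (Subgroup.zpowers_le.mpr h1) (mem_zpowers s hw hw1 hv)

omit [Fintype L] in
theorem theta_injOn (s : Setup K H U W₁ W₂ H₀ C p q n) [Fintype K] [(H ⊔ C).Normal]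
    {w : L} (hw : w ∈ W₁) (hw1 : w ≠ 1)
    {ξ ξ' : ↥(H ⊔ C) →* ℂˣ} (hξ : ξ ∈ Xi (H ⊔ C) (H₀ ⊔ C) w)
    (hξ' : ξ' ∈ Xi (H ⊔ C) (H₀ ⊔ C) w) (h1 : ξ' ≠ 1)
    (h : theta K (H ⊔ C) ξ = theta K (H ⊔ C) ξ') : ξ = ξ' := by
  have hT : (H ⊔ C).Normal := inferInstance
  obtain ⟨g, hg, hconj⟩ := exists_conj_of_theta_eq (HC_le_K s) h
  obtain ⟨a, ha, x, hx, rfl⟩ := exists_mul s hg
  have haT : a ∈ H ⊔ C := (le_sup_left : H ≤ H ⊔ C) ha
  have haS : a ∈ stab (H ⊔ C) ξ' := le_stab (H ⊔ C) ξ' haT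
  have hconj2 : ∀ t t' : ↥(H ⊔ C), (t' : L) = x * t * x⁻¹ → ξ' t' = ξ t := by
    intro t t' ht
    rw [← hconj t ⟨a * t' * a⁻¹, hT.conj_mem t' t'.2 a⟩ (by
      show a * (t' : L) * a⁻¹ = a * x * (t : L) * (a * x)⁻¹
      rw [ht]; group)]
    exact (haS t' _ rfl).symm
  have hwS : w ∈ stab (H ⊔ C) ξ := hξ.2
  have hwS' : w ∈ stab (H ⊔ C) ξ' := hξ'.2
  have hy : x * w * x⁻¹ ∈ stab (H ⊔ C) ξ' := by
    intro t t' ht
    let t₁ : ↥(H ⊔ C) := ⟨x⁻¹ * t * x⁻¹⁻¹, hT.conj_mem t t.2 x⁻¹⟩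
    let t₂ : ↥(H ⊔ C) := ⟨w * t₁ * w⁻¹, hT.conj_mem t₁ t₁.2 w⟩
    have e1 : ξ' t = ξ t₁ := hconj2 t₁ t (by
      show (t : L) = x * (x⁻¹ * t * x⁻¹⁻¹) * x⁻¹
      group)
    have e2 : ξ t₂ = ξ t₁ := hwS t₁ t₂ rfl
    have e3 : ξ' t' = ξ t₂ := hconj2 t₂ t' (by
      rw [ht]
      show x * w * x⁻¹ * (t : L) * (x * w * x⁻¹)⁻¹ =
        x * (w * (x⁻¹ * t * x⁻¹⁻¹) * w⁻¹) * x⁻¹
      group)
    rw [e1, e3, e2]
  have hz : w * x * w⁻¹ * x⁻¹ ∈ stab (H ⊔ C) ξ' := by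
    have e : w * x * w⁻¹ * x⁻¹ = w * (x * w * x⁻¹)⁻¹ := by group
    rw [e]
    exact mul_mem hwS' (inv_mem hy)
  have hzU : w * x * w⁻¹ * x⁻¹ ∈ U := mul_mem (s.hyp.W₁_norm w hw x hx) (inv_mem hx)
  have hzT := stab_le s hξ'.1 (W₁_le_stab s hw hw1 hξ') h1
    (Subgroup.mem_inf.mpr ⟨U_le_K s hzU, hz⟩)
  have hxC : x ∈ C := s.W₁_free w hw hw1 x hx (HC_inf_U s hzT hzU)
  have hxS : x ∈ stab (H ⊔ C) ξ' := le_stab (H ⊔ C) ξ' ((le_sup_right : C ≤ H ⊔ C) hxC)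
  ext t : 1
  rw [← hconj2 t ⟨x * t * x⁻¹, hT.conj_mem t t.2 x⟩ rfl]
  exact hxS t _ rfl

omit [Fintype L] in
theorem index_K (s : Setup K H U W₁ W₂ H₀ C p q n) : K.index = q := by
  have := s.hyp.K_normal
  rw [← Subgroup.relIndex_top_right, ← s.hyp.W₁_sup, sup_comm, Subgroup.relIndex_sup_right,
    ← Subgroup.inf_relIndex_right, s.hyp.W₁_inf, Subgroup.relIndex_bot_left, s.q_eq]

omit [Fintype L] in
/-- A class function on `K` fixed by some element outside `K` is fixed by everything. -/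
theorem conjFn_all (s : Setup K H U W₁ W₂ H₀ C p q n) [hK : K.Normal] {θ : ↥K → ℂ}
    (hθ : IsClassFunction K θ) {g : L} (hg : g ∉ K) (h : conjFn K θ g = θ) (x : L) :
    conjFn K θ x = θ := by
  have hdec : ∀ x : L, ∃ k ∈ K, ∃ v ∈ W₁, k * v = x := fun x => by
    have : x ∈ K ⊔ W₁ := by rw [s.hyp.W₁_sup]; trivial
    exact Subgroup.mem_sup_of_normal_left.mp this
  let S : Subgroup L :=
    { carrier := {x | conjFn K θ x = θ}
      mul_mem' := fun {a b} ha hb => by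
        show conjFn K θ (a * b) = θ
        rw [conjFn_mul, show conjFn K θ a = θ from ha, show conjFn K θ b = θ from hb]
      one_mem' := conjFn_one K θ
      inv_mem' := fun {a} ha => by
        show conjFn K θ a⁻¹ = θ
        have h1 : conjFn K θ a = θ := ha
        conv_lhs => rw [← h1]
        rw [← conjFn_mul, mul_inv_cancel, conjFn_one] }
  have hKS : K ≤ S := fun k hk => conjFn_of_mem K hθ hk
  obtain ⟨k, hk, v, hv, rfl⟩ := hdec g
  have hv1 : v ≠ 1 := by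
    rintro rfl
    rw [mul_one] at hg
    exact hg hk
  have hvS : v ∈ S := (Subgroup.mul_mem_cancel_left S (hKS hk)).mp h
  obtain ⟨k', hk', v', hv', rfl⟩ := hdec x
  exact mul_mem (hKS hk') (Subgroup.zpowers_le.mpr hvS (mem_zpowers s hv hv1 hv'))

/-- (9.8)(b) = (9.9)(b) -/
theorem reducible_members (s : Setup K H U W₁ W₂ H₀ C p q n) :
    {ζ | ζ ∈ seqIndD K H H₀ ∧ ¬ IsIrrCharacter L ζ}.ncard = p - 1 ∧
      ∀ ζ ∈ seqIndD K H H₀, ¬ IsIrrCharacter L ζ → IsIndHC K H H₀ C q n ζ := by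
  classical
  have hK := s.hyp.K_normal
  have hT := s.HC_normal
  have hN := s.H₀C_normal
  have : Fintype K := Fintype.ofFinite K
  obtain ⟨w, hw, hw1⟩ := exists_ne_one s
  have hwK : w ∉ K := fun h => by
    have : w ∈ K ⊓ W₁ := ⟨h, hw⟩
    rw [s.hyp.W₁_inf, Subgroup.mem_bot] at this
    exact hw1 this
  set X : Set (↥(H ⊔ C) →* ℂˣ) := Xi (H ⊔ C) (H₀ ⊔ C) w \ {1} with hX
  have hXfin : X.Finite := Set.toFinite _
  have hXcard : p - 1 ≤ X.ncard :=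
    (Nat.sub_le_sub_right (card_Xi_ge s hw) 1).trans (Set.pred_ncard_le_ncard_sdiff_singleton _ _)
  -- properties of `θ_ξ`
  have hst : ∀ ξ ∈ X, K ⊓ stab (H ⊔ C) ξ ≤ H ⊔ C := fun ξ hξ =>
    stab_le s hξ.1.1 (W₁_le_stab s hw hw1 hξ.1) hξ.2
  have hirr : ∀ ξ ∈ X, IsIrrCharacter K (theta K (H ⊔ C) ξ) := fun ξ hξ =>
    theta_irr (HC_le_K s) (hst ξ hξ)
  have hconj : ∀ ξ ∈ X, conjFn K (theta K (H ⊔ C) ξ) w = theta K (H ⊔ C) ξ := fun ξ hξ =>
    theta_conj (W₁_le_stab s hw hw1 hξ.1 hw)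
  have hker : ∀ ξ ∈ X, ∀ y : K, (y : L) ∈ H₀ ⊔ C → theta K (H ⊔ C) ξ y = theta K (H ⊔ C) ξ 1 :=
    fun ξ hξ y hy => theta_eq_of_trivial (H₀C_le_HC s) hξ.1.1 hy
  have hnot : ∀ ξ ∈ X, ∃ x : K, (x : L) ∈ H ∧ theta K (H ⊔ C) ξ x ≠ theta K (H ⊔ C) ξ 1 := by
    intro ξ hξ
    by_contra hcon
    push Not at hcon
    apply hξ.2
    have hHn := s.hyp.H_normal
    have hH1 : ∀ t : ↥(H ⊔ C), (t : L) ∈ H → ξ t = 1 := fun t ht =>
      eq_one_of_theta (H_le_K s ht) (hcon ⟨t, H_le_K s ht⟩ ht)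
    refine MonoidHom.ext fun t => ?_
    obtain ⟨h, hh, c, hc, ht⟩ := Subgroup.mem_sup_of_normal_left.mp t.2
    have e : t = ⟨h, (le_sup_left : H ≤ H ⊔ C) hh⟩ * ⟨c, (le_sup_right : C ≤ H ⊔ C) hc⟩ :=
      Subtype.ext ht.symm
    rw [e, map_mul, hH1 _ hh, hξ.1.1 _ ((le_sup_right : C ≤ H₀ ⊔ C) hc), one_mul]
    rfl
  have hinj : Set.InjOn (theta K (H ⊔ C)) X := fun ξ hξ ξ' hξ' h =>
    theta_injOn s hw hw1 hξ.1 hξ'.1 hξ'.2 h
  -- the invariant irreducible characters with `H₀` in the kernel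
  set J : Set (↥K → ℂ) := {θ | IsIrrCharacter K θ ∧ (∀ y : K, (y : L) ∈ H₀ → θ y = θ 1) ∧
    conjFn K θ w = θ} with hJ
  have hfinirr : Finite (IrrCharacter K) := finite_irr
  have hJfin : J.Finite := by
    have h1 : J ⊆ Set.range (fun θ : IrrCharacter K => (θ : K → ℂ)) := fun θ hθ =>
      ⟨⟨θ, hθ.1⟩, rfl⟩
    exact (Set.finite_range _).subset h1
  have hJcard : J.ncard ≤ p := by
    refine le_trans (le_of_eq ?_) (card_invariant_le s hw hw1)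
    rw [← Nat.card_coe_set_eq]
    exact Nat.card_congr
      { toFun := fun θ => ⟨⟨θ.1, θ.2.1⟩, θ.2.2⟩
        invFun := fun θ => ⟨θ.1.1, θ.1.2, θ.2⟩
        left_inv := fun _ => rfl
        right_inv := fun _ => rfl }
  have hone : (fun _ => 1 : K → ℂ) ∉ theta K (H ⊔ C) '' X := by
    rintro ⟨ξ, hξ, h⟩
    obtain ⟨x, -, hx⟩ := hnot ξ hξ
    apply hx
    rw [h]
  have hsub : insert (fun _ => 1 : K → ℂ) (theta K (H ⊔ C) '' X) ⊆ J := by
    rintro θ (rfl | ⟨ξ, hξ, rfl⟩)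
    · refine ⟨?_, fun _ _ => rfl, rfl⟩
      have := isIrrCharacter_hom (1 : ↥K →* ℂˣ)
      simpa using this
    · exact ⟨hirr ξ hξ, fun y hy => hker ξ hξ y ((le_sup_left : H₀ ≤ H₀ ⊔ C) hy), hconj ξ hξ⟩
  have hcard1 : (insert (fun _ => 1 : K → ℂ) (theta K (H ⊔ C) '' X)).ncard = X.ncard + 1 := by
    rw [Set.ncard_insert_of_notMem hone (hXfin.image _), hinj.ncard_image]
  have hp1 := s.p_prime.one_lt
  have hle := Set.ncard_le_ncard hsub hJfin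
  have hJeq : insert (fun _ => 1 : K → ℂ) (theta K (H ⊔ C) '' X) = J :=
    Set.eq_of_subset_of_ncard_le hsub (by omega) hJfin
  have hXeq : X.ncard = p - 1 := by omega
  -- reducible members
  have hKne : K.index ≠ 1 := by
    rw [index_K s, ← s.q_eq]
    exact s.hyp.W₁_prime.ne_one
  have hred : ∀ θ ∈ J, ¬ IsIrrCharacter L (indFun K θ) := by
    intro θ hθ hcon
    have h1 := classInner_irr_self hcon
    rw [classInner_indFun_self K hθ.1] at h1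
    have h2 : Nat.card {g : L // conjFn K θ g = θ} = Nat.card L := by
      refine Nat.card_congr (Equiv.subtypeUnivEquiv fun g => ?_)
      exact conjFn_all s (isIrr_isClassFunction hθ.1) hwK hθ.2.2 g
    rw [h2, ← K.card_mul_index] at h1
    push_cast at h1
    rw [← mul_assoc, inv_mul_cancel₀ (card_ne_zero_complex (G := K)), one_mul] at h1
    exact hKne (by exact_mod_cast h1)
  have hset : {ζ | ζ ∈ seqIndD K H H₀ ∧ ¬ IsIrrCharacter L ζ} =
      (fun ξ => indFun K (theta K (H ⊔ C) ξ)) '' X := by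
    apply Set.Subset.antisymm
    · rintro ζ ⟨hζ, hζ2⟩
      obtain ⟨θ, ⟨h1, ⟨x, hx, hx2⟩, h3⟩, rfl⟩ := (mem_seqIndD_iff K H H₀ ζ).mp hζ
      have h4 : ∃ g : L, conjFn K θ g = θ ∧ g ∉ K := by
        by_contra hcon
        push Not at hcon
        exact hζ2 (isIrr_indFun_of_stabilizer K h1 hcon)
      obtain ⟨g, hg, hgK⟩ := h4
      have h5 : θ ∈ J := ⟨h1, h3, conjFn_all s (isIrr_isClassFunction h1) hgK hg w⟩
      rw [← hJeq] at h5
      rcases h5 with rfl | ⟨ξ, hξ, rfl⟩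
      · exact absurd rfl hx2
      · exact ⟨ξ, hξ, rfl⟩
    · rintro _ ⟨ξ, hξ, rfl⟩
      have h5 : theta K (H ⊔ C) ξ ∈ J := hsub (Set.mem_insert_of_mem _ ⟨ξ, hξ, rfl⟩)
      exact ⟨(mem_seqIndD_iff K H H₀ _).mpr ⟨_, ⟨h5.1, hnot ξ hξ, h5.2.1⟩, rfl⟩, hred _ h5⟩
  refine ⟨?_, ?_⟩
  · rw [hset, Set.InjOn.ncard_image, hXeq]
    intro ξ hξ ξ' hξ' h
    apply hinj hξ hξ'
    obtain ⟨g, hg⟩ := (indFun_eq_iff K (hirr ξ hξ) (hirr ξ' hξ')).mp h
    rw [← hg]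
    exact conjFn_all s (isIrr_isClassFunction (hirr ξ' hξ')) hwK (hconj ξ' hξ') g
  · intro ζ hζ hζ2
    have h1 : ζ ∈ {ζ | ζ ∈ seqIndD K H H₀ ∧ ¬ IsIrrCharacter L ζ} := ⟨hζ, hζ2⟩
    rw [hset] at h1
    obtain ⟨ξ, hξ, rfl⟩ := h1
    refine ⟨?_, ?_, ξ, indFun_theta (HC_le_K s) ξ⟩
    · show indFun K (theta K (H ⊔ C) ξ) 1 = _
      rw [indFun_apply_one, theta_one, index_K s, relIndex_HC s]
    · exact (mem_seqIndD_iff K H (H₀ ⊔ C) _).mpr ⟨_, ⟨hirr ξ hξ, hnot ξ hξ, hker ξ hξ⟩, rfl⟩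

end main

end Cfsg.Agent.OddOrderCharacters.PF9.Reducible
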