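import Cfsg.Agent.OddOrderCharacters.PFDefs
set_option linter.all false

/-!
# Peterfalvi, Section 9: vocabulary (everything abstract, inside one finite group `L` of odd order)

In the application `L = ↥M`, `M` a maximal subgroup of Type II, III or IV, `K = M'`, `H = M_F`,
`U` the complement of `H` in `K`, and `W₁`, `W₂` the type-P data.
-/

set_option autoImplicit false
open Cfsg

namespace Cfsg.Agent.OddOrderCharacters.PF9.Defs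

universe u

variable {L : Type u} [Group L]

/-- Peterfalvi (9.2) and the output of (9.3), for subgroups of one finite group `L`. -/
structure Hyp (K H U W₁ W₂ : Subgroup L) : Prop where
  odd : Odd (Nat.card L)
  K_eq : H ⊔ U = K
  K_normal : K.Normal
  H_normal : H.Normal
  H_nilp : Group.IsNilpotent ↥H
  U_nilp : Group.IsNilpotent ↥U
  U_ne : U ≠ ⊥
  HU_inf : H ⊓ U = ⊥
  HU_coprime : (Nat.card ↥H).Coprime (Nat.card ↥U)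
  W₁_norm : ∀ w ∈ W₁, ∀ x ∈ U, w * x * w⁻¹ ∈ U
  W₁_prime : (Nat.card ↥W₁).Prime
  W₁_inf : K ⊓ W₁ = ⊥
  W₁_sup : K ⊔ W₁ = ⊤
  W₁_coprime : (Nat.card ↥W₁).Coprime (Nat.card ↥K)
  W₂_ne : W₂ ≠ ⊥
  W₂_cyclic : IsCyclic ↥W₂
  W₂_le : W₂ ≤ H
  W₂_cent : ∀ x ∈ W₁, x ≠ 1 → K ⊓ Subgroup.centralizer ({x} : Set L) = W₂
  U_der : ⁅U, U⁆ ≤ Subgroup.centralizer (H : Set L)
  not_cent : ¬ H ≤ Subgroup.centralizer (U : Set L)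
  cent_eq : H ⊓ Subgroup.centralizer ((U ⊔ W₁ : Subgroup L) : Set L) = ⊥

/-- Peterfalvi (9.4): `H₀` is normal in `L`, `H / H₀` is a chief factor of `L`, and `C_H(U) ≤ H₀`. -/
structure IsKernel (H U H₀ : Subgroup L) : Prop where
  normal : H₀.Normal
  lt : H₀ < H
  max : ∀ N : Subgroup L, N.Normal → H₀ ≤ N → N ≤ H → N = H₀ ∨ N = H
  cent_le : H ⊓ Subgroup.centralizer (U : Set L) ≤ H₀

/-- Peterfalvi (9.5), (9.6): the chief factor `H / H₀`, the subgroup `C = C_U(H / H₀)`, the numbers `p`, `q`, `u`,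
and the elementary facts about them.  `h : Hyp` and `IsKernel` imply `Setup` (theorem `setup_of_kernel`). -/
structure Setup (K H U W₁ W₂ H₀ C : Subgroup L) (p q u : ℕ) : Prop where
  hyp : Hyp K H U W₁ W₂
  kernel : IsKernel H U H₀
  mem_C : ∀ x : L, x ∈ C ↔ x ∈ U ∧ ∀ h ∈ H, x * h * x⁻¹ * h⁻¹ ∈ H₀
  p_prime : p.Prime
  q_eq : Nat.card ↥W₁ = q
  u_eq : C.relIndex U = u
  /-- `H / H₀` is elementary abelian of order `p ^ q`. -/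
  H_pow : ∀ x ∈ H, x ^ p ∈ H₀
  H_comm : ⁅H, H⁆ ≤ H₀
  card_bar : H₀.relIndex H = p ^ q
  /-- the image of `W₂` in `H / H₀` has order `p` -/
  W₂_bar : (W₂ ⊓ H₀).relIndex W₂ = p
  C_lt : C < U
  /-- `C_{H/H₀}(U) = 1` -/
  fixed : ∀ h ∈ H, (∀ x ∈ U, x * h * x⁻¹ * h⁻¹ ∈ H₀) → h ∈ H₀
  /-- `C_{H/H₀}(w) = W₂ H₀ / H₀` for `1 ≠ w ∈ W₁` -/
  W₁_fixed : ∀ w ∈ W₁, w ≠ 1 → ∀ h ∈ H, w * h * w⁻¹ * h⁻¹ ∈ H₀ → ∃ y ∈ W₂, y⁻¹ * h ∈ H₀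
  /-- `C_{U/C}(w) = 1` for `1 ≠ w ∈ W₁` -/
  W₁_free : ∀ w ∈ W₁, w ≠ 1 → ∀ x ∈ U, w * x * w⁻¹ * x⁻¹ ∈ C → x ∈ C
  U_conj_C : ∀ x ∈ U, ∀ c ∈ C, x * c * x⁻¹ ∈ C
  W₁_conj_C : ∀ w ∈ W₁, ∀ c ∈ C, w * c * w⁻¹ ∈ C
  U_der_le : ⁅U, U⁆ ≤ C
  /-- `U W₁` acts irreducibly on `H / H₀` -/
  irr : ∀ N : Subgroup L, H₀ ≤ N → N ≤ H → (∀ x ∈ U, ∀ n ∈ N, x * n * x⁻¹ ∈ N) →
    (∀ w ∈ W₁, ∀ n ∈ N, w * n * w⁻¹ ∈ N) → N = H₀ ∨ N = H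
  HC_normal : (H ⊔ C).Normal
  H₀C_normal : (H₀ ⊔ C).Normal
  H₀C'_normal : (H₀ ⊔ ⁅C, C⁆).Normal
  H₀U'_normal : (H₀ ⊔ ⁅U, U⁆).Normal
  HC_comm : ⁅H ⊔ C, H ⊔ C⁆ ≤ H₀ ⊔ ⁅C, C⁆
  u_gt : 1 < u
  u_odd : Odd u
  p_odd : Odd p
  q_odd : Odd q
  p_not_dvd_u : ¬ p ∣ u

/-- `U` acts irreducibly on `H / H₀` ("Galois case"). -/
def Galois (H U H₀ : Subgroup L) : Prop :=
  ∀ N : Subgroup L, H₀ ≤ N → N ≤ H → (∀ x ∈ U, ∀ n ∈ N, x * n * x⁻¹ ∈ N) → N = H₀ ∨ N = H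

/-- Peterfalvi (9.7)(a): `H / H₀` is the direct product of the `W₁`-conjugates of `H₁ / H₀`, of order `p` and
normalised by `U`; `U₁ = C_U(H₁ / H₀)`, `a = |U : U₁|`. -/
structure NonGalois (K H U W₁ W₂ H₀ C H₁ U₁ : Subgroup L) (p q u a : ℕ) : Prop where
  setup : Setup K H U W₁ W₂ H₀ C p q u
  H₀_le : H₀ ≤ H₁
  H₁_le : H₁ ≤ H
  H₁_index : H₀.relIndex H₁ = p
  H₁_norm : ∀ x ∈ U, ∀ h ∈ H₁, x * h * x⁻¹ ∈ H₁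
  /-- the `q` conjugates of `H₁` generate `H` (hence `H / H₀` is their direct product, by orders) -/
  sup_conj : (⨆ w ∈ W₁, H₁.map (MulAut.conj w).toMonoidHom) = H
  mem_U₁ : ∀ x : L, x ∈ U₁ ↔ x ∈ U ∧ ∀ h ∈ H₁, x * h * x⁻¹ * h⁻¹ ∈ H₀
  a_eq : U₁.relIndex U = a
  a_gt : 1 < a
  a_odd : Odd a
  a_dvd : a ∣ p - 1
  C_le : C ≤ U₁
  U_conj_U₁ : ∀ x ∈ U, ∀ y ∈ U₁, x * y * x⁻¹ ∈ U₁
  /-- `C` is the intersection of the `W₁`-conjugates of `U₁` -/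
  inf_conj : ∀ x ∈ U, (∀ w ∈ W₁, w * x * w⁻¹ ∈ U₁) → x ∈ C
  /-- `U / U₁` is cyclic -/
  cyclic : ∃ g ∈ U, ∀ x ∈ U, ∃ n : ℕ, (g ^ n)⁻¹ * x ∈ U₁
  /-- `U / C` embeds in the direct product of `q - 1` cyclic groups of order `a` -/
  embed : ∃ f : ↥U →* (Fin (q - 1) → Multiplicative (ZMod a)), f.ker = C.subgroupOf U
  u_dvd : u ∣ a ^ (q - 1)

/-- Peterfalvi (9.7)(b): coordinates in a field `F` with `p ^ q` elements. -/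
structure GaloisData (K H U W₁ W₂ H₀ C : Subgroup L) (p q u : ℕ) (F : Type) [Field F]
    (φ ψ : L → F) (η : L → (F ≃+* F)) : Prop where
  setup : Setup K H U W₁ W₂ H₀ C p q u
  card_F : Nat.card F = p ^ q
  φ_mul : ∀ x ∈ H, ∀ y ∈ H, φ (x * y) = φ x + φ y
  φ_ker : ∀ x ∈ H, φ x = 0 ↔ x ∈ H₀
  φ_surj : ∀ t : F, ∃ x ∈ H, φ x = t
  ψ_mul : ∀ x ∈ U, ∀ y ∈ U, ψ (x * y) = ψ x * ψ y
  ψ_ker : ∀ x ∈ U, ψ x = 1 ↔ x ∈ C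
  ψ_ne : ∀ x ∈ U, ψ x ≠ 0
  act_U : ∀ x ∈ U, ∀ h ∈ H, φ (x * h * x⁻¹) = ψ x * φ h
  act_W₁ : ∀ w ∈ W₁, ∀ h ∈ H, φ (w * h * w⁻¹) = η w (φ h)
  act_W₁_ψ : ∀ w ∈ W₁, ∀ x ∈ U, ψ (w * x * w⁻¹) = η w (ψ x)
  η_mul : ∀ w ∈ W₁, ∀ w' ∈ W₁, ∀ t, η (w * w') t = η w (η w' t)
  η_ne : ∀ w ∈ W₁, w ≠ 1 → ∀ t, η w t = t → t ^ p = t
  /-- the image of `W₂` is the prime field -/
  W₂_image : ∀ x ∈ H, φ x ^ p = φ x ↔ ∃ y ∈ W₂, y⁻¹ * x ∈ H₀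
  φ_one : ∃ y ∈ W₂, φ y = 1

section characters

variable [Fintype L]

open PFDefs

/-- `θ ∈ X(Y)`: `θ` is an irreducible character of `K` with `H ⊄ ker θ` and `Y ⊓ K ⊆ ker θ`. -/
structure InX (K H Y : Subgroup L) (θ : ↥K → ℂ) : Prop where
  irr : IsIrrCharacter ↥K θ
  not_ker : ∃ x : ↥K, (x : L) ∈ H ∧ θ x ≠ θ 1
  ker : ∀ y : ↥K, (y : L) ∈ Y → θ y = θ 1

theorem mem_seqIndD_iff (K H Y : Subgroup L) (φ : L → ℂ) :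
    φ ∈ seqIndD K H Y ↔ ∃ θ : ↥K → ℂ, InX K H Y θ ∧ φ = indFun K θ := by
  constructor
  · rintro ⟨θ, h1, h2, h3, rfl⟩
    exact ⟨θ, ⟨h1, h2, h3⟩, rfl⟩
  · rintro ⟨θ, ⟨h1, h2, h3⟩, rfl⟩
    exact ⟨θ, h1, h2, h3, rfl⟩

/-- `isIndHC ζ`: `ζ ∈ S(H₀C)` has degree `q u` and is induced from a linear character of `HC`. -/
structure IsIndHC (K H H₀ C : Subgroup L) (q u : ℕ) (ζ : L → ℂ) : Prop where
  degree : ζ 1 = (q : ℂ) * u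
  mem : ζ ∈ seqIndD K H (H₀ ⊔ C)
  ind : ∃ ξ : ↥(H ⊔ C) →* ℂˣ, ζ = indFun (H ⊔ C) (fun x => (ξ x : ℂ))

end characters

end Cfsg.Agent.OddOrderCharacters.PF9.Defs
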