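import Mathlib
import Cfsg.Agent.OddOrderCharacters.PF9.SevenLin
import Cfsg.Agent.OddOrderCharacters.PF9.Defs
set_option linter.all false

-- part: OddOrderCharacters/PF9/Act
section
/-!
# The conjugation action of `L` on a section `H / H₀`
-/

set_option autoImplicit false
set_option linter.style.haveILetI false
set_option linter.unusedSectionVars false

namespace Cfsg.Agent.OddOrderCharacters.PF9.Act

universe u

section action

variable {L : Type u} [Group L] (H H₀ : Subgroup L) [hH : H.Normal] [hH₀ : H₀.Normal]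

theorem map_conj (x : L) : (H₀.subgroupOf H).map ((MulAut.conjNormal x : MulAut ↥H) : ↥H →* ↥H) =
    H₀.subgroupOf H := by
  ext y
  rw [Subgroup.mem_map]
  constructor
  · rintro ⟨h, hh, rfl⟩
    rw [Subgroup.mem_subgroupOf] at hh ⊢
    have : (((MulAut.conjNormal x : MulAut ↥H) h : ↥H) : L) = x * h * x⁻¹ :=
      MulAut.conjNormal_apply x h
    show (((MulAut.conjNormal x : MulAut ↥H) h : ↥H) : L) ∈ H₀
    rw [this]
    exact hH₀.conj_mem _ hh x
  · intro hy
    rw [Subgroup.mem_subgroupOf] at hy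
    refine ⟨(MulAut.conjNormal x⁻¹ : MulAut ↥H) y, ?_, ?_⟩
    · rw [Subgroup.mem_subgroupOf]
      have : (((MulAut.conjNormal x⁻¹ : MulAut ↥H) y : ↥H) : L) = x⁻¹ * y * x⁻¹⁻¹ :=
        MulAut.conjNormal_apply x⁻¹ y
      rw [this]
      exact hH₀.conj_mem _ hy x⁻¹
    · show (MulAut.conjNormal x : MulAut ↥H) ((MulAut.conjNormal x⁻¹ : MulAut ↥H) y) = y
      rw [← MulAut.mul_apply, ← map_mul, mul_inv_cancel, map_one, MulAut.one_apply]

/-- The automorphism of `H / H₀` induced by conjugation by `x`. -/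
noncomputable def actFun (x : L) : MulAut (↥H ⧸ H₀.subgroupOf H) :=
  QuotientGroup.congr _ _ (MulAut.conjNormal x : MulAut ↥H) (map_conj H H₀ x)

theorem actFun_mk (x : L) (h : ↥H) :
    actFun H H₀ x (QuotientGroup.mk h) = QuotientGroup.mk ((MulAut.conjNormal x : MulAut ↥H) h) :=
  rfl

/-- The conjugation action of `L` on `H / H₀`. -/
noncomputable def act : L →* MulAut (↥H ⧸ H₀.subgroupOf H) where
  toFun := actFun H H₀
  map_one' := by
    ext v
    induction v using QuotientGroup.induction_on with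
    | H h => rw [actFun_mk, map_one, MulAut.one_apply, MulAut.one_apply]
  map_mul' x y := by
    ext v
    induction v using QuotientGroup.induction_on with
    | H h => rw [actFun_mk, map_mul, MulAut.mul_apply, MulAut.mul_apply, actFun_mk, actFun_mk]

theorem act_mk (x : L) (h : ↥H) (h' : ↥H) (he : (h' : L) = x * h * x⁻¹) :
    act H H₀ x (QuotientGroup.mk h) = QuotientGroup.mk h' := by
  show actFun H H₀ x (QuotientGroup.mk h) = QuotientGroup.mk h'
  rw [actFun_mk]
  congr 1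
  apply Subtype.ext
  rw [he]
  exact MulAut.conjNormal_apply x h

theorem mk_eq_iff (h h' : ↥H) : (QuotientGroup.mk h : ↥H ⧸ H₀.subgroupOf H) = QuotientGroup.mk h' ↔
    (h : L)⁻¹ * h' ∈ H₀ := by
  rw [QuotientGroup.eq, Subgroup.mem_subgroupOf]
  rfl

theorem mk_eq_one_iff (h : ↥H) : (QuotientGroup.mk h : ↥H ⧸ H₀.subgroupOf H) = 1 ↔
    (h : L) ∈ H₀ := by
  rw [QuotientGroup.eq_one_iff, Subgroup.mem_subgroupOf]

theorem act_eq_one_iff (x : L) : act H H₀ x = 1 ↔ ∀ h ∈ H, x * h * x⁻¹ * h⁻¹ ∈ H₀ := by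
  constructor
  · intro hx h hh
    have h1 : act H H₀ x (QuotientGroup.mk ⟨h, hh⟩) = QuotientGroup.mk ⟨h, hh⟩ := by
      rw [hx, MulAut.one_apply]
    rw [act_mk H H₀ x ⟨h, hh⟩ ⟨x * h * x⁻¹, hH.conj_mem h hh x⟩ rfl, mk_eq_iff] at h1
    have h2 := H₀.inv_mem h1
    have h3 := hH₀.conj_mem _ h2 (x * h * x⁻¹)
    convert h3 using 1
    group
  · intro hx
    ext v
    induction v using QuotientGroup.induction_on with
    | H h =>
      rw [act_mk H H₀ x h ⟨x * h * x⁻¹, hH.conj_mem h h.2 x⟩ rfl, MulAut.one_apply, mk_eq_iff]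
      have h2 := H₀.inv_mem (hx h h.2)
      have h3 := hH₀.conj_mem _ h2 (h : L)⁻¹
      convert h3 using 1
      simp only []
      group

theorem act_fix_iff (x : L) (h : ↥H) :
    act H H₀ x (QuotientGroup.mk h) = QuotientGroup.mk h ↔ x * h * x⁻¹ * (h : L)⁻¹ ∈ H₀ := by
  rw [act_mk H H₀ x h ⟨x * h * x⁻¹, hH.conj_mem h h.2 x⟩ rfl, mk_eq_iff]
  constructor
  · intro h1
    have h3 := hH₀.conj_mem _ (H₀.inv_mem h1) (x * h * x⁻¹)
    convert h3 using 1
    group
  · intro h1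
    have h3 := hH₀.conj_mem _ (H₀.inv_mem h1) (h : L)⁻¹
    convert h3 using 1
    simp only []
    group

end action

end Cfsg.Agent.OddOrderCharacters.PF9.Act
end

-- part: OddOrderCharacters/PF9/Seven
section
/-!
# Peterfalvi (9.7)(b), multiplicative form

`V` is an elementary abelian `p`-group of order `p ^ q`, `A` an abelian group of automorphisms acting
irreducibly, `w` an automorphism normalising `A`, fixing exactly `p` elements and commuting with no
nontrivial element of `A`.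
-/

set_option autoImplicit false
set_option linter.style.haveILetI false

namespace Cfsg.Agent.OddOrderCharacters.PF9.Seven

open Module Cfsg.Agent.OddOrderCharacters.PF9.SevenLin

section linearize

variable {p : ℕ} {V : Type*} [CommGroup V]

/-- The `ZMod p`-module structure on the additive version of a group of exponent `p`. -/
@[reducible] def zmod (hexp : ∀ v : V, v ^ p = 1) : Module (ZMod p) (Additive V) :=
  AddCommGroup.zmodModule (n := p) (fun x => by
    have := hexp x.toMul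
    exact congrArg Additive.ofMul this)

variable [Module (ZMod p) (Additive V)]

/-- The linear map given by an automorphism. -/
def lin (p : ℕ) [Module (ZMod p) (Additive V)] (a : MulAut V) : End (ZMod p) (Additive V) :=
  AddMonoidHom.toZModLinearMap p (MonoidHom.toAdditive (a : V →* V))

theorem lin_apply (a : MulAut V) (v : Additive V) :
    lin p a v = Additive.ofMul (a v.toMul) := rfl

theorem lin_mul (a b : MulAut V) : lin p (a * b) = lin p a * lin p b := by
  ext v; rfl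

theorem lin_one : lin p (1 : MulAut V) = 1 := by
  ext v; rfl

/-- The linear equivalence given by an automorphism. -/
def linEquiv (p : ℕ) [Module (ZMod p) (Additive V)] (a : MulAut V) :
    Additive V ≃ₗ[ZMod p] Additive V :=
  { lin p a with
    invFun := lin p a⁻¹
    left_inv := fun v => by
      show lin p a⁻¹ (lin p a v) = v
      rw [← Module.End.mul_apply, ← lin_mul, inv_mul_cancel, lin_one, Module.End.one_apply]
    right_inv := fun v => by
      show lin p a (lin p a⁻¹ v) = v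
      rw [← Module.End.mul_apply, ← lin_mul, mul_inv_cancel, lin_one, Module.End.one_apply] }

theorem linEquiv_coe (a : MulAut V) : ((linEquiv p a : Additive V ≃ₗ[ZMod p] Additive V) :
    End (ZMod p) (Additive V)) = lin p a := rfl

theorem linEquiv_symm_coe (a : MulAut V) :
    (((linEquiv p a).symm : Additive V ≃ₗ[ZMod p] Additive V) :
    End (ZMod p) (Additive V)) = lin p a⁻¹ := rfl

theorem linEquiv_apply (a : MulAut V) (v : Additive V) :
    linEquiv p a v = Additive.ofMul (a v.toMul) := rfl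

/-- The subgroup of `V` given by an invariant subspace. -/
def subgroupOf (X : Submodule (ZMod p) (Additive V)) : Subgroup V :=
  AddSubgroup.toSubgroup' X.toAddSubgroup

theorem mem_subgroupOf (X : Submodule (ZMod p) (Additive V)) (v : V) :
    v ∈ subgroupOf X ↔ Additive.ofMul v ∈ X := Iff.rfl

theorem subgroupOf_eq_bot (X : Submodule (ZMod p) (Additive V)) (h : subgroupOf X = ⊥) :
    X = ⊥ := by
  rw [eq_bot_iff]
  intro v hv
  have : v.toMul ∈ subgroupOf X := hv
  rw [h, Subgroup.mem_bot] at this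
  rw [Submodule.mem_bot]
  exact congrArg Additive.ofMul this

theorem subgroupOf_eq_top (X : Submodule (ZMod p) (Additive V)) (h : subgroupOf X = ⊤) :
    X = ⊤ := by
  rw [eq_top_iff]
  intro v _
  have : v.toMul ∈ subgroupOf X := by rw [h]; trivial
  exact this

theorem inv_lin_iff [Fact p.Prime] (A : Set (MulAut V)) (X : Submodule (ZMod p) (Additive V)) :
    SevenLin.Inv (lin p '' A) X ↔ ∀ a ∈ A, ∀ v ∈ subgroupOf X, a v ∈ subgroupOf X := by
  constructor
  · intro h a ha v hv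
    exact h _ ⟨a, ha, rfl⟩ (Additive.ofMul v) hv
  · rintro h _ ⟨a, ha, rfl⟩ v hv
    exact h a ha v.toMul hv

end linearize

theorem pow_eq_self_of {M : Type*} [Monoid M] (x : M) {p : ℕ} (hp : 0 < p)
    (h : x ^ (p - 1) = 1) : x ^ p = x := by
  obtain ⟨m, rfl⟩ : ∃ m, p = m + 1 := ⟨p - 1, by omega⟩
  rw [Nat.add_sub_cancel] at h
  rw [pow_succ, h, one_mul]

theorem galois_case_aux {V : Type*} [CommGroup V] [Finite V] {p q : ℕ} [hp : Fact p.Prime]
    [Module (ZMod p) (Additive V)] (hcard : Nat.card V = p ^ q) (A : Subgroup (MulAut V))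
    (hcomm : ∀ a ∈ A, ∀ b ∈ A, a * b = b * a) (w : MulAut V) (hwA : ∀ a ∈ A, w * a * w⁻¹ ∈ A)
    (hfree : ∀ a ∈ A, w * a = a * w → a = 1) (hfix : Nat.card {v : V // w v = v} = p)
    (hirr : ∀ X : Subgroup V, (∀ a ∈ A, ∀ v ∈ X, a v ∈ X) → X = ⊥ ∨ X = ⊤) :
    ∃ (f : V ≃* Multiplicative (GaloisField p q)) (ψ : A →* (GaloisField p q)ˣ) (k : ℕ),
      Function.Injective ψ ∧
      (∀ (a : A) (v : V), (f ((a : MulAut V) v)).toAdd = (ψ a : GaloisField p q) * (f v).toAdd) ∧
      (∀ v, (f (w v)).toAdd = (f v).toAdd ^ (p ^ k)) ∧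
      (∀ v, w v = v ↔ (f v).toAdd ^ p = (f v).toAdd) ∧
      IsCyclic A ∧ Nat.card A ∣ (p ^ q - 1) / (p - 1) ∧ (Nat.card A).Coprime (p - 1) := by
  classical
  haveI : Finite (Additive V) := ‹Finite V›
  set S : Set (End (ZMod p) (Additive V)) := lin p '' (A : Set (MulAut V)) with hS
  have hcomm' : ∀ a ∈ S, ∀ b ∈ S, (a * b : End (ZMod p) (Additive V)) = b * a := by
    rintro _ ⟨a, ha, rfl⟩ _ ⟨b, hb, rfl⟩
    rw [← lin_mul, ← lin_mul, hcomm a ha b hb]
  have hirr' : ∀ X : Submodule (ZMod p) (Additive V), SevenLin.Inv S X → X = ⊥ ∨ X = ⊤ := by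
    intro X hX
    rw [hS, inv_lin_iff] at hX
    rcases hirr (subgroupOf X) hX with h | h
    · exact Or.inl (subgroupOf_eq_bot X h)
    · exact Or.inr (subgroupOf_eq_top X h)
  have hwS : ∀ s ∈ S, ((linEquiv p w : Additive V ≃ₗ[ZMod p] Additive V) :
      End (ZMod p) (Additive V)) * s * ((linEquiv p w).symm : End (ZMod p) (Additive V)) ∈ S := by
    rintro _ ⟨a, ha, rfl⟩
    rw [linEquiv_coe, linEquiv_symm_coe, ← lin_mul, ← lin_mul]
    exact ⟨_, hwA a ha, rfl⟩
  have hfix' : Nat.card {v : Additive V // linEquiv p w v = v} = p :=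
    (Nat.card_congr (Equiv.refl _)).trans hfix
  obtain ⟨g, f₀, k, h1, h2, h3⟩ := galois_linear hcomm' hirr' (by rw [← hcard]; rfl)
    (linEquiv p w) hwS hfix'
  -- q ≠ 0
  have hq : q ≠ 0 := by
    rintro rfl
    rw [pow_zero] at hcard
    haveI : Subsingleton V := (Nat.card_eq_one_iff_unique.1 hcard).1
    have h1 : Nat.card {v : V // w v = v} ≤ 1 := Finite.card_le_one_iff_subsingleton.2 inferInstance
    have := hp.out.one_lt
    omega
  let f : V ≃* Multiplicative (GaloisField p q) :=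
    { toFun := fun v => Multiplicative.ofAdd (f₀ (Additive.ofMul v))
      invFun := fun x => (f₀.symm x.toAdd).toMul
      left_inv := fun v => by
        show (f₀.symm (f₀ (Additive.ofMul v))).toMul = v
        rw [AddEquiv.symm_apply_apply]
        rfl
      right_inv := fun x => by
        show Multiplicative.ofAdd (f₀ (Additive.ofMul (f₀.symm x.toAdd).toMul)) = x
        rw [ofMul_toMul, AddEquiv.apply_symm_apply]
        rfl
      map_mul' := fun x y => by
        show Multiplicative.ofAdd (f₀ (Additive.ofMul (x * y))) = _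
        rw [ofMul_mul, map_add]
        rfl }
  have hf : ∀ v, (f v).toAdd = f₀ (Additive.ofMul v) := fun v => rfl
  -- the element of the algebra attached to a ∈ A
  let r : A →* Algebra.adjoin (ZMod p) S :=
    { toFun := fun a => ⟨lin p (a : MulAut V), Algebra.subset_adjoin ⟨a, a.2, rfl⟩⟩
      map_one' := Subtype.ext lin_one
      map_mul' := fun a b => Subtype.ext (lin_mul _ _) }
  let ψ₀ : A →* GaloisField p q := (g : Algebra.adjoin (ZMod p) S →* GaloisField p q).comp r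
  let ψ : A →* (GaloisField p q)ˣ := ψ₀.toHomUnits
  have hψ : ∀ a, (ψ a : GaloisField p q) = g (r a) := fun a => rfl
  have hact : ∀ (a : A) (v : V),
      (f ((a : MulAut V) v)).toAdd = (ψ a : GaloisField p q) * (f v).toAdd := by
    intro a v
    rw [hf, hf, hψ]
    exact h1 (r a) (Additive.ofMul v)
  have hψinj : Function.Injective ψ := by
    rw [injective_iff_map_eq_one]
    intro a ha
    apply Subtype.ext
    ext v
    apply f.injective
    apply Multiplicative.toAdd.injective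
    rw [hact, ha, Units.val_one, one_mul]
    rfl
  have hwf : ∀ v, (f (w v)).toAdd = (f v).toAdd ^ (p ^ k) := fun v => h2 (Additive.ofMul v)
  have hwfix : ∀ v, w v = v ↔ (f v).toAdd ^ p = (f v).toAdd := by
    intro v
    rw [hf, ← h3]
    exact Iff.rfl
  have hpk : ∀ (x : GaloisField p q), x ^ p = x → ∀ n : ℕ, x ^ (p ^ n) = x := by
    intro x hx n
    induction n with
    | zero => rw [pow_zero, pow_one]
    | succ n ih => rw [pow_succ, pow_mul, ih, hx]
  -- elements of A with ψ a in the prime field are trivial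
  have hkey : ∀ a : A, (ψ a : GaloisField p q) ^ p = (ψ a : GaloisField p q) → a = 1 := by
    intro a ha
    apply Subtype.ext
    apply hfree a a.2
    ext v
    apply f.injective
    apply Multiplicative.toAdd.injective
    rw [MulAut.mul_apply, MulAut.mul_apply, hwf, hact, hact, hwf, mul_pow, hpk _ ha]
  have hcyc : IsCyclic A := isCyclic_of_injective ψ hψinj
  haveI := hcyc
  have hdvd : (p - 1) ∣ (p ^ q - 1) := by
    have := Nat.sub_dvd_pow_sub_pow p 1 q
    rwa [one_pow] at this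
  have hcardF : Nat.card (GaloisField p q) = p ^ q := GaloisField.card p q hq
  refine ⟨f, ψ, k, hψinj, hact, hwf, hwfix, hcyc, ?_, ?_⟩
  · obtain ⟨a, ha⟩ := IsCyclic.exists_generator (α := A)
    have hord : orderOf a = Nat.card A := orderOf_eq_card_of_forall_mem_zpowers ha
    rw [← hord]
    apply orderOf_dvd_of_pow_eq_one
    apply hkey
    have h4 : ((ψ a : GaloisField p q) ^ ((p ^ q - 1) / (p - 1))) ^ (p - 1) = 1 := by
      rw [← pow_mul, Nat.div_mul_cancel hdvd, ← hcardF]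
      haveI : Fintype (GaloisField p q) := Fintype.ofFinite _
      rw [Nat.card_eq_fintype_card]
      exact FiniteField.pow_card_sub_one_eq_one _ (Units.ne_zero _)
    have h5 : ((ψ (a ^ ((p ^ q - 1) / (p - 1))) : (GaloisField p q)ˣ) : GaloisField p q) =
        (ψ a : GaloisField p q) ^ ((p ^ q - 1) / (p - 1)) := by
      rw [map_pow, Units.val_pow_eq_pow_val]
    rw [h5]
    exact pow_eq_self_of _ hp.out.pos h4
  · rw [Nat.coprime_iff_gcd_eq_one]
    by_contra hne
    obtain ⟨l, hl, hld⟩ := Nat.exists_prime_and_dvd hne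
    haveI : Fact l.Prime := ⟨hl⟩
    obtain ⟨a, ha⟩ := exists_prime_orderOf_dvd_card' (G := A) l (hld.trans (Nat.gcd_dvd_left _ _))
    have ha1 : a ^ (p - 1) = 1 := by
      apply orderOf_dvd_iff_pow_eq_one.1
      rw [ha]
      exact hld.trans (Nat.gcd_dvd_right _ _)
    have : a = 1 := by
      apply hkey
      have h7 : (ψ a : GaloisField p q) ^ (p - 1) = 1 := by
        rw [← Units.val_pow_eq_pow_val, ← map_pow, ha1, map_one, Units.val_one]
      exact pow_eq_self_of _ hp.out.pos h7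
    rw [this, orderOf_one] at ha
    exact hl.one_lt.ne ha

/-- **Peterfalvi (9.7)(b)**, multiplicative form. -/
theorem galois_case {V : Type*} [CommGroup V] [Finite V] {p q : ℕ} [hp : Fact p.Prime]
    (hexp : ∀ v : V, v ^ p = 1) (hcard : Nat.card V = p ^ q) (A : Subgroup (MulAut V))
    (hcomm : ∀ a ∈ A, ∀ b ∈ A, a * b = b * a) (w : MulAut V) (hwA : ∀ a ∈ A, w * a * w⁻¹ ∈ A)
    (hfree : ∀ a ∈ A, w * a = a * w → a = 1) (hfix : Nat.card {v : V // w v = v} = p)
    (hirr : ∀ X : Subgroup V, (∀ a ∈ A, ∀ v ∈ X, a v ∈ X) → X = ⊥ ∨ X = ⊤) :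
    ∃ (f : V ≃* Multiplicative (GaloisField p q)) (ψ : A →* (GaloisField p q)ˣ) (k : ℕ),
      Function.Injective ψ ∧
      (∀ (a : A) (v : V), (f ((a : MulAut V) v)).toAdd = (ψ a : GaloisField p q) * (f v).toAdd) ∧
      (∀ v, (f (w v)).toAdd = (f v).toAdd ^ (p ^ k)) ∧
      (∀ v, w v = v ↔ (f v).toAdd ^ p = (f v).toAdd) ∧
      IsCyclic A ∧ Nat.card A ∣ (p ^ q - 1) / (p - 1) ∧ (Nat.card A).Coprime (p - 1) := by
  letI : Module (ZMod p) (Additive V) := zmod hexp
  exact galois_case_aux hcard A hcomm w hwA hfree hfix hirr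

end Cfsg.Agent.OddOrderCharacters.PF9.Seven
end

-- part: OddOrderCharacters/PF9/GaloisCase
section
/-!
# Peterfalvi (9.7)(b): the Galois case
-/

set_option autoImplicit false
set_option linter.style.haveILetI false
open Cfsg
open Cfsg.Agent.OddOrderCharacters.PF9.Defs Cfsg.Agent.OddOrderCharacters.PF9.Act

namespace Cfsg.Agent.OddOrderCharacters.PF9.GaloisCase

universe u

/-- `galois_case` for a group with commutative multiplication. -/
theorem galois_case_group {V : Type*} [Group V] [Finite V] (hV : ∀ x y : V, x * y = y * x)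
    {p q : ℕ} [hp : Fact p.Prime]
    (hexp : ∀ v : V, v ^ p = 1) (hcard : Nat.card V = p ^ q) (A : Subgroup (MulAut V))
    (hcomm : ∀ a ∈ A, ∀ b ∈ A, a * b = b * a) (w : MulAut V) (hwA : ∀ a ∈ A, w * a * w⁻¹ ∈ A)
    (hfree : ∀ a ∈ A, w * a = a * w → a = 1) (hfix : Nat.card {v : V // w v = v} = p)
    (hirr : ∀ X : Subgroup V, (∀ a ∈ A, ∀ v ∈ X, a v ∈ X) → X = ⊥ ∨ X = ⊤) :
    ∃ (f : V ≃* Multiplicative (GaloisField p q)) (ψ : A →* (GaloisField p q)ˣ) (k : ℕ),
      Function.Injective ψ ∧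
      (∀ (a : A) (v : V), (f ((a : MulAut V) v)).toAdd = (ψ a : GaloisField p q) * (f v).toAdd) ∧
      (∀ v, (f (w v)).toAdd = (f v).toAdd ^ (p ^ k)) ∧
      (∀ v, w v = v ↔ (f v).toAdd ^ p = (f v).toAdd) ∧
      IsCyclic A ∧ Nat.card A ∣ (p ^ q - 1) / (p - 1) ∧ (Nat.card A).Coprime (p - 1) := by
  letI : CommGroup V := { ‹Group V› with mul_comm := hV }
  exact Seven.galois_case hexp hcard A hcomm w hwA hfree hfix hirr

variable {L : Type u} [Group L] {K H U W₁ W₂ H₀ C : Subgroup L} {p q n : ℕ}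

theorem finite_of_setup (s : Setup K H U W₁ W₂ H₀ C p q n) : Finite L := by
  apply Nat.finite_of_card_ne_zero
  intro h
  have := s.hyp.odd
  rw [h] at this
  exact absurd this (by decide)

/-- (9.7)(b), everything at once. -/
theorem galois_all (s : Setup K H U W₁ W₂ H₀ C p q n) (h : Galois H U H₀) :
    ∃ (F : Type) (_ : Field F) (_ : Fintype F) (φ ψ : L → F) (η : L → (F ≃+* F)),
      GaloisData K H U W₁ W₂ H₀ C p q n F φ ψ η ∧
      n ∣ (p ^ q - 1) / (p - 1) ∧ Nat.Coprime n (p - 1) ∧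
      (∃ g ∈ U, ∀ x ∈ U, ∃ k : ℕ, (g ^ k)⁻¹ * x ∈ C) := by
  classical
  haveI hfin : Finite L := finite_of_setup s
  haveI hHn : H.Normal := s.hyp.H_normal
  haveI hH₀n : H₀.Normal := s.kernel.normal
  haveI hp : Fact p.Prime := ⟨s.p_prime⟩
  have hH₀H : H₀ ≤ H := s.kernel.lt.le
  -- the quotient
  have hV : ∀ x y : ↥H ⧸ H₀.subgroupOf H, x * y = y * x := by
    intro x y
    induction x using QuotientGroup.induction_on with
    | H x =>
      induction y using QuotientGroup.induction_on with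
      | H y =>
        rw [← QuotientGroup.mk_mul, ← QuotientGroup.mk_mul, mk_eq_iff]
        apply s.H_comm
        have := Subgroup.commutator_mem_commutator (H.inv_mem y.2) (H.inv_mem x.2)
        convert this using 1
        simp only [Subgroup.coe_mul, commutatorElement_def]
        group
  have hexp : ∀ v : ↥H ⧸ H₀.subgroupOf H, v ^ p = 1 := by
    intro v
    induction v using QuotientGroup.induction_on with
    | H x =>
      rw [← QuotientGroup.mk_pow, mk_eq_one_iff]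
      exact s.H_pow x x.2
  have hcard : Nat.card (↥H ⧸ H₀.subgroupOf H) = p ^ q := s.card_bar
  set Φ : L →* MulAut (↥H ⧸ H₀.subgroupOf H) := act H H₀ with hΦ
  -- kernel of the action on U
  have hΦC : ∀ x ∈ U, Φ x = 1 ↔ x ∈ C := by
    intro x hx
    rw [hΦ, act_eq_one_iff, s.mem_C]
    exact ⟨fun h' => ⟨hx, h'⟩, fun h' => h'.2⟩
  -- generator of W₁
  obtain ⟨w₀, hw₀, hw₀1⟩ : ∃ w ∈ W₁, w ≠ 1 := by
    by_contra hcon
    push Not at hcon
    have : W₁ = ⊥ := (Subgroup.eq_bot_iff_forall _).2 hcon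
    have h1 := s.hyp.W₁_prime
    rw [this, Subgroup.card_bot] at h1
    exact Nat.not_prime_one h1
  have hw₀gen : ∀ w ∈ W₁, ∃ i : ℕ, w = w₀ ^ i := by
    intro w hw
    haveI : Fact (Nat.card ↥W₁).Prime := ⟨s.hyp.W₁_prime⟩
    have h1 : (⟨w, hw⟩ : ↥W₁) ∈ Subgroup.zpowers (⟨w₀, hw₀⟩ : ↥W₁) :=
      mem_zpowers_of_prime_card rfl (fun h' => hw₀1 (congrArg Subtype.val h'))
    rw [← mem_powers_iff_mem_zpowers] at h1
    obtain ⟨i, hi⟩ := h1
    exact ⟨i, (congrArg Subtype.val hi).symm⟩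
  -- the data for galois_case
  have hcomm : ∀ a ∈ U.map Φ, ∀ b ∈ U.map Φ, a * b = b * a := by
    rintro _ ⟨x, hx, rfl⟩ _ ⟨y, hy, rfl⟩
    rw [← map_mul, ← map_mul, ← mul_inv_eq_one, ← map_inv, ← map_mul]
    have hc : x * y * (y * x)⁻¹ ∈ C := by
      apply s.U_der_le
      have := Subgroup.commutator_mem_commutator hx hy
      rw [commutatorElement_def] at this
      convert this using 1
      group
    exact (hΦC _ (s.C_lt.le hc)).2 hc
  have hwA : ∀ a ∈ U.map Φ, Φ w₀ * a * (Φ w₀)⁻¹ ∈ U.map Φ := by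
    rintro _ ⟨x, hx, rfl⟩
    exact ⟨w₀ * x * w₀⁻¹, s.hyp.W₁_norm w₀ hw₀ x hx, by rw [map_mul, map_mul, map_inv]⟩
  have hfree : ∀ a ∈ U.map Φ, Φ w₀ * a = a * Φ w₀ → a = 1 := by
    rintro _ ⟨x, hx, rfl⟩ hc
    rw [hΦC x hx]
    apply s.W₁_free w₀ hw₀ hw₀1 x hx
    have hm : w₀ * x * w₀⁻¹ * x⁻¹ ∈ U :=
      U.mul_mem (s.hyp.W₁_norm w₀ hw₀ x hx) (U.inv_mem hx)
    rw [← hΦC _ hm, map_mul, map_mul, map_mul, hc, map_inv, map_inv]
    group
  -- fixed points of w₀
  have hW₂fix : ∀ w ∈ W₁, ∀ y ∈ W₂, w * y * w⁻¹ = y := by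
    intro w hw y hy
    by_cases hw1 : w = 1
    · rw [hw1]; group
    · have h1 := s.hyp.W₂_cent w hw hw1
      rw [← h1] at hy
      have h2 := Subgroup.mem_centralizer_singleton_iff.1 hy.2
      rw [← h2]; group
  let ι : ↥W₂ →* ↥H ⧸ H₀.subgroupOf H :=
    (QuotientGroup.mk' (H₀.subgroupOf H)).comp (Subgroup.inclusion s.hyp.W₂_le)
  have hι : ∀ y : ↥W₂, ι y = QuotientGroup.mk ⟨(y : L), s.hyp.W₂_le y.2⟩ := fun y => rfl
  have hfixι : ∀ v : ↥H ⧸ H₀.subgroupOf H, Φ w₀ v = v ↔ v ∈ ι.range := by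
    intro v
    induction v using QuotientGroup.induction_on with
    | H x =>
      rw [hΦ, act_fix_iff]
      constructor
      · intro hx
        obtain ⟨y, hy, hyx⟩ := s.W₁_fixed w₀ hw₀ hw₀1 x x.2 hx
        refine ⟨⟨y, hy⟩, ?_⟩
        rw [hι, mk_eq_iff]
        exact hyx
      · rintro ⟨y, hy⟩
        rw [hι, mk_eq_iff] at hy
        have hy' : (y : L)⁻¹ * x ∈ H₀ := hy
        -- x = y z, z ∈ H₀
        have h1 : w₀ * x * w₀⁻¹ * (x : L)⁻¹ =
            (w₀ * y * w₀⁻¹) * (w₀ * ((y : L)⁻¹ * x) * w₀⁻¹) * ((y : L)⁻¹ * x)⁻¹ * (y : L)⁻¹ := by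
          group
        rw [h1, hW₂fix w₀ hw₀ y y.2]
        have h2 : w₀ * ((y : L)⁻¹ * x) * w₀⁻¹ * ((y : L)⁻¹ * x)⁻¹ ∈ H₀ :=
          H₀.mul_mem (hH₀n.conj_mem _ hy' w₀) (H₀.inv_mem hy')
        have h3 := hH₀n.conj_mem _ h2 (y : L)
        convert h3 using 1
        group
  have hιker : ι.ker = (W₂ ⊓ H₀).subgroupOf W₂ := by
    ext y
    rw [MonoidHom.mem_ker, hι, mk_eq_one_iff, Subgroup.mem_subgroupOf, Subgroup.mem_inf]
    exact ⟨fun h' => ⟨y.2, h'⟩, fun h' => h'.2⟩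
  have hfix : Nat.card {v : ↥H ⧸ H₀.subgroupOf H // Φ w₀ v = v} = p := by
    have h1 : Nat.card {v : ↥H ⧸ H₀.subgroupOf H // Φ w₀ v = v} = Nat.card ι.range :=
      Nat.card_congr (Equiv.subtypeEquivRight hfixι)
    rw [h1, ← Subgroup.index_ker, hιker]
    exact s.W₂_bar
  have hirr : ∀ X : Subgroup (↥H ⧸ H₀.subgroupOf H), (∀ a ∈ U.map Φ, ∀ v ∈ X, a v ∈ X) →
      X = ⊥ ∨ X = ⊤ := by
    intro X hX
    let N : Subgroup L := (X.comap (QuotientGroup.mk' (H₀.subgroupOf H))).map H.subtype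
    have hN : ∀ x : L, x ∈ N ↔ ∃ hx : x ∈ H,
        (QuotientGroup.mk ⟨x, hx⟩ : ↥H ⧸ H₀.subgroupOf H) ∈ X := by
      intro x
      constructor
      · rintro ⟨y, hy, rfl⟩
        exact ⟨y.2, hy⟩
      · rintro ⟨hx, hx'⟩
        exact ⟨⟨x, hx⟩, hx', rfl⟩
    have h1 : H₀ ≤ N := by
      intro x hx
      rw [hN]
      refine ⟨hH₀H hx, ?_⟩
      rw [(mk_eq_one_iff H H₀ ⟨x, hH₀H hx⟩).2 hx]
      exact X.one_mem
    have h2 : N ≤ H := fun x hx => ((hN x).1 hx).1
    have h3 : ∀ x ∈ U, ∀ m ∈ N, x * m * x⁻¹ ∈ N := by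
      intro x hx m hm
      obtain ⟨hmH, hmX⟩ := (hN m).1 hm
      rw [hN]
      refine ⟨hHn.conj_mem m hmH x, ?_⟩
      have := hX (Φ x) ⟨x, hx, rfl⟩ _ hmX
      rwa [hΦ, act_mk H H₀ x ⟨m, hmH⟩ ⟨x * m * x⁻¹, hHn.conj_mem m hmH x⟩ rfl] at this
    rcases h N h1 h2 h3 with h4 | h4
    · left
      rw [Subgroup.eq_bot_iff_forall]
      intro v hv
      induction v using QuotientGroup.induction_on with
      | H x =>
        rw [mk_eq_one_iff]
        rw [← h4, hN]
        exact ⟨x.2, hv⟩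
    · right
      rw [eq_top_iff]
      intro v _
      induction v using QuotientGroup.induction_on with
      | H x =>
        have : (x : L) ∈ N := by rw [h4]; exact x.2
        obtain ⟨_, hx'⟩ := (hN _).1 this
        exact hx'
  obtain ⟨f, ψ₀, k, hψinj, hact, hwf, hwfix, hcyc, hdvd, hcop⟩ :=
    galois_case_group hV hexp hcard (U.map Φ) hcomm (Φ w₀) hwA hfree hfix hirr
  -- order of A
  have hcardA : Nat.card (U.map Φ) = n := by
    have e1 : (U.map Φ) = (Φ.comp U.subtype).range := by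
      ext a
      constructor
      · rintro ⟨x, hx, rfl⟩; exact ⟨⟨x, hx⟩, rfl⟩
      · rintro ⟨x, rfl⟩; exact ⟨x, x.2, rfl⟩
    rw [e1, ← Subgroup.index_ker, ← s.u_eq]
    have e2 : (Φ.comp U.subtype).ker = C.subgroupOf U := by
      ext x
      rw [MonoidHom.mem_ker, Subgroup.mem_subgroupOf]
      exact hΦC x x.2
    rw [e2]
    rfl
  rw [hcardA] at hdvd hcop
  -- q ≠ 0
  have hq0 : q ≠ 0 := by
    rw [← s.q_eq]
    exact s.hyp.W₁_prime.ne_zero
  -- definitions of φ, ψ, η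
  let φ : L → GaloisField p q := fun x =>
    if hx : x ∈ H then (f (QuotientGroup.mk ⟨x, hx⟩)).toAdd else 0
  have hφ : ∀ (x : L) (hx : x ∈ H), φ x = (f (QuotientGroup.mk ⟨x, hx⟩)).toAdd :=
    fun x hx => dif_pos hx
  let ψ : L → GaloisField p q := fun x =>
    if hx : x ∈ U then ((ψ₀ ⟨Φ x, ⟨x, hx, rfl⟩⟩ : (GaloisField p q)ˣ) : GaloisField p q) else 0
  have hψ : ∀ (x : L) (hx : x ∈ U),
      ψ x = ((ψ₀ ⟨Φ x, ⟨x, hx, rfl⟩⟩ : (GaloisField p q)ˣ) : GaloisField p q) :=
    fun x hx => dif_pos hx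
  haveI : Fintype (GaloisField p q) := Fintype.ofFinite _
  -- exponent for elements of W₁
  have hexpo : ∀ w ∈ W₁, ∃ m : ℕ, ∀ v, (f (Φ w v)).toAdd = (f v).toAdd ^ (p ^ m) := by
    intro w hw
    obtain ⟨i, rfl⟩ := hw₀gen w hw
    refine ⟨k * i, ?_⟩
    induction i with
    | zero => intro v; rw [pow_zero, map_one, MulAut.one_apply, mul_zero, pow_zero, pow_one]
    | succ i ih =>
      intro v
      have hi : w₀ ^ i ∈ W₁ := W₁.pow_mem hw₀ i
      rw [pow_succ', map_mul, MulAut.mul_apply, hwf, ih hi, ← pow_mul, ← pow_add, mul_add, mul_one]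
  choose! m hm using hexpo
  let η : L → (GaloisField p q ≃+* GaloisField p q) := fun w =>
    iterateFrobeniusEquiv (GaloisField p q) p (m w)
  have hη : ∀ w t, η w t = t ^ (p ^ m w) := fun w t => rfl
  have hφsurj : ∀ t : GaloisField p q, ∃ x ∈ H, φ x = t := by
    intro t
    obtain ⟨v, hv⟩ := f.surjective (Multiplicative.ofAdd t)
    induction v using QuotientGroup.induction_on with
    | H x => exact ⟨x, x.2, by rw [hφ x x.2]; exact congrArg Multiplicative.toAdd hv⟩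
  have hφmul : ∀ x ∈ H, ∀ y ∈ H, φ (x * y) = φ x + φ y := by
    intro x hx y hy
    rw [hφ _ (H.mul_mem hx hy), hφ x hx, hφ y hy, ← toAdd_mul, ← map_mul]
    rfl
  have hφeq : ∀ x ∈ H, ∀ y ∈ H, φ x = φ y ↔ x⁻¹ * y ∈ H₀ := by
    intro x hx y hy
    rw [hφ x hx, hφ y hy, Multiplicative.toAdd.apply_eq_iff_eq, f.apply_eq_iff_eq, mk_eq_iff]
  have hφker : ∀ x ∈ H, φ x = 0 ↔ x ∈ H₀ := by
    intro x hx
    rw [hφ x hx, toAdd_eq_zero, map_eq_one_iff f f.injective, mk_eq_one_iff]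
  have hactU : ∀ x ∈ U, ∀ y ∈ H, φ (x * y * x⁻¹) = ψ x * φ y := by
    intro x hx y hy
    have hc : x * y * x⁻¹ ∈ H := hHn.conj_mem y hy x
    rw [hφ _ hc, hφ y hy, hψ x hx, ← hact]
    congr 2
  have hactW : ∀ w ∈ W₁, ∀ y ∈ H, φ (w * y * w⁻¹) = η w (φ y) := by
    intro w hw y hy
    have hc : w * y * w⁻¹ ∈ H := hHn.conj_mem y hy w
    rw [hη, hφ _ hc, hφ y hy, ← hm w hw]
    congr 2
  have hφfix : ∀ x ∈ H, φ x ^ p = φ x ↔ ∃ y ∈ W₂, y⁻¹ * x ∈ H₀ := by
    intro x hx
    rw [hφ x hx, ← hwfix, hfixι]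
    constructor
    · rintro ⟨y, hy⟩
      rw [hι, mk_eq_iff] at hy
      exact ⟨y, y.2, hy⟩
    · rintro ⟨y, hy, hyx⟩
      exact ⟨⟨y, hy⟩, by rw [hι, mk_eq_iff]; exact hyx⟩
  obtain ⟨x₁, hx₁, hφx₁⟩ := hφsurj 1
  obtain ⟨y₁, hy₁, hyx₁⟩ := (hφfix x₁ hx₁).1 (by rw [hφx₁, one_pow])
  have hφy₁ : φ y₁ = 1 := by
    rw [← hφx₁]
    exact (hφeq y₁ (s.hyp.W₂_le hy₁) x₁ hx₁).2 hyx₁
  refine ⟨GaloisField p q, inferInstance, inferInstance, φ, ψ, η, ?_, hdvd, hcop, ?_⟩
  · exact
    { setup := s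
      card_F := GaloisField.card p q hq0
      φ_mul := hφmul
      φ_ker := hφker
      φ_surj := hφsurj
      ψ_mul := fun x hx y hy => by
        rw [hψ _ (U.mul_mem hx hy), hψ x hx, hψ y hy, ← Units.val_mul, ← map_mul]
        congr 3
        exact map_mul Φ x y
      ψ_ker := fun x hx => by
        rw [hψ x hx, ← hΦC x hx, ← Units.val_one, Units.val_inj, map_eq_one_iff ψ₀ hψinj]
        constructor
        · intro h'; exact congrArg Subtype.val h'
        · intro h'; exact Subtype.ext h'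
      ψ_ne := fun x hx => by
        rw [hψ x hx]
        exact Units.ne_zero _
      act_U := hactU
      act_W₁ := hactW
      act_W₁_ψ := fun w hw x hx => by
        have hy₁H : y₁ ∈ H := s.hyp.W₂_le hy₁
        have hwx := s.hyp.W₁_norm w hw x hx
        have e1 : φ ((w * x * w⁻¹) * (w * y₁ * w⁻¹) * (w * x * w⁻¹)⁻¹) = ψ (w * x * w⁻¹) := by
          rw [hactU _ hwx _ (hHn.conj_mem y₁ hy₁H w), hactW w hw y₁ hy₁H, hφy₁, map_one, mul_one]
        have e2 : (w * x * w⁻¹) * (w * y₁ * w⁻¹) * (w * x * w⁻¹)⁻¹ =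
            w * (x * y₁ * x⁻¹) * w⁻¹ := by group
        rw [← e1, e2, hactW w hw _ (hHn.conj_mem y₁ hy₁H x), hactU x hx y₁ hy₁H, hφy₁, mul_one]
      η_mul := fun w hw w' hw' t => by
        obtain ⟨y, hy, rfl⟩ := hφsurj t
        rw [← hactW w' hw' y hy, ← hactW w hw _ (hHn.conj_mem y hy w'),
          ← hactW _ (W₁.mul_mem hw hw') y hy]
        congr 1
        group
      η_ne := fun w hw hw1 t ht => by
        obtain ⟨y, hy, rfl⟩ := hφsurj t
        rw [← hactW w hw y hy, hφeq _ (hHn.conj_mem y hy w) _ hy] at ht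
        rw [hφfix y hy]
        apply s.W₁_fixed w hw hw1 y hy
        have h3 := hH₀n.conj_mem _ (H₀.inv_mem ht) (w * y * w⁻¹)
        convert h3 using 1
        group
      W₂_image := hφfix
      φ_one := ⟨y₁, hy₁, hφy₁⟩ }
  · -- cyclic
    obtain ⟨⟨_, g, hg, rfl⟩, hgen⟩ := IsCyclic.exists_generator (α := U.map Φ)
    refine ⟨g, hg, fun x hx => ?_⟩
    have h1 := hgen ⟨Φ x, ⟨x, hx, rfl⟩⟩
    rw [← mem_powers_iff_mem_zpowers] at h1
    obtain ⟨i, hi⟩ := h1
    refine ⟨i, ?_⟩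
    have hi' : Φ g ^ i = Φ x := congrArg Subtype.val hi
    rw [← hΦC _ (U.mul_mem (U.inv_mem (U.pow_mem hg i)) hx), map_mul, map_inv, map_pow, hi',
      inv_mul_cancel]

/-- (9.7)(b), numerical part -/
theorem galois (s : Setup K H U W₁ W₂ H₀ C p q n) (h : Galois H U H₀) :
    n ∣ (p ^ q - 1) / (p - 1) ∧ Nat.Coprime n (p - 1) ∧
      (∃ g ∈ U, ∀ x ∈ U, ∃ k : ℕ, (g ^ k)⁻¹ * x ∈ C) ∧
      (∀ x ∈ U, x ∉ C → ∀ h ∈ H, x * h * x⁻¹ * h⁻¹ ∈ H₀ → h ∈ H₀) := by
  obtain ⟨F, _, _, φ, ψ, η, hd, h1, h2, h3⟩ := galois_all s h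
  refine ⟨h1, h2, h3, ?_⟩
  intro x hx hxC y hy hxy
  have hH₀H : H₀ ≤ H := s.kernel.lt.le
  have hHn : H.Normal := s.hyp.H_normal
  have e1 : φ (x * y * x⁻¹) = φ y := by
    have e2 : x * y * x⁻¹ = (x * y * x⁻¹ * y⁻¹) * y := by group
    rw [e2, hd.φ_mul _ (hH₀H hxy) y hy, (hd.φ_ker _ (hH₀H hxy)).2 hxy, zero_add]
  rw [hd.act_U x hx y hy] at e1
  have e3 : (ψ x - 1) * φ y = 0 := by rw [sub_mul, e1, one_mul, sub_self]
  rcases mul_eq_zero.1 e3 with h4 | h4
  · exact absurd ((hd.ψ_ker x hx).1 (sub_eq_zero.1 h4)) hxC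
  · exact (hd.φ_ker y hy).1 h4

/-- (9.7)(b), field coordinates -/
theorem galois_field (s : Setup K H U W₁ W₂ H₀ C p q n) (h : Galois H U H₀) :
    ∃ (F : Type) (_ : Field F) (_ : Fintype F) (φ ψ : L → F) (η : L → (F ≃+* F)),
      GaloisData K H U W₁ W₂ H₀ C p q n F φ ψ η := by
  obtain ⟨F, i1, i2, φ, ψ, η, hd, _⟩ := galois_all s h
  exact ⟨F, i1, i2, φ, ψ, η, hd⟩

end Cfsg.Agent.OddOrderCharacters.PF9.GaloisCase
end
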