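import Mathlib
import Cfsg.Agent.OddOrderCharacters.PF9.Defs
import Cfsg.Agent.OddOrderCharacters.PF9.KernelAux
import Cfsg.Agent.OddOrderLocal.PiCoreOf
set_option linter.all false

/-!
# Peterfalvi (9.4)–(9.6): `Hyp` gives a kernel `H₀` (`IsKernel`) and the facts collected in `Setup`
-/

set_option autoImplicit false
open Cfsg

namespace Cfsg.Agent.OddOrderCharacters.PF9.Kernel

open Cfsg.Agent.OddOrderCharacters.PF9.Defs Cfsg.Agent.OddOrderLocal

universe u

variable {L : Type u} [Group L]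

/-- The product of a solvable normal subgroup and a solvable subgroup is solvable. -/
theorem isSolvable_sup {N A : Subgroup L} [N.Normal] (hN : Group.IsSolvable N)
    (hA : Group.IsSolvable A) : Group.IsSolvable ↥(N ⊔ A) := by
  set f : L →* L ⧸ N := QuotientGroup.mk' N with hf
  have hker : f.ker = N := QuotientGroup.ker_mk' N
  have hmap : (N ⊔ A).map f = A.map f := by
    rw [Subgroup.map_sup, (Subgroup.map_eq_bot_iff (f := f) N).mpr hker.ge, bot_sup_eq]
  have hA' : Group.IsSolvable ↥((N ⊔ A).map f) := by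
    rw [hmap]
    exact Group.isSolvable_of_surjective (f := f.subgroupMap A) (f.subgroupMap_surjective A)
  refine Group.isSolvable_of_ker_le_range (Subgroup.inclusion (le_sup_left : N ≤ N ⊔ A))
    (f.subgroupMap (N ⊔ A)) ?_
  rintro ⟨x, hx⟩ hx1
  rw [MonoidHom.mem_ker] at hx1
  have h1 : f x = 1 := congrArg Subtype.val hx1
  rw [← MonoidHom.mem_ker, hker] at h1
  exact ⟨⟨x, h1⟩, rfl⟩

variable {K H U W₁ W₂ H₀ : Subgroup L}

theorem isSolvable [Finite L] (h : Hyp K H U W₁ W₂) : Group.IsSolvable L := by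
  have hH := h.H_normal
  have hK := h.K_normal
  have hHn := h.H_nilp
  have hUn := h.U_nilp
  have h1 : Group.IsSolvable K := by
    rw [← h.K_eq]
    exact isSolvable_sup inferInstance inferInstance
  have hp : Fact (Nat.card W₁).Prime := ⟨h.W₁_prime⟩
  have hcyc : IsCyclic W₁ := isCyclic_of_prime_card (p := Nat.card W₁) rfl
  have h2 : Group.IsSolvable W₁ :=
    Group.isSolvable_of_comm fun a b => (IsCyclic.isMulCommutative (α := W₁)).is_comm.comm a b
  have h3 : Group.IsSolvable ↥(K ⊔ W₁) := isSolvable_sup h1 h2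
  rw [h.W₁_sup] at h3
  exact Group.isSolvable_of_surjective (f := (Subgroup.topEquiv (G := L)).toMonoidHom)
    (Subgroup.topEquiv (G := L)).surjective

theorem le_K (h : Hyp K H U W₁ W₂) : H ≤ K := h.K_eq ▸ le_sup_left

theorem U_le_K (h : Hyp K H U W₁ W₂) : U ≤ K := h.K_eq ▸ le_sup_right

theorem sup_eq_top (h : Hyp K H U W₁ W₂) : H ⊔ (U ⊔ W₁) = ⊤ := by
  rw [← sup_assoc, h.K_eq, h.W₁_sup]

theorem W₁_le_normalizer (h : Hyp K H U W₁ W₂) : W₁ ≤ Subgroup.normalizer (U : Set L) := by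
  intro w hw
  rw [Subgroup.mem_normalizer_iff]
  intro x
  refine ⟨fun hx => h.W₁_norm w hw x hx, fun hx => ?_⟩
  have h1 := h.W₁_norm w⁻¹ (inv_mem hw) _ hx
  have h2 : w⁻¹ * (w * x * w⁻¹) * w⁻¹⁻¹ = x := by group
  rwa [h2] at h1

theorem card_sup_dvd (h : Hyp K H U W₁ W₂) :
    Nat.card ↥(U ⊔ W₁) ∣ Nat.card W₁ * Nat.card U := by
  have := PiCoreOf.card_sup_dvd_of_le_normalizer (W₁_le_normalizer h)
  rwa [sup_comm] at this

theorem coprime_H [Finite L] (h : Hyp K H U W₁ W₂) :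
    (Nat.card H).Coprime (Nat.card ↥(U ⊔ W₁)) := by
  refine Nat.Coprime.coprime_dvd_right (card_sup_dvd h) (Nat.Coprime.mul_right ?_ h.HU_coprime)
  exact (Nat.Coprime.coprime_dvd_right (Subgroup.card_dvd_of_le (le_K h)) h.W₁_coprime).symm

theorem U_inf_W₁ (h : Hyp K H U W₁ W₂) : U ⊓ W₁ = ⊥ := by
  rw [eq_bot_iff, ← h.W₁_inf]
  exact inf_le_inf_right _ (U_le_K h)

theorem W₁_ne (h : Hyp K H U W₁ W₂) : W₁ ≠ ⊥ := by
  intro h1
  have h2 := h.W₁_prime
  rw [h1, Subgroup.card_bot] at h2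
  exact Nat.not_prime_one h2

theorem fpf (h : Hyp K H U W₁ W₂) : ∀ e ∈ W₁, e ≠ 1 → ∀ u ∈ U, e * u = u * e → u = 1 := by
  intro e he he1 u hu heq
  have h1 : u ∈ K ⊓ Subgroup.centralizer ({e} : Set L) :=
    ⟨U_le_K h hu, Subgroup.mem_centralizer_singleton_iff.mpr heq.symm⟩
  rw [h.W₂_cent e he he1] at h1
  have h2 : u ∈ H ⊓ U := ⟨h.W₂_le h1, hu⟩
  rwa [h.HU_inf, Subgroup.mem_bot] at h2

theorem inf_centralizer_W₁ (h : Hyp K H U W₁ W₂) :
    H ⊓ Subgroup.centralizer (W₁ : Set L) = W₂ := by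
  obtain ⟨e, he, he1⟩ := W₁.bot_or_exists_ne_one.resolve_left (W₁_ne h)
  apply le_antisymm
  · intro x hx
    obtain ⟨hx, hxc⟩ := Subgroup.mem_inf.mp hx
    rw [← h.W₂_cent e he he1]
    refine ⟨le_K h hx, ?_⟩
    rw [Subgroup.mem_centralizer_iff] at hxc
    show x ∈ Subgroup.centralizer _
    rw [Subgroup.mem_centralizer_singleton_iff]
    exact (hxc e he).symm
  · intro x hx
    refine ⟨h.W₂_le hx, ?_⟩
    show x ∈ Subgroup.centralizer _
    rw [Subgroup.mem_centralizer_iff]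
    intro w hw
    by_cases hw1 : w = 1
    · rw [hw1, one_mul, mul_one]
    · rw [← h.W₂_cent w hw hw1] at hx
      exact (Subgroup.mem_centralizer_singleton_iff.mp hx.2).symm

/-- An element normalizes `C_H(U)` if it normalizes `U` (`H` being normal). -/
theorem sup_le_normalizer (h : Hyp K H U W₁ W₂) :
    U ⊔ W₁ ≤ Subgroup.normalizer ((H ⊓ Subgroup.centralizer (U : Set L) : Subgroup L) : Set L) := by
  have hH := h.H_normal
  have key : Subgroup.normalizer (U : Set L) ≤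
      Subgroup.normalizer ((H ⊓ Subgroup.centralizer (U : Set L) : Subgroup L) : Set L) := by
    have h1 : ∀ g ∈ Subgroup.normalizer (U : Set L),
        ∀ x ∈ H ⊓ Subgroup.centralizer (U : Set L),
          g * x * g⁻¹ ∈ H ⊓ Subgroup.centralizer (U : Set L) := by
      intro g hg x hx
      obtain ⟨hx, hxc⟩ := Subgroup.mem_inf.mp hx
      refine ⟨hH.conj_mem x hx g, ?_⟩
      show g * x * g⁻¹ ∈ Subgroup.centralizer _
      rw [Subgroup.mem_centralizer_iff] at hxc
      rw [Subgroup.mem_centralizer_iff]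
      intro u hu
      have h2 : g⁻¹ * u * g ∈ U := by
        have h3 := (Subgroup.mem_normalizer_iff.mp (inv_mem hg) u).mp hu
        rwa [inv_inv] at h3
      have h4 := hxc _ h2
      calc u * (g * x * g⁻¹) = g * ((g⁻¹ * u * g) * x) * g⁻¹ := by group
        _ = g * (x * (g⁻¹ * u * g)) * g⁻¹ := by rw [h4]
        _ = g * x * g⁻¹ * u := by group
    intro g hg
    rw [Subgroup.mem_normalizer_iff]
    intro x
    refine ⟨fun hx => h1 g hg x hx, fun hx => ?_⟩
    have h2 := h1 g⁻¹ (inv_mem hg) _ hx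
    have h3 : g⁻¹ * (g * x * g⁻¹) * g⁻¹⁻¹ = x := by group
    rwa [h3] at h2
  exact (sup_le Subgroup.le_normalizer (W₁_le_normalizer h)).trans key

/-- (9.4): the kernel exists. -/
theorem exists_kernel [Finite L] (h : Hyp K H U W₁ W₂) : ∃ H₀ : Subgroup L, IsKernel H U H₀ := by
  have hH := h.H_normal
  have hlt : H ⊓ Subgroup.centralizer (U : Set L) < H := by
    refine lt_of_le_of_ne inf_le_left ?_
    intro heq
    exact h.not_cent (inf_eq_left.mp heq)
  obtain ⟨H₀, h1, h2, h3, h4⟩ := KernelAux.exists_kernel h.H_nilp hlt (by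
    intro g
    have h1 : g ∈ H ⊔ (U ⊔ W₁) := by rw [sup_eq_top h]; trivial
    rw [← SetLike.mem_coe, Subgroup.normal_mul H (U ⊔ W₁), Set.mem_mul] at h1
    obtain ⟨a, ha, b, hb, rfl⟩ := h1
    exact ⟨a, ha, b, sup_le_normalizer h hb, rfl⟩)
  exact ⟨H₀, h1, h3, h4, h2⟩

/-- `C = C_U(H / H₀)`. -/
def factorCentralizer (H U H₀ : Subgroup L) [hH₀ : H₀.Normal] : Subgroup L :=
  U ⊓ (Subgroup.centralizer
    ((H.map (QuotientGroup.mk' H₀) : Subgroup (L ⧸ H₀)) : Set (L ⧸ H₀))).comap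
      (QuotientGroup.mk' H₀)

theorem mem_factorCentralizer {H U H₀ : Subgroup L} [hH₀ : H₀.Normal] (x : L) :
    x ∈ factorCentralizer H U H₀ ↔ x ∈ U ∧ ∀ h ∈ H, x * h * x⁻¹ * h⁻¹ ∈ H₀ := by
  set f := QuotientGroup.mk' H₀ with hf
  have hker : f.ker = H₀ := QuotientGroup.ker_mk' H₀
  have hmem : ∀ x : L, f x = 1 ↔ x ∈ H₀ := by
    intro x
    rw [← MonoidHom.mem_ker, hker]
  rw [factorCentralizer, Subgroup.mem_inf, Subgroup.mem_comap, Subgroup.mem_centralizer_iff]
  refine and_congr_right fun _ => ⟨fun h1 h hh => ?_, fun h1 => ?_⟩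
  · have h2 := h1 (f h) (Subgroup.mem_map_of_mem f hh)
    rw [← hmem, map_mul, map_mul, map_mul, map_inv, map_inv, mul_inv_eq_one, mul_inv_eq_iff_eq_mul]
    exact h2.symm
  · rintro _ ⟨h, hh, rfl⟩
    have h2 := h1 h hh
    rw [← hmem, map_mul, map_mul, map_mul, map_inv, map_inv, mul_inv_eq_one,
      mul_inv_eq_iff_eq_mul] at h2
    exact h2.symm

/-- A subgroup mapped into itself by the conjugations by elements of `H`, `U` and `W₁` is normal. -/
theorem normal_of_conj (h : Hyp K H U W₁ W₂) {X : Subgroup L}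
    (h1 : ∀ g ∈ H, ∀ x ∈ X, g * x * g⁻¹ ∈ X) (h2 : ∀ g ∈ U, ∀ x ∈ X, g * x * g⁻¹ ∈ X)
    (h3 : ∀ g ∈ W₁, ∀ x ∈ X, g * x * g⁻¹ ∈ X) : X.Normal := by
  have key : ∀ Y : Subgroup L, (∀ g ∈ Y, ∀ x ∈ X, g * x * g⁻¹ ∈ X) →
      Y ≤ Subgroup.normalizer (X : Set L) := by
    intro Y hY g hg
    rw [Subgroup.mem_normalizer_iff]
    intro x
    refine ⟨fun hx => hY g hg x hx, fun hx => ?_⟩
    have h4 := hY g⁻¹ (inv_mem hg) _ hx
    have h5 : g⁻¹ * (g * x * g⁻¹) * g⁻¹⁻¹ = x := by group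
    rwa [h5] at h4
  rw [← Subgroup.normalizer_eq_top_iff, eq_top_iff, ← sup_eq_top h]
  exact sup_le (key H h1) (sup_le (key U h2) (key W₁ h3))

/-- The conjugation criterion on a join. -/
theorem conj_mem_sup {A B X : Subgroup L} {g : L} (hA : ∀ x ∈ A, g * x * g⁻¹ ∈ X)
    (hB : ∀ x ∈ B, g * x * g⁻¹ ∈ X) : ∀ x ∈ A ⊔ B, g * x * g⁻¹ ∈ X := by
  have h1 : (A ⊔ B) ≤ X.comap (MulAut.conj g).toMonoidHom := by
    refine sup_le (fun x hx => ?_) (fun x hx => ?_)
    · exact hA x hx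
    · exact hB x hx
  intro x hx
  exact h1 hx

/-- (9.5), (9.6): the facts about the chief factor `H / H₀`. -/
theorem setup_of_kernel [Finite L] (h : Hyp K H U W₁ W₂) (hk : IsKernel H U H₀) :
    ∃ (C : Subgroup L) (p : ℕ), Setup K H U W₁ W₂ H₀ C p (Nat.card W₁) (C.relIndex U) := by
  have hH := h.H_normal
  have hK := h.K_normal
  have hH₀ := hk.normal
  have hsol : Group.IsSolvable L := isSolvable h
  have hUW := U_inf_W₁ h
  have hcopH := coprime_H h
  have hcopU : (Nat.card U).Coprime (Nat.card H) := h.HU_coprime.symm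
  have hW₂ := inf_centralizer_W₁ h
  obtain ⟨p, hp, hcomm, hpow, hcard, hcardW⟩ := KernelAux.card_factor hk.lt hk.max hcopH h.U_ne
    (W₁_ne h) hUW h.W₁_norm (fpf h) hk.cent_le hW₂ h.W₂_cyclic
  set C := factorCentralizer H U H₀ with hC
  have hmemC : ∀ x : L, x ∈ C ↔ x ∈ U ∧ ∀ h ∈ H, x * h * x⁻¹ * h⁻¹ ∈ H₀ :=
    fun x => mem_factorCentralizer x
  have hCU : C ≤ U := inf_le_left
  -- fixed points of `U`
  have hfixed : ∀ k ∈ H, (∀ x ∈ U, x * k * x⁻¹ * k⁻¹ ∈ H₀) → k ∈ H₀ := by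
    intro k hkH hfix
    obtain ⟨c, hc, hkc⟩ := Cfsg.Agent.S0022.result U H
      (fun a _ => by rw [Subgroup.normalizer_eq_top]; trivial)
      hcopU (Or.inr inferInstance) H₀ hk.lt.le
      (fun a _ => by rw [Subgroup.normalizer_eq_top]; trivial)
      (fun a _ => by rw [Subgroup.normalizer_eq_top]; trivial) k hkH hfix
    have h1 : c ∈ H₀ := hk.cent_le hc
    have h2 : k = c * (k⁻¹ * c)⁻¹ := by group
    rw [h2]
    exact mul_mem h1 (inv_mem hkc)
  have hClt : C < U := by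
    refine lt_of_le_of_ne hCU ?_
    intro heq
    apply not_le_of_gt hk.lt
    intro k hkH
    refine hfixed k hkH fun x hx => ?_
    exact ((hmemC x).mp (heq ▸ hx)).2 k hkH
  -- conjugation action on `C`
  have hconjC : ∀ g ∈ Subgroup.normalizer (U : Set L), ∀ c ∈ C, g * c * g⁻¹ ∈ C := by
    intro g hg c hc
    rw [hmemC] at hc ⊢
    refine ⟨(Subgroup.mem_normalizer_iff.mp hg c).mp hc.1, fun k hkH => ?_⟩
    have h1 : g⁻¹ * k * g ∈ H := by
      have := hH.conj_mem k hkH g⁻¹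
      rwa [inv_inv] at this
    have h2 := hH₀.conj_mem _ (hc.2 _ h1) g
    have h3 : g * (c * (g⁻¹ * k * g) * c⁻¹ * (g⁻¹ * k * g)⁻¹) * g⁻¹ =
        g * c * g⁻¹ * k * (g * c * g⁻¹)⁻¹ * k⁻¹ := by group
    rwa [h3] at h2
  have hUC : ∀ x ∈ U, ∀ c ∈ C, x * c * x⁻¹ ∈ C := fun x hx c hc =>
    hconjC x (Subgroup.le_normalizer hx) c hc
  have hWC : ∀ w ∈ W₁, ∀ c ∈ C, w * c * w⁻¹ ∈ C := fun w hw c hc =>
    hconjC w (W₁_le_normalizer h hw) c hc
  -- `H` moves elements of `C` by elements of `H₀`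
  have hHC : ∀ k ∈ H, ∀ c ∈ C, k * c * k⁻¹ * c⁻¹ ∈ H₀ := by
    intro k hkH c hc
    have h1 := inv_mem (((hmemC c).mp hc).2 k hkH)
    have h2 : (c * k * c⁻¹ * k⁻¹)⁻¹ = k * c * k⁻¹ * c⁻¹ := by group
    rwa [h2] at h1
  have hUder : ⁅U, U⁆ ≤ C := by
    intro x hx
    rw [hmemC]
    have hxU : x ∈ U := Subgroup.commutator_le_self U hx
    refine ⟨hxU, fun k hkH => ?_⟩
    have h1 := Subgroup.mem_centralizer_iff.mp (h.U_der hx) k hkH
    have h2 : x * k * x⁻¹ * k⁻¹ = 1 := by rw [← h1]; group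
    rw [h2]
    exact one_mem _
  -- normality of `H₀ B` for `B ≤ C`
  have hnorm : ∀ B : Subgroup L, B ≤ C → (∀ x ∈ U, ∀ b ∈ B, x * b * x⁻¹ ∈ B) →
      (∀ x ∈ W₁, ∀ b ∈ B, x * b * x⁻¹ ∈ B) → (H₀ ⊔ B).Normal := by
    intro B hBC hBU hBW
    refine normal_of_conj h ?_ ?_ ?_
    · intro k hkH
      refine conj_mem_sup (fun x hx => Subgroup.mem_sup_left (hH₀.conj_mem x hx k)) ?_
      intro b hb
      have h1 := hHC k hkH b (hBC hb)
      have h2 : k * b * k⁻¹ = (k * b * k⁻¹ * b⁻¹) * b := by group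
      rw [h2]
      exact Subgroup.mul_mem_sup h1 hb
    · intro k hkH
      exact conj_mem_sup (fun x hx => Subgroup.mem_sup_left (hH₀.conj_mem x hx k))
        (fun b hb => Subgroup.mem_sup_right (hBU k hkH b hb))
    · intro k hkH
      exact conj_mem_sup (fun x hx => Subgroup.mem_sup_left (hH₀.conj_mem x hx k))
        (fun b hb => Subgroup.mem_sup_right (hBW k hkH b hb))
  -- commutator subgroups are preserved by conjugation
  have hcommconj : ∀ (B : Subgroup L) (g : L), (∀ b ∈ B, g * b * g⁻¹ ∈ B) →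
      ∀ b ∈ ⁅B, B⁆, g * b * g⁻¹ ∈ ⁅B, B⁆ := by
    intro B g hB b hb
    have h1 : B.map (MulAut.conj g).toMonoidHom ≤ B := by
      rintro _ ⟨b, hb, rfl⟩
      exact hB b hb
    have h2 : (⁅B, B⁆).map (MulAut.conj g).toMonoidHom ≤ ⁅B, B⁆ := by
      rw [Subgroup.map_commutator]
      exact Subgroup.commutator_mono h1 h1
    exact h2 ⟨b, hb, rfl⟩
  have hH₀C'n : (H₀ ⊔ ⁅C, C⁆).Normal :=
    hnorm _ (Subgroup.commutator_le_self C) (fun x hx => hcommconj C x (hUC x hx))
      (fun x hx => hcommconj C x (hWC x hx))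
  have hu1 : 1 < C.relIndex U := by
    have h1 : C.relIndex U ≠ 0 :=
      (Subgroup.index_ne_zero_of_finite : (C.subgroupOf U).index ≠ 0)
    have h2 : C.relIndex U ≠ 1 := by
      rw [Ne, Subgroup.relIndex_eq_one]
      exact not_le_of_gt hClt
    omega
  have hudvd : C.relIndex U ∣ Nat.card U := Subgroup.relIndex_dvd_card C U
  have hpH : p ∣ Nat.card H := by
    have h1 : p ∣ H₀.relIndex H := by
      rw [hcard]
      exact dvd_pow_self p h.W₁_prime.ne_zero
    exact h1.trans (Subgroup.relIndex_dvd_card H₀ H)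
  refine ⟨C, p, ?_⟩
  exact
  { hyp := h
    kernel := hk
    mem_C := hmemC
    p_prime := hp
    q_eq := rfl
    u_eq := rfl
    H_pow := hpow
    H_comm := by
      rw [Subgroup.commutator_le]
      intro a ha b hb
      exact hcomm a ha b hb
    card_bar := hcard
    W₂_bar := by rw [Subgroup.inf_relIndex_left]; exact hcardW
    C_lt := hClt
    fixed := hfixed
    W₁_fixed := by
      intro w hw hw1 k hkH hfix
      have hzw : Subgroup.zpowers w ≤ W₁ := by
        rw [Subgroup.zpowers_le]; exact hw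
      have hcop : (Nat.card (Subgroup.zpowers w)).Coprime (Nat.card H) := by
        refine Nat.Coprime.coprime_dvd_left (Subgroup.card_dvd_of_le hzw) ?_
        exact Nat.Coprime.coprime_dvd_right (Subgroup.card_dvd_of_le (le_K h)) h.W₁_coprime
      have hfix' : ∀ a ∈ Subgroup.zpowers w, a * k * a⁻¹ * k⁻¹ ∈ H₀ := by
        intro a ha
        rw [Subgroup.mem_zpowers_iff] at ha
        obtain ⟨n, rfl⟩ := ha
        rw [← QuotientGroup.eq_one_iff] at hfix ⊢
        simp only [QuotientGroup.mk_mul, QuotientGroup.mk_inv, QuotientGroup.mk_zpow] at hfix ⊢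
        have hc : Commute (w : L ⧸ H₀) (k : L ⧸ H₀) := by
          rw [mul_inv_eq_one, mul_inv_eq_iff_eq_mul] at hfix
          exact hfix
        rw [mul_inv_eq_one, mul_inv_eq_iff_eq_mul]
        exact (hc.zpow_left n).eq
      obtain ⟨c, hc, hkc⟩ := Cfsg.Agent.S0022.result (Subgroup.zpowers w) H
        (fun a _ => by rw [Subgroup.normalizer_eq_top]; trivial)
        hcop (Or.inr inferInstance) H₀ hk.lt.le
        (fun a _ => by rw [Subgroup.normalizer_eq_top]; trivial)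
        (fun a _ => by rw [Subgroup.normalizer_eq_top]; trivial) k hkH hfix'
      obtain ⟨hcH, hcc⟩ := Subgroup.mem_inf.mp hc
      refine ⟨c, ?_, ?_⟩
      · rw [← h.W₂_cent w hw hw1]
        refine ⟨le_K h hcH, ?_⟩
        show c ∈ Subgroup.centralizer _
        rw [Subgroup.mem_centralizer_singleton_iff]
        exact (Subgroup.mem_centralizer_iff.mp hcc w (Subgroup.mem_zpowers w)).symm
      · have h1 : c⁻¹ * k = (k⁻¹ * c)⁻¹ := by group
        rw [h1]
        exact inv_mem hkc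
    W₁_free := by
      intro w hw hw1 x hx hfix
      have hzw : Subgroup.zpowers w ≤ W₁ := by
        rw [Subgroup.zpowers_le]; exact hw
      have hcop : (Nat.card (Subgroup.zpowers w)).Coprime (Nat.card U) := by
        refine Nat.Coprime.coprime_dvd_left (Subgroup.card_dvd_of_le hzw) ?_
        exact Nat.Coprime.coprime_dvd_right (Subgroup.card_dvd_of_le (U_le_K h)) h.W₁_coprime
      have hUnC : U ≤ Subgroup.normalizer (C : Set L) := by
        intro g hg
        rw [Subgroup.mem_normalizer_iff]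
        intro y
        refine ⟨fun hy => hUC g hg y hy, fun hy => ?_⟩
        have h4 := hUC g⁻¹ (inv_mem hg) _ hy
        have h5 : g⁻¹ * (g * y * g⁻¹) * g⁻¹⁻¹ = y := by group
        rwa [h5] at h4
      have hWnC : W₁ ≤ Subgroup.normalizer (C : Set L) := by
        intro g hg
        rw [Subgroup.mem_normalizer_iff]
        intro y
        refine ⟨fun hy => hWC g hg y hy, fun hy => ?_⟩
        have h4 := hWC g⁻¹ (inv_mem hg) _ hy
        have h5 : g⁻¹ * (g * y * g⁻¹) * g⁻¹⁻¹ = y := by group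
        rwa [h5] at h4
      have hfix' : ∀ a ∈ Subgroup.zpowers w, a * x * a⁻¹ * x⁻¹ ∈ C := by
        -- work inside the normalizer of `C`
        have hwN : w ∈ Subgroup.normalizer (C : Set L) := hWnC hw
        have hxN : x ∈ Subgroup.normalizer (C : Set L) := hUnC hx
        have hset : ∀ a : L, a ∈ Subgroup.normalizer (C : Set L) →
            (a * x * a⁻¹ * x⁻¹ ∈ C) → (a⁻¹ * x * a * x⁻¹ ∈ C) := by
          intro a ha h1
          have h2 := (Subgroup.mem_normalizer_iff.mp (inv_mem ha) _).mp h1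
          have h3 := inv_mem h2
          have h4 : (a⁻¹ * (a * x * a⁻¹ * x⁻¹) * a⁻¹⁻¹)⁻¹ = a⁻¹ * x * a * x⁻¹ := by group
          rwa [h4] at h3
        let T : Subgroup L :=
        { carrier := {a | a ∈ Subgroup.normalizer (C : Set L) ∧ a * x * a⁻¹ * x⁻¹ ∈ C}
          one_mem' := ⟨one_mem _, by
            have : (1 : L) * x * 1⁻¹ * x⁻¹ = 1 := by group
            rw [this]; exact one_mem _⟩
          mul_mem' := by
            rintro a b ⟨ha, ha'⟩ ⟨hb, hb'⟩
            refine ⟨mul_mem ha hb, ?_⟩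
            have h1 := (Subgroup.mem_normalizer_iff.mp ha _).mp hb'
            have h2 : a * b * x * (a * b)⁻¹ * x⁻¹ =
                (a * (b * x * b⁻¹ * x⁻¹) * a⁻¹) * (a * x * a⁻¹ * x⁻¹) := by group
            rw [h2]
            exact mul_mem h1 ha'
          inv_mem' := by
            rintro a ⟨ha, ha'⟩
            refine ⟨inv_mem ha, ?_⟩
            have := hset a ha ha'
            rwa [inv_inv] }
        have hle : Subgroup.zpowers w ≤ T := by
          rw [Subgroup.zpowers_le]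
          exact ⟨hwN, hfix⟩
        intro a ha
        exact (hle ha).2
      obtain ⟨c, hc, hkc⟩ := Cfsg.Agent.S0022.result (Subgroup.zpowers w) U
        (hzw.trans (W₁_le_normalizer h)) hcop (Or.inr inferInstance) C hCU hUnC
        (hzw.trans hWnC) x hx hfix'
      obtain ⟨hcU, hcc⟩ := Subgroup.mem_inf.mp hc
      have hc1 : c = 1 := fpf h w hw hw1 c hcU
        (Subgroup.mem_centralizer_iff.mp hcc w (Subgroup.mem_zpowers w))
      rw [hc1, mul_one] at hkc
      exact inv_mem_iff.mp hkc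
    U_conj_C := hUC
    W₁_conj_C := hWC
    U_der_le := hUder
    irr := by
      intro N hle hNH hNU hNW
      refine hk.max N ?_ hle hNH
      refine normal_of_conj h ?_ hNU hNW
      intro k hkH n hn
      have h1 : k * n * k⁻¹ = (k * n * k⁻¹ * n⁻¹) * n := by group
      rw [h1]
      exact mul_mem (hle (hcomm k hkH n (hNH hn))) hn
    HC_normal := by
      refine normal_of_conj h ?_ ?_ ?_
      · intro k hkH x hx
        exact mul_mem (mul_mem (Subgroup.mem_sup_left hkH) hx)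
          (inv_mem (Subgroup.mem_sup_left hkH))
      · intro k hkU
        exact conj_mem_sup (fun x hx => Subgroup.mem_sup_left (hH.conj_mem x hx k))
          (fun b hb => Subgroup.mem_sup_right (hUC k hkU b hb))
      · intro k hkW
        exact conj_mem_sup (fun x hx => Subgroup.mem_sup_left (hH.conj_mem x hx k))
          (fun b hb => Subgroup.mem_sup_right (hWC k hkW b hb))
    H₀C_normal := hnorm C le_rfl hUC hWC
    H₀C'_normal := hH₀C'n
    H₀U'_normal := hnorm _ hUder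
      (fun x hx => hcommconj U x (fun b hb => mul_mem (mul_mem hx hb) (inv_mem hx)))
      (fun x hx => hcommconj U x (h.W₁_norm x hx))
    HC_comm := by
      -- work modulo the normal subgroup `H₀ C'`
      have hmem : ∀ x y : L, x * y * x⁻¹ * y⁻¹ ∈ H₀ ⊔ ⁅C, C⁆ →
          Commute (x : L ⧸ (H₀ ⊔ ⁅C, C⁆)) (y : L ⧸ (H₀ ⊔ ⁅C, C⁆)) := by
        intro x y hxy
        rw [← QuotientGroup.eq_one_iff] at hxy
        simp only [QuotientGroup.mk_mul, QuotientGroup.mk_inv] at hxy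
        rw [mul_inv_eq_one, mul_inv_eq_iff_eq_mul] at hxy
        exact hxy
      rw [Subgroup.commutator_le]
      intro a ha b hb
      rw [← SetLike.mem_coe, Subgroup.normal_mul, Set.mem_mul] at ha hb
      obtain ⟨a₁, ha₁, a₂, ha₂, rfl⟩ := ha
      obtain ⟨b₁, hb₁, b₂, hb₂, rfl⟩ := hb
      have c1 : Commute (a₁ : L ⧸ (H₀ ⊔ ⁅C, C⁆)) (b₁ : L ⧸ (H₀ ⊔ ⁅C, C⁆)) :=
        hmem _ _ (Subgroup.mem_sup_left (hcomm a₁ ha₁ b₁ hb₁))
      have c2 : Commute (a₁ : L ⧸ (H₀ ⊔ ⁅C, C⁆)) (b₂ : L ⧸ (H₀ ⊔ ⁅C, C⁆)) :=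
        hmem _ _ (Subgroup.mem_sup_left (hHC a₁ ha₁ b₂ hb₂))
      have c3 : Commute (a₂ : L ⧸ (H₀ ⊔ ⁅C, C⁆)) (b₁ : L ⧸ (H₀ ⊔ ⁅C, C⁆)) :=
        hmem _ _ (Subgroup.mem_sup_left (((hmemC a₂).mp ha₂).2 b₁ hb₁))
      have c4 : Commute (a₂ : L ⧸ (H₀ ⊔ ⁅C, C⁆)) (b₂ : L ⧸ (H₀ ⊔ ⁅C, C⁆)) :=
        hmem _ _ (Subgroup.mem_sup_right (Subgroup.commutator_mem_commutator ha₂ hb₂))
      have c5 := (c1.mul_right c2).mul_left (c3.mul_right c4)
      rw [← QuotientGroup.eq_one_iff]
      rw [commutatorElement_def]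
      simp only [QuotientGroup.mk_mul, QuotientGroup.mk_inv]
      rw [mul_inv_eq_one, mul_inv_eq_iff_eq_mul]
      exact c5.eq
    u_gt := hu1
    u_odd := h.odd.of_dvd_nat (hudvd.trans (Subgroup.card_subgroup_dvd_card U))
    p_odd := h.odd.of_dvd_nat (hpH.trans (Subgroup.card_subgroup_dvd_card H))
    q_odd := h.odd.of_dvd_nat (Subgroup.card_subgroup_dvd_card W₁)
    p_not_dvd_u := by
      intro hpu
      have h1 : p ∣ 1 := by
        rw [← Nat.Coprime.gcd_eq_one h.HU_coprime]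
        exact Nat.dvd_gcd hpH (hpu.trans hudvd)
      exact hp.one_lt.ne' (Nat.dvd_one.mp h1) }

theorem p_eq_of_prime {K H U W₁ W₂ H₀ C : Subgroup L} {p q n : ℕ}
    (s : Setup K H U W₁ W₂ H₀ C p q n) (h : (Nat.card ↥W₂).Prime) : p = Nat.card ↥W₂ := by
  have h1 : p ∣ Nat.card ↥W₂ := s.W₂_bar ▸ Subgroup.relIndex_dvd_card _ _
  rcases (Nat.dvd_prime h).mp h1 with h2 | h2
  · exact absurd h2 s.p_prime.one_lt.ne'
  · exact h2

end Cfsg.Agent.OddOrderCharacters.PF9.Kernel
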