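import Cfsg.Agent.OddOrderCharacters.PF9.Defs
import Cfsg.Agent.OddOrderCharacters.PF9.SevenLin
import Cfsg.Agent.OddOrderCharacters.PF9.SectionModule
import Mathlib
import Cfsg.Agent.OddOrderCharacters.PF9.CliffGen
import Cfsg.Agent.OddOrderCharacters.PF9.Mackey
import Cfsg.Agent.S1513
import Cfsg.Agent.OddOrderCharacters.SdProj
import Cfsg.Agent.OddOrderCharacters.IndRes
import Cfsg.Agent.Characters.Linear
import Cfsg.Agent.S1489
set_option linter.all false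

-- part: OddOrderCharacters/PF9/NonGalois
section
/-!
# Peterfalvi (9.7)(a): `U` acts reducibly on `H / H₀`
-/

set_option autoImplicit false
open Cfsg
open Cfsg.Agent.OddOrderCharacters.PF9.Defs

namespace Cfsg.Agent.OddOrderCharacters.PF9.NonGalois

open Module SevenLin SectionModule

universe u

variable {L : Type u} [Group L] {K H U W₁ W₂ H₀ C : Subgroup L} {p q n : ℕ}

/-- In the non-Galois case `H / H₀` has coordinates in which `U` is diagonal and a generator `w` of `W₁` is the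
cyclic shift. -/
structure Coords (H U W₁ H₀ C : Subgroup L) (p q : ℕ) (w : L) (x : ↥H → ZMod q → ZMod p)
    (c : ZMod q → ↥U →* (ZMod p)ˣ) : Prop where
  zpowers : Subgroup.zpowers w = W₁
  w_pow : w ^ q = 1
  map_mul : ∀ h h' : ↥H, x (h * h') = x h + x h'
  ker : ∀ h : ↥H, x h = 0 ↔ (h : L) ∈ H₀
  surj : Function.Surjective x
  act_U : ∀ (y : ↥U) (h h' : ↥H), (h' : L) = y * h * (y : L)⁻¹ → ∀ i, x h' i = (c i y : ZMod p) * x h i
  act_w : ∀ (h h' : ↥H), (h' : L) = w * h * w⁻¹ → ∀ i, x h' (i + 1) = x h i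
  c_w : ∀ (y y' : ↥U), (y' : L) = w * y * w⁻¹ → ∀ i, c (i + 1) y' = c i y

theorem exists_coords [Finite L] (s : Setup K H U W₁ W₂ H₀ C p q n) (h : ¬ Galois H U H₀) :
    ∃ (w : L) (x : ↥H → ZMod q → ZMod p) (c : ZMod q → ↥U →* (ZMod p)ˣ), Coords H U W₁ H₀ C p q w x c := by
  classical
  have hp := s.p_prime
  have : Fact p.Prime := ⟨hp⟩
  have hq : q.Prime := by rw [← s.q_eq]; exact s.hyp.W₁_prime
  have : NeZero q := ⟨hq.ne_zero⟩
  have hHn := s.hyp.H_normal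
  have hH₀n := s.kernel.normal
  have hH₀le : H₀ ≤ H := s.kernel.lt.le
  obtain ⟨V, _, _, π, hsurj, hadd, hker, hcard⟩ := exists_module p H H₀
    (fun h _ k hk => hH₀n.conj_mem k hk h)
    (fun a ha b hb => s.H_comm (Subgroup.commutator_mem_commutator ha hb)) s.H_pow
  obtain ⟨ρ, hρ⟩ := exists_rep_normal (p := p) hsurj hadd hker hHn hH₀n
  have hfinV : Finite V := Finite.of_surjective π hsurj
  have hfr : finrank (ZMod p) V = q := by
    have h1 : Nat.card V = Nat.card (ZMod p) ^ finrank (ZMod p) V := Module.natCard_eq_pow_finrank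
    rw [hcard, s.card_bar, Nat.card_zmod] at h1
    exact (Nat.pow_right_injective hp.two_le h1).symm
  -- generator of `W₁`
  have hW₁card : Nat.card ↥W₁ = q := s.q_eq
  obtain ⟨w, hwgen⟩ : ∃ w : L, Subgroup.zpowers w = W₁ := by
    have : Fact q.Prime := ⟨hq⟩
    have hcyc : IsCyclic ↥W₁ := isCyclic_of_prime_card hW₁card
    obtain ⟨g, hg⟩ := hcyc.exists_generator
    refine ⟨g, le_antisymm (Subgroup.zpowers_le.2 g.2) (fun y hy => ?_)⟩
    obtain ⟨k, hk⟩ := hg ⟨y, hy⟩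
    refine ⟨k, ?_⟩
    have := congrArg (Subtype.val) hk
    simpa using this
  have hwW : w ∈ W₁ := by rw [← hwgen]; exact Subgroup.mem_zpowers w
  have hwq : w ^ q = 1 := by
    have h1 : orderOf w = q := by rw [← Nat.card_zpowers, hwgen, hW₁card]
    rw [← h1, pow_orderOf_eq_one]
  let W : V ≃ₗ[ZMod p] V := LinearMap.GeneralLinearGroup.generalLinearEquiv (ZMod p) V (ρ.toHomUnits w)
  have hW : ∀ v, W v = ρ w v := fun v => rfl
  have hWsymm : ∀ v, W.symm v = ρ w⁻¹ v := by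
    intro v
    rw [LinearEquiv.symm_apply_eq, hW]
    have : ρ w * ρ w⁻¹ = 1 := by rw [← map_mul, mul_inv_cancel, map_one]
    exact (LinearMap.congr_fun this v).symm
  have hWpow : ∀ (k : ℕ) v, (W ^ k) v = ρ (w ^ k) v := by
    intro k
    induction k with
    | zero => intro v; rw [pow_zero, pow_zero, map_one]; rfl
    | succ k ih =>
      intro v
      rw [pow_succ, pow_succ, map_mul]
      change (W ^ k) (W v) = ρ (w ^ k) (ρ w v)
      rw [ih, hW]
  let S : Set (End (ZMod p) V) := {f | ∃ y ∈ U, f = ρ y}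
  have hwS : ∀ f ∈ S, (W : End (ZMod p) V) * f * (W.symm : End (ZMod p) V) ∈ S := by
    rintro f ⟨y, hy, rfl⟩
    refine ⟨w * y * w⁻¹, s.hyp.W₁_norm w hwW y hy, ?_⟩
    ext v
    change W (ρ y (W.symm v)) = _
    rw [hW, hWsymm, map_mul, map_mul]
    rfl
  have hWq : W ^ q = 1 := by
    ext v
    rw [hWpow, hwq, map_one]
    rfl
  have hinv_sub : ∀ (X : Submodule (ZMod p) V) (N : Subgroup L), N ≤ H →
      (∀ h : ↥H, (h : L) ∈ N ↔ π h ∈ X) → ∀ y : L, (∀ v ∈ X, ρ y v ∈ X) → ∀ m ∈ N, y * m * y⁻¹ ∈ N := by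
    intro X N hN hNX y hy m hm
    have h1 : π ⟨m, hN hm⟩ ∈ X := (hNX ⟨m, hN hm⟩).1 hm
    have h2 := hy _ h1
    rw [hρ] at h2
    exact (hNX ⟨y * m * y⁻¹, hHn.conj_mem m (hN hm) y⟩).2 h2
  have hirrW : ∀ X : Submodule (ZMod p) V, Inv S X → (∀ v ∈ X, W v ∈ X) → X = ⊥ ∨ X = ⊤ := by
    intro X hX hXw
    obtain ⟨N, hN, hNX⟩ := exists_subgroup hadd X
    have hH₀N : H₀ ≤ N := by
      intro y hy
      have h1 : π ⟨y, hH₀le hy⟩ = 0 := (hker _).2 hy
      exact (hNX ⟨y, hH₀le hy⟩).2 (by rw [h1]; exact X.zero_mem)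
    have hNU : ∀ y ∈ U, ∀ m ∈ N, y * m * y⁻¹ ∈ N := fun y hy =>
      hinv_sub X N hN hNX y (fun v hv => hX _ ⟨y, hy, rfl⟩ v hv)
    have hXpow : ∀ (k : ℕ), ∀ v ∈ X, ρ (w ^ k) v ∈ X := by
      intro k
      induction k with
      | zero => intro v hv; rw [pow_zero, map_one]; exact hv
      | succ k ih =>
        intro v hv
        rw [pow_succ, map_mul]
        exact ih _ (hXw v hv)
    have hNW : ∀ y ∈ W₁, ∀ m ∈ N, y * m * y⁻¹ ∈ N := by
      intro y hy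
      rw [← hwgen] at hy
      obtain ⟨k, rfl⟩ := mem_powers_iff_mem_zpowers.2 hy
      exact hinv_sub X N hN hNX _ (hXpow k)
    rcases s.irr N hH₀N hN hNU hNW with h1 | h1
    · left
      rw [eq_bot_iff]
      intro v hv
      obtain ⟨a, rfl⟩ := hsurj v
      have h2 := (hNX a).2 hv
      rw [h1] at h2
      exact (Submodule.mem_bot _).2 ((hker a).2 h2)
    · right
      rw [eq_top_iff]
      intro v _
      obtain ⟨a, rfl⟩ := hsurj v
      exact (hNX a).1 (by rw [h1]; exact a.2)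
  have hred : ∃ X : Submodule (ZMod p) V, Inv S X ∧ X ≠ ⊥ ∧ X ≠ ⊤ := by
    unfold Galois at h
    push Not at h
    obtain ⟨N, hN0, hNH, hNU, hne1, hne2⟩ := h
    obtain ⟨X, hX⟩ := exists_submodule (p := p) hadd hker N hN0
    refine ⟨X, ?_, ?_, ?_⟩
    · rintro f ⟨y, hy, rfl⟩ v hv
      obtain ⟨a, rfl⟩ := hsurj v
      rw [hρ, hX]
      exact hNU y hy a ((hX a).1 hv)
    · intro hbot
      apply hne1
      apply le_antisymm _ hN0
      intro y hy
      have h1 := (hX ⟨y, hNH hy⟩).2 hy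
      rw [hbot, Submodule.mem_bot, hker] at h1
      exact h1
    · intro htop
      apply hne2
      apply le_antisymm hNH
      intro y hy
      exact (hX ⟨y, hy⟩).1 (by rw [htop]; trivial)
  obtain ⟨v₁, b, hb, hv₁⟩ := reducible_linear hq hfr W hwS hWq hirrW hred
  -- reindex by `ZMod q`
  have hpow_mod : ∀ k l : ℕ, (k : ZMod q) = l → ρ (w ^ k) = ρ (w ^ l) := by
    intro k l hkl
    have h1 : k ≡ l [MOD q] := (ZMod.natCast_eq_natCast_iff k l q).1 hkl
    have h2 : w ^ k = w ^ l := by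
      rw [pow_eq_pow_iff_modEq]
      exact h1.of_dvd (orderOf_dvd_of_pow_eq_one hwq)
    rw [h2]
  let e : Fin q ≃ ZMod q := Equiv.ofBijective (fun i : Fin q => ((i : ℕ) : ZMod q)) (by
    rw [Fintype.bijective_iff_injective_and_card]
    refine ⟨fun i j hij => ?_, by rw [Fintype.card_fin, ZMod.card]⟩
    have h1 := (ZMod.natCast_eq_natCast_iff' (i : ℕ) (j : ℕ) q).1 hij
    rw [Nat.mod_eq_of_lt i.2, Nat.mod_eq_of_lt j.2] at h1
    exact Fin.ext h1)
  have he : ∀ i : Fin q, e i = ((i : ℕ) : ZMod q) := fun i => rfl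
  let b' : Basis (ZMod q) (ZMod p) V := b.reindex e
  have hb' : ∀ k : ℕ, b' (k : ZMod q) = ρ (w ^ k) v₁ := by
    intro k
    change b.reindex e (k : ZMod q) = _
    rw [Basis.reindex_apply, hb, hWpow]
    refine LinearMap.congr_fun (hpow_mod _ _ ?_) v₁
    rw [← he, Equiv.apply_symm_apply]
  -- scalars
  have hv₁U : ∀ y ∈ U, ∃ c : ZMod p, ρ y v₁ = c • v₁ := fun y hy => hv₁ _ ⟨y, hy, rfl⟩
  have hconjpow : ∀ (k : ℕ) (y : L), y ∈ U → (w ^ k)⁻¹ * y * w ^ k ∈ U := by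
    intro k y hy
    have h1 := s.hyp.W₁_norm (w ^ k)⁻¹ (W₁.inv_mem (W₁.pow_mem hwW k)) y hy
    rwa [inv_inv] at h1
  have hscal : ∀ (i : ZMod q) (y : ↥U), ∃ c : ZMod p, ρ y (b' i) = c • b' i := by
    intro i y
    obtain ⟨k, rfl⟩ : ∃ k : ℕ, (k : ZMod q) = i := ⟨i.val, ZMod.natCast_zmod_val i⟩
    obtain ⟨c, hc⟩ := hv₁U _ (hconjpow k y y.2)
    refine ⟨c, ?_⟩
    rw [hb', ← map_smul, ← hc, ← Module.End.mul_apply, ← Module.End.mul_apply, ← map_mul, ← map_mul]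
    congr 2
    group
  choose c₀ hc₀ using hscal
  have hbne : ∀ i, b' i ≠ 0 := fun i => b'.ne_zero i
  have hc₀_mul : ∀ i y y', c₀ i (y * y') = c₀ i y * c₀ i y' := by
    intro i y y'
    have h1 : c₀ i (y * y') • b' i = (c₀ i y * c₀ i y') • b' i := by
      rw [← hc₀, Subgroup.coe_mul, map_mul, Module.End.mul_apply, hc₀, map_smul, hc₀, smul_smul,
        mul_comm]
    exact smul_left_injective _ (hbne i) h1
  have hc₀_one : ∀ i, c₀ i 1 = 1 := by
    intro i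
    have h1 : c₀ i 1 • b' i = (1 : ZMod p) • b' i := by
      rw [← hc₀, Subgroup.coe_one, map_one, one_smul]
      rfl
    exact smul_left_injective _ (hbne i) h1
  let c : ZMod q → ↥U →* (ZMod p)ˣ := fun i =>
    MonoidHom.toHomUnits { toFun := c₀ i, map_one' := hc₀_one i, map_mul' := hc₀_mul i }
  have hc : ∀ i y, ((c i y : (ZMod p)ˣ) : ZMod p) = c₀ i y := fun i y => rfl
  have hwb : ∀ i, ρ w (b' i) = b' (i + 1) := by
    intro i
    obtain ⟨k, rfl⟩ : ∃ k : ℕ, (k : ZMod q) = i := ⟨i.val, ZMod.natCast_zmod_val i⟩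
    have h1 : ((k : ZMod q) + 1) = ((k + 1 : ℕ) : ZMod q) := by push_cast; rfl
    rw [h1, hb', hb', ← Module.End.mul_apply, ← map_mul, ← pow_succ']
  have hreprU : ∀ (y : ↥U) (v : V) (i : ZMod q), b'.repr (ρ y v) i = c₀ i y * b'.repr v i := by
    intro y v i
    conv_lhs => rw [← b'.sum_repr v]
    rw [map_sum, map_sum, Finsupp.finsetSum_apply]
    rw [Finset.sum_eq_single i]
    · rw [map_smul, hc₀, map_smul, map_smul, Basis.repr_self]
      simp [mul_comm]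
    · intro j _ hj
      rw [map_smul, hc₀, map_smul, map_smul, Basis.repr_self]
      simp [hj]
    · intro h1; exact absurd (Finset.mem_univ _) h1
  have hreprw : ∀ (v : V) (i : ZMod q), b'.repr (ρ w v) (i + 1) = b'.repr v i := by
    intro v i
    conv_lhs => rw [← b'.sum_repr v]
    rw [map_sum, map_sum, Finsupp.finsetSum_apply]
    rw [Finset.sum_eq_single i]
    · rw [map_smul, hwb, map_smul, Basis.repr_self]
      simp
    · intro j _ hj
      rw [map_smul, hwb, map_smul, Basis.repr_self]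
      simp [hj]
    · intro h1; exact absurd (Finset.mem_univ _) h1
  refine ⟨w, fun h => b'.repr (π h), c, hwgen, hwq, ?_, ?_, ?_, ?_, ?_, ?_⟩
  · intro a a'
    rw [hadd, map_add]
    rfl
  · intro a
    rw [← hker]
    constructor
    · intro h1
      apply b'.repr.injective
      rw [map_zero]
      exact DFunLike.coe_injective h1
    · intro h1
      rw [h1, map_zero]
      rfl
  · intro f
    obtain ⟨a, ha⟩ := hsurj (b'.repr.symm (Finsupp.equivFunOnFinite.symm f))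
    refine ⟨a, ?_⟩
    change ⇑(b'.repr (π a)) = f
    rw [ha, LinearEquiv.apply_symm_apply]
    rfl
  · intro y a a' haa' i
    have h1 : π a' = ρ y (π a) := by
      rw [hρ]
      congr 1
      exact Subtype.ext haa'
    rw [h1, hreprU]
    rfl
  · intro a a' haa' i
    have h1 : π a' = ρ w (π a) := by
      rw [hρ]
      congr 1
      exact Subtype.ext haa'
    change b'.repr (π a') (i + 1) = _
    rw [h1, hreprw]
  · intro y y' hyy' i
    ext
    rw [hc, hc]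
    have h1 : c₀ (i + 1) y' • b' (i + 1) = c₀ i y • b' (i + 1) := by
      rw [← hc₀, ← hwb, hyy', ← Module.End.mul_apply, ← map_mul]
      have h2 : w * (y : L) * w⁻¹ * w = w * y := by group
      rw [h2, map_mul, Module.End.mul_apply, hc₀, map_smul]
    exact smul_left_injective _ (hbne _) h1

section consequences

variable [Finite L] {w : L} {x : ↥H → ZMod q → ZMod p} {c : ZMod q → ↥U →* (ZMod p)ˣ}

omit [Finite L] in
theorem Coords.map_one (cc : Coords H U W₁ H₀ C p q w x c) : x 1 = 0 := by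
  have := cc.map_mul 1 1
  rw [mul_one] at this
  exact left_eq_add.1 this

omit [Finite L] in
theorem Coords.map_inv (cc : Coords H U W₁ H₀ C p q w x c) (h : ↥H) : x h⁻¹ = -x h := by
  have h1 := cc.map_mul h⁻¹ h
  rw [inv_mul_cancel, cc.map_one] at h1
  exact eq_neg_of_add_eq_zero_left h1.symm

omit [Finite L] in
theorem Coords.map_prod (cc : Coords H U W₁ H₀ C p q w x c) (l : List ↥H) :
    x l.prod = (l.map x).sum := by
  induction l with
  | nil => simpa using cc.map_one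
  | cons a l ih => rw [List.prod_cons, cc.map_mul, ih, List.map_cons, List.sum_cons]

omit [Finite L] in
/-- `c` at a shifted index -/
theorem Coords.c_pow (cc : Coords H U W₁ H₀ C p q w x c)
    (hW : ∀ y ∈ U, w * y * w⁻¹ ∈ U) (k : ℕ) :
    ∀ (y y' : ↥U), (y' : L) = w ^ k * y * (w ^ k)⁻¹ → ∀ i, c (i + k) y' = c i y := by
  induction k with
  | zero =>
    intro y y' h i
    have h1 : y' = y := by
      apply Subtype.ext
      rw [h]; simp
    rw [h1]; simp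
  | succ k ih =>
    intro y y' h i
    have h1 := ih y ⟨w ^ k * y * (w ^ k)⁻¹, by
      clear h ih
      induction k with
      | zero => simp
      | succ k ih2 =>
        have := hW _ ih2
        have e : w * (w ^ k * (y : L) * (w ^ k)⁻¹) * w⁻¹ = w ^ (k + 1) * y * (w ^ (k + 1))⁻¹ := by
          rw [pow_succ']; group
        rwa [e] at this⟩ rfl i
    have h2 := cc.c_w ⟨w ^ k * y * (w ^ k)⁻¹, (by
      clear h ih h1
      induction k with
      | zero => simp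
      | succ k ih2 =>
        have := hW _ ih2
        have e : w * (w ^ k * (y : L) * (w ^ k)⁻¹) * w⁻¹ = w ^ (k + 1) * y * (w ^ (k + 1))⁻¹ := by
          rw [pow_succ']; group
        rwa [e] at this)⟩ y' (by rw [h, pow_succ']; group) (i + k)
    have h3 : i + ((k + 1 : ℕ) : ZMod q) = i + k + 1 := by push_cast; ring
    rw [h3, h2, h1]

omit [Finite L] in
theorem Coords.exists_pow_conj (cc : Coords H U W₁ H₀ C p q w x c)
    (s : Setup K H U W₁ W₂ H₀ C p q n) (y : ↥U) (k : ℕ) :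
    w ^ k * (y : L) * (w ^ k)⁻¹ ∈ U := by
  have hw : w ∈ W₁ := by rw [← cc.zpowers]; exact Subgroup.mem_zpowers w
  exact s.hyp.W₁_norm _ (W₁.pow_mem hw k) y y.2

omit [Finite L] in
/-- all the ranges are equal -/
theorem Coords.range_eq (cc : Coords H U W₁ H₀ C p q w x c)
    (s : Setup K H U W₁ W₂ H₀ C p q n) (i : ZMod q) : (c i).range = (c 0).range := by
  have hq : q.Prime := by rw [← s.q_eq]; exact s.hyp.W₁_prime
  have : NeZero q := ⟨hq.ne_zero⟩
  have hw : w ∈ W₁ := by rw [← cc.zpowers]; exact Subgroup.mem_zpowers w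
  have hW : ∀ y ∈ U, w * y * w⁻¹ ∈ U := fun y hy => s.hyp.W₁_norm w hw y hy
  have key : ∀ (i : ZMod q) (k : ℕ), (c i).range ≤ (c (i + k)).range := by
    rintro i k _ ⟨y, rfl⟩
    exact ⟨⟨_, cc.exists_pow_conj s y k⟩, cc.c_pow hW k y _ rfl i⟩
  apply le_antisymm
  · have := key i (-i).val
    rwa [ZMod.natCast_zmod_val, add_neg_cancel] at this
  · have := key 0 i.val
    rwa [ZMod.natCast_zmod_val, zero_add] at this

/-- the product of all the scalars is `1` -/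
theorem Coords.prod_eq_one (cc : Coords H U W₁ H₀ C p q w x c)
    (s : Setup K H U W₁ W₂ H₀ C p q n) [Fintype (ZMod q)] (y : ↥U) : ∏ i, c i y = 1 := by
  have hq : q.Prime := by rw [← s.q_eq]; exact s.hyp.W₁_prime
  have hw : w ∈ W₁ := by rw [← cc.zpowers]; exact Subgroup.mem_zpowers w
  have hw1 : w ≠ 1 := by
    intro h1
    have h2 : Nat.card ↥W₁ = 1 := by
      rw [← cc.zpowers, h1, Subgroup.zpowers_one_eq_bot, Subgroup.card_bot]
    rw [s.q_eq] at h2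
    exact hq.one_lt.ne' h2
  have hW : ∀ y ∈ U, w * y * w⁻¹ ∈ U := fun y hy => s.hyp.W₁_norm w hw y hy
  have hcent : ∀ z ∈ U, w * z * w⁻¹ = z → z = 1 := by
    intro z hz hwz
    have h1 : z ∈ K ⊓ Subgroup.centralizer ({w} : Set L) := by
      refine ⟨by rw [← s.hyp.K_eq]; exact Subgroup.mem_sup_right hz, ?_⟩
      refine Subgroup.mem_centralizer_singleton_iff.2 ?_
      rw [mul_inv_eq_iff_eq_mul] at hwz
      exact hwz.symm
    rw [s.hyp.W₂_cent w hw hw1] at h1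
    have h2 : z ∈ H ⊓ U := ⟨s.hyp.W₂_le h1, hz⟩
    rw [s.hyp.HU_inf] at h2
    exact h2
  let f : ↥U → ↥U := fun z => ⟨w * z * w⁻¹ * (z : L)⁻¹, U.mul_mem (hW z z.2) (U.inv_mem z.2)⟩
  have hf : Function.Injective f := by
    intro z z' h
    have h1 : w * (z : L) * w⁻¹ * (z : L)⁻¹ = w * z' * w⁻¹ * (z' : L)⁻¹ := congrArg Subtype.val h
    have h2 : w * ((z' : L)⁻¹ * z) * w⁻¹ = (z' : L)⁻¹ * z := by
      have h3 : w * (z : L) * w⁻¹ = w * z' * w⁻¹ * (z' : L)⁻¹ * z := by rw [← h1]; group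
      calc w * ((z' : L)⁻¹ * z) * w⁻¹ = (w * z' * w⁻¹)⁻¹ * (w * z * w⁻¹) := by group
        _ = (w * z' * w⁻¹)⁻¹ * (w * z' * w⁻¹ * (z' : L)⁻¹ * z) := by rw [h3]
        _ = (z' : L)⁻¹ * z := by group
    have h4 := hcent _ (U.mul_mem (U.inv_mem z'.2) z.2) h2
    exact Subtype.ext (inv_mul_eq_one.1 h4).symm
  obtain ⟨z, rfl⟩ := Finite.surjective_of_injective hf y
  let z' : ↥U := ⟨w * z * w⁻¹, hW z z.2⟩
  have hfz : f z = z' * z⁻¹ := Subtype.ext rfl
  rw [hfz]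
  simp only [_root_.map_mul, _root_.map_inv, Finset.prod_mul_distrib, Finset.prod_inv_distrib]
  have h5 : ∏ i, c i z' = ∏ i, c i z := by
    rw [← Equiv.prod_comp (Equiv.addRight (1 : ZMod q))]
    exact Finset.prod_congr rfl (fun i _ => cc.c_w z z' rfl i)
  rw [h5, mul_inv_cancel]

omit [Finite L] in
/-- membership in `C` in terms of scalars -/
theorem Coords.mem_C_iff (cc : Coords H U W₁ H₀ C p q w x c)
    (s : Setup K H U W₁ W₂ H₀ C p q n) (y : ↥U) : (y : L) ∈ C ↔ ∀ i, c i y = 1 := by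
  have hHn := s.hyp.H_normal
  classical
  rw [s.mem_C]
  constructor
  · rintro ⟨-, h1⟩ i
    obtain ⟨h, hh⟩ := cc.surj (Pi.single i 1)
    let h' : ↥H := ⟨y * h * (y : L)⁻¹, hHn.conj_mem h h.2 y⟩
    have h2 : x (h' * h⁻¹) = 0 := (cc.ker _).2 (h1 h h.2)
    rw [cc.map_mul, cc.map_inv] at h2
    have h3 := congrFun h2 i
    simp only [Pi.add_apply, Pi.neg_apply, Pi.zero_apply] at h3
    rw [cc.act_U y h h' rfl i, hh, Pi.single_eq_same, mul_one] at h3
    exact Units.ext (by rw [Units.val_one]; exact eq_of_sub_eq_zero (by rw [sub_eq_add_neg]; exact h3))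
  · intro h1
    refine ⟨y.2, fun h hh => ?_⟩
    let h' : ↥H := ⟨y * h * (y : L)⁻¹, hHn.conj_mem h hh y⟩
    have h2 : x (h' * (⟨h, hh⟩ : ↥H)⁻¹) = 0 := by
      rw [cc.map_mul, cc.map_inv]
      funext i
      simp only [Pi.add_apply, Pi.neg_apply, Pi.zero_apply]
      rw [cc.act_U y ⟨h, hh⟩ h' rfl i, h1 i, Units.val_one, one_mul, add_neg_cancel]
    exact (cc.ker _).1 h2

end consequences

/-- Peterfalvi (9.7)(a) from the coordinates. -/
theorem nonGalois_of_coords [Finite L] {w : L} {x : ↥H → ZMod q → ZMod p} {c : ZMod q → ↥U →* (ZMod p)ˣ}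
    (cc : Coords H U W₁ H₀ C p q w x c) (s : Setup K H U W₁ W₂ H₀ C p q n) :
    ∃ (H₁ U₁ : Subgroup L) (a : ℕ), NonGalois K H U W₁ W₂ H₀ C H₁ U₁ p q n a ∧
      (∀ h : ↥H, (h : L) ∈ H₁ ↔ ∀ i, i ≠ 0 → x h i = 0) ∧ (∀ y : ↥U, (y : L) ∈ U₁ ↔ c 0 y = 1) := by
  classical
  have hp := s.p_prime
  have : Fact p.Prime := ⟨hp⟩
  have hq : q.Prime := by rw [← s.q_eq]; exact s.hyp.W₁_prime
  have : NeZero q := ⟨hq.ne_zero⟩
  have : Fact q.Prime := ⟨hq⟩
  have hHn := s.hyp.H_normal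
  have hH₀n := s.kernel.normal
  have hH₀le : H₀ ≤ H := s.kernel.lt.le
  have hwW : w ∈ W₁ := by rw [← cc.zpowers]; exact Subgroup.mem_zpowers w
  have hW : ∀ y ∈ U, w * y * w⁻¹ ∈ U := fun y hy => s.hyp.W₁_norm w hwW y hy
  -- `H₁`
  let H₁' : Subgroup ↥H :=
    { carrier := {h | ∀ i, i ≠ 0 → x h i = 0}
      mul_mem' := fun {a b} ha hb i hi => by
        rw [cc.map_mul, Pi.add_apply, ha i hi, hb i hi, add_zero]
      one_mem' := fun i _ => by rw [cc.map_one]; rfl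
      inv_mem' := fun {a} ha i hi => by
        rw [cc.map_inv, Pi.neg_apply, ha i hi, neg_zero] }
  let H₁ : Subgroup L := H₁'.map H.subtype
  have hH₁le : H₁ ≤ H := Subgroup.map_subtype_le H₁'
  have hH₁ : ∀ h : ↥H, (h : L) ∈ H₁ ↔ ∀ i, i ≠ 0 → x h i = 0 := by
    intro h
    constructor
    · rintro ⟨k, hk, hkh⟩
      have : k = h := Subtype.ext hkh
      rw [← this]; exact hk
    · intro h'
      exact ⟨h, h', rfl⟩
  have hH₀H₁ : H₀ ≤ H₁ := by
    intro y hy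
    have h1 : x ⟨y, hH₀le hy⟩ = 0 := (cc.ker _).2 hy
    exact (hH₁ ⟨y, hH₀le hy⟩).2 (fun i _ => by rw [h1]; rfl)
  -- `U₁`
  let U₁ : Subgroup L := (c 0).ker.map U.subtype
  have hU₁le : U₁ ≤ U := Subgroup.map_subtype_le _
  have hU₁ : ∀ y : ↥U, (y : L) ∈ U₁ ↔ c 0 y = 1 := by
    intro y
    constructor
    · rintro ⟨k, hk, hky⟩
      have : k = y := Subtype.ext hky
      rw [← this]; exact hk
    · intro h'
      exact ⟨y, h', rfl⟩
  have hU₁sub : U₁.subgroupOf U = (c 0).ker := by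
    ext y
    rw [Subgroup.mem_subgroupOf, hU₁]
    rfl
  have ha_eq : U₁.relIndex U = Nat.card (c 0).range := by
    rw [Subgroup.relIndex, hU₁sub, Subgroup.index_ker]
  have hsurj0 : ∀ t : ZMod q → ZMod p, ∃ h : ↥H, x h = t := cc.surj
  have hmemU₁ : ∀ y : L, y ∈ U₁ ↔ y ∈ U ∧ ∀ h ∈ H₁, y * h * y⁻¹ * h⁻¹ ∈ H₀ := by
    intro y
    constructor
    · intro hy
      refine ⟨hU₁le hy, fun h hh => ?_⟩
      have hc1 : c 0 ⟨y, hU₁le hy⟩ = 1 := (hU₁ ⟨y, hU₁le hy⟩).1 hy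
      let hH : ↥H := ⟨h, hH₁le hh⟩
      let h' : ↥H := ⟨y * h * y⁻¹, hHn.conj_mem h (hH₁le hh) y⟩
      have h2 : x (h' * hH⁻¹) = 0 := by
        rw [cc.map_mul, cc.map_inv]
        funext i
        simp only [Pi.add_apply, Pi.neg_apply, Pi.zero_apply]
        rw [cc.act_U ⟨y, hU₁le hy⟩ hH h' rfl i]
        by_cases hi : i = 0
        · rw [hi, hc1, Units.val_one, one_mul, add_neg_cancel]
        · rw [(hH₁ hH).1 hh i hi, mul_zero, neg_zero, add_zero]
      exact (cc.ker _).1 h2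
    · rintro ⟨hyU, hy⟩
      obtain ⟨h, hh⟩ := hsurj0 (Pi.single 0 1)
      have hhH₁ : (h : L) ∈ H₁ := (hH₁ h).2 (fun i hi => by rw [hh]; exact Pi.single_eq_of_ne hi 1)
      let h' : ↥H := ⟨y * h * y⁻¹, hHn.conj_mem h h.2 y⟩
      have h2 : x (h' * h⁻¹) = 0 := (cc.ker _).2 (hy h hhH₁)
      rw [cc.map_mul, cc.map_inv] at h2
      have h3 := congrFun h2 0
      simp only [Pi.add_apply, Pi.neg_apply, Pi.zero_apply] at h3
      rw [cc.act_U ⟨y, hyU⟩ h h' rfl 0, hh, Pi.single_eq_same, mul_one] at h3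
      exact (hU₁ ⟨y, hyU⟩).2
        (Units.ext (by rw [Units.val_one]; exact eq_of_sub_eq_zero (by rw [sub_eq_add_neg]; exact h3)))
  -- `a`
  set a := Nat.card (c 0).range with ha
  have hapos : 0 < a := Nat.card_pos
  have ha_dvd : a ∣ p - 1 := by
    have h1 : a ∣ Nat.card (ZMod p)ˣ := Subgroup.card_subgroup_dvd_card _
    rwa [Nat.card_units, Nat.card_zmod] at h1
  have ha_odd : Odd a := by
    have h1 : a ∣ Nat.card ↥U := by
      rw [ha, ← Subgroup.index_ker]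
      exact Subgroup.index_dvd_card _
    have h2 : a ∣ Nat.card L := h1.trans (Subgroup.card_subgroup_dvd_card U)
    exact Odd.of_dvd_nat s.hyp.odd h2
  have ha_gt : 1 < a := by
    by_contra hle
    have ha1 : a = 1 := by omega
    have h1 : ∀ i y, c i y = 1 := by
      intro i y
      have h2 : (c i).range = ⊥ := by
        rw [cc.range_eq s i]
        exact Subgroup.card_eq_one.1 ha1
      have h3 : c i y ∈ (c i).range := ⟨y, rfl⟩
      rw [h2] at h3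
      exact h3
    apply s.kernel.lt.not_ge
    intro h hh
    refine s.fixed h hh (fun y hy => ?_)
    have h4 : y ∈ C := (cc.mem_C_iff s ⟨y, hy⟩).2 (fun i => h1 i _)
    exact ((s.mem_C y).1 h4).2 h hh
  have hC_le : C ≤ U₁ := by
    intro y hy
    have h1 := (s.mem_C y).1 hy
    exact (hU₁ ⟨y, h1.1⟩).2 ((cc.mem_C_iff s ⟨y, h1.1⟩).1 hy 0)
  -- cyclic
  obtain ⟨g₀, hg₀⟩ : ∃ g : ↥U, ∀ y : ↥U, ∃ m : ℕ, c 0 y = (c 0 g) ^ m := by
    have hcyc : IsCyclic (c 0).range := inferInstance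
    obtain ⟨⟨_, ⟨g, rfl⟩⟩, hg⟩ := hcyc.exists_generator
    refine ⟨g, fun y => ?_⟩
    obtain ⟨m, hm⟩ := mem_powers_iff_mem_zpowers.2 (hg ⟨c 0 y, ⟨y, rfl⟩⟩)
    exact ⟨m, (congrArg Subtype.val hm).symm⟩
  -- embedding
  have hcard_range : ∀ i, Nat.card (c i).range = a := fun i => by rw [cc.range_eq s i]
  let R := (c 0).range
  have hcycR : IsCyclic R := inferInstance
  let iso : R ≃* Multiplicative (ZMod a) := (zmodCyclicMulEquiv hcycR).symm
  have hmemR : ∀ (i : ZMod q) (y : ↥U), c i y ∈ R := fun i y => by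
    have h1 : c i y ∈ (c i).range := ⟨y, rfl⟩
    rw [cc.range_eq s i] at h1
    exact h1
  let f : ↥U →* (Fin (q - 1) → Multiplicative (ZMod a)) :=
    { toFun := fun y i => iso ⟨c (((i : ℕ) : ZMod q) + 1) y, hmemR _ y⟩
      map_one' := by
        funext i
        have h1 : (⟨c (((i : ℕ) : ZMod q) + 1) 1, hmemR _ 1⟩ : R) = 1 := Subtype.ext (_root_.map_one _)
        rw [h1, _root_.map_one]
        rfl
      map_mul' := fun y y' => by
        funext i
        have h1 : (⟨c (((i : ℕ) : ZMod q) + 1) (y * y'), hmemR _ _⟩ : R) =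
          ⟨c (((i : ℕ) : ZMod q) + 1) y, hmemR _ _⟩ * ⟨c (((i : ℕ) : ZMod q) + 1) y', hmemR _ _⟩ :=
          Subtype.ext (_root_.map_mul _ _ _)
        rw [h1, _root_.map_mul]
        rfl }
  have hf : ∀ y i, f y i = iso ⟨c (((i : ℕ) : ZMod q) + 1) y, hmemR _ y⟩ := fun _ _ => rfl
  have hfker : f.ker = C.subgroupOf U := by
    ext y
    rw [MonoidHom.mem_ker, Subgroup.mem_subgroupOf, cc.mem_C_iff s]
    constructor
    · intro h1
      have h2 : ∀ j : ZMod q, j ≠ 0 → c j y = 1 := by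
        intro j hj
        have hj0 : j.val ≠ 0 := fun h0 => hj ((ZMod.val_eq_zero j).1 h0)
        have hjlt := ZMod.val_lt j
        have h3 := congrFun h1 (⟨j.val - 1, by omega⟩ : Fin (q - 1))
        rw [hf, Pi.one_apply] at h3
        have h4 := (iso.map_eq_one_iff).1 h3
        have h5 := congrArg Subtype.val h4
        simp only [OneMemClass.coe_one] at h5
        have h6 : (((j.val - 1 : ℕ) : ZMod q) + 1) = j := by
          have : ((j.val - 1 : ℕ) : ZMod q) + 1 = ((j.val - 1 + 1 : ℕ) : ZMod q) := by push_cast; rfl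
          rw [this, Nat.sub_add_cancel (by omega), ZMod.natCast_zmod_val]
        rwa [h6] at h5
      intro j
      by_cases hj : j = 0
      · subst hj
        have h3 := cc.prod_eq_one s y
        rwa [Finset.prod_eq_single 0 (fun j _ hj => h2 j hj)
          (fun h0 => absurd (Finset.mem_univ _) h0)] at h3
      · exact h2 j hj
    · intro h1
      funext i
      rw [hf, Pi.one_apply, iso.map_eq_one_iff]
      exact Subtype.ext (h1 _)
  have hHnorm : ∀ (k : ℕ) (h : ↥H), (w ^ k)⁻¹ * (h : L) * w ^ k ∈ H := fun k h => by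
    have := hHn.conj_mem h h.2 (w ^ k)⁻¹
    rwa [inv_inv] at this
  have hact_pow : ∀ (k : ℕ) (h h' : ↥H), (h' : L) = w ^ k * h * (w ^ k)⁻¹ → ∀ i, x h' (i + k) = x h i := by
    intro k
    induction k with
    | zero =>
      intro h h' hh i
      have h1 : h' = h := Subtype.ext (by rw [hh]; simp)
      rw [h1]; simp
    | succ k ih =>
      intro h h' hh i
      let h'' : ↥H := ⟨w ^ k * h * (w ^ k)⁻¹, hHn.conj_mem h h.2 _⟩
      have h1 := ih h h'' rfl i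
      have h2 := cc.act_w h'' h' (by
        change (h' : L) = w * (w ^ k * h * (w ^ k)⁻¹) * w⁻¹
        rw [hh, pow_succ']; group) (i + k)
      have h3 : i + ((k + 1 : ℕ) : ZMod q) = i + k + 1 := by push_cast; ring
      rw [h3, h2, h1]
  refine ⟨H₁, U₁, a, ?_, hH₁, hU₁⟩
  refine
    { setup := s
      H₀_le := hH₀H₁
      H₁_le := hH₁le
      H₁_index := ?_
      H₁_norm := ?_
      sup_conj := ?_
      mem_U₁ := hmemU₁
      a_eq := ha_eq
      a_gt := ha_gt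
      a_odd := ha_odd
      a_dvd := ha_dvd
      C_le := hC_le
      U_conj_U₁ := ?_
      inf_conj := ?_
      cyclic := ?_
      embed := ⟨f, hfker⟩
      u_dvd := ?_ }
  · -- index
    let g : ↥H₁ →* Multiplicative (ZMod p) :=
      { toFun := fun h => Multiplicative.ofAdd (x ⟨h, hH₁le h.2⟩ 0)
        map_one' := by
          have h1 : (⟨((1 : ↥H₁) : L), hH₁le (1 : ↥H₁).2⟩ : ↥H) = 1 := rfl
          rw [h1, cc.map_one]; rfl
        map_mul' := fun h h' => by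
          have h1 : (⟨((h * h' : ↥H₁) : L), hH₁le (h * h').2⟩ : ↥H) =
            ⟨h, hH₁le h.2⟩ * ⟨h', hH₁le h'.2⟩ := rfl
          rw [h1, cc.map_mul]; rfl }
    have hg : ∀ h : ↥H₁, g h = Multiplicative.ofAdd (x ⟨h, hH₁le h.2⟩ 0) := fun _ => rfl
    have hgker : g.ker = H₀.subgroupOf H₁ := by
      ext h
      rw [MonoidHom.mem_ker, Subgroup.mem_subgroupOf, hg]
      have h1 := cc.ker ⟨h, hH₁le h.2⟩
      have h2 := (hH₁ ⟨h, hH₁le h.2⟩).1 h.2
      constructor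
      · intro h3
        refine h1.1 ?_
        funext i
        by_cases hi : i = 0
        · rw [hi]; exact Multiplicative.ofAdd.injective h3
        · exact h2 i hi
      · intro h3
        rw [h1.2 h3]; rfl
    have hgsurj : Function.Surjective g := by
      intro t
      obtain ⟨h, hh⟩ := cc.surj (Pi.single 0 (Multiplicative.toAdd t))
      have hhH₁ : (h : L) ∈ H₁ := (hH₁ h).2 (fun i hi => by rw [hh]; exact Pi.single_eq_of_ne hi _)
      refine ⟨⟨h, hhH₁⟩, ?_⟩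
      rw [hg]
      change Multiplicative.ofAdd (x h 0) = t
      rw [hh, Pi.single_eq_same]
      rfl
    rw [Subgroup.relIndex, ← hgker, Subgroup.index_ker, MonoidHom.range_eq_top.2 hgsurj,
      Subgroup.card_top]
    exact Nat.card_zmod p
  · -- norm
    intro y hy h hh
    let h' : ↥H := ⟨y * h * y⁻¹, hHn.conj_mem h (hH₁le hh) y⟩
    have h2 := (hH₁ ⟨h, hH₁le hh⟩).1 hh
    refine (hH₁ h').2 (fun i hi => ?_)
    rw [cc.act_U ⟨y, hy⟩ ⟨h, hH₁le hh⟩ h' rfl i, h2 i hi, mul_zero]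
  · -- sup
    apply le_antisymm
    · refine iSup₂_le (fun w' _ => ?_)
      rintro _ ⟨h, hh, rfl⟩
      exact hHn.conj_mem h (hH₁le hh) w'
    · set S := (⨆ w ∈ W₁, H₁.map (MulAut.conj w).toMonoidHom) with hS
      have hle : ∀ w' ∈ W₁, H₁.map (MulAut.conj w').toMonoidHom ≤ S := fun w' hw' =>
        le_iSup₂ (f := fun w (_ : w ∈ W₁) => H₁.map (MulAut.conj w).toMonoidHom) w' hw'
      have hH₁S : H₁ ≤ S := by
        intro h hh
        refine hle 1 W₁.one_mem ⟨h, hh, ?_⟩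
        simp
      have hsingle : ∀ (i : ZMod q) (h : ↥H), (∀ j, j ≠ i → x h j = 0) → (h : L) ∈ S := by
        intro i h hh
        let h' : ↥H := ⟨(w ^ i.val)⁻¹ * h * w ^ i.val, hHnorm _ h⟩
        have hh' : (h' : L) ∈ H₁ := by
          refine (hH₁ h').2 (fun j hj => ?_)
          have h1 := hact_pow i.val h' h (by
            change (h : L) = w ^ i.val * ((w ^ i.val)⁻¹ * h * w ^ i.val) * (w ^ i.val)⁻¹
            group) j
          rw [← h1]
          apply hh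
          rw [ZMod.natCast_zmod_val]
          intro h2
          exact hj (left_eq_add.1 (by rw [add_comm]; exact h2.symm))
        refine hle (w ^ i.val) (W₁.pow_mem hwW _) ⟨h', hh', ?_⟩
        change w ^ i.val * ((w ^ i.val)⁻¹ * h * w ^ i.val) * (w ^ i.val)⁻¹ = h
        group
      have hall : ∀ (t : Finset (ZMod q)) (h : ↥H), (∀ i, i ∉ t → x h i = 0) → (h : L) ∈ S := by
        intro t
        induction t using Finset.induction_on with
        | empty =>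
          intro h hh
          have h1 : x h = 0 := funext (fun i => hh i (Finset.notMem_empty i))
          exact hH₁S (hH₀H₁ ((cc.ker h).1 h1))
        | insert i t hi ih =>
          intro h hh
          obtain ⟨k, hk⟩ := cc.surj (Pi.single i (x h i))
          have h1 : (k : L) ∈ S := hsingle i k (fun j hj => by rw [hk]; exact Pi.single_eq_of_ne hj _)
          have h2 : ((h * k⁻¹ : ↥H) : L) ∈ S := by
            refine ih _ (fun j hj => ?_)
            rw [cc.map_mul, cc.map_inv, Pi.add_apply, Pi.neg_apply, hk]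
            by_cases hji : j = i
            · rw [hji, Pi.single_eq_same, add_neg_cancel]
            · rw [Pi.single_eq_of_ne hji, neg_zero, add_zero]
              exact hh j (by rw [Finset.mem_insert, not_or]; exact ⟨hji, hj⟩)
          have h3 : (h : L) = ((h * k⁻¹ : ↥H) : L) * k := by
            rw [Subgroup.coe_mul, Subgroup.coe_inv]; group
          rw [h3]
          exact S.mul_mem h2 h1
      intro h hh
      exact hall Finset.univ ⟨h, hh⟩ (fun i hi => absurd (Finset.mem_univ i) hi)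
  · -- `U₁` normal in `U`
    intro y hy z hz
    have h1 := (hU₁ ⟨z, hU₁le hz⟩).1 hz
    have h2 : (y * z * y⁻¹ : L) = ((⟨y, hy⟩ * ⟨z, hU₁le hz⟩ * (⟨y, hy⟩ : ↥U)⁻¹ : ↥U) : L) := rfl
    rw [h2]
    refine (hU₁ _).2 ?_
    rw [_root_.map_mul, _root_.map_mul, h1, mul_one, ← _root_.map_mul, mul_inv_cancel, _root_.map_one]
  · -- intersection of conjugates
    intro y hy h1
    refine (cc.mem_C_iff s ⟨y, hy⟩).2 (fun i => ?_)
    have h2 := h1 (w ^ (-i).val) (W₁.pow_mem hwW _)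
    have h3 := (hU₁ ⟨w ^ (-i).val * y * (w ^ (-i).val)⁻¹, hU₁le h2⟩).1 h2
    have h4 := cc.c_pow hW (-i).val ⟨y, hy⟩ ⟨w ^ (-i).val * y * (w ^ (-i).val)⁻¹, hU₁le h2⟩ rfl i
    rw [ZMod.natCast_zmod_val, add_neg_cancel, h3] at h4
    exact h4.symm
  · -- cyclic
    refine ⟨g₀, g₀.2, fun y hy => ?_⟩
    obtain ⟨m, hm⟩ := hg₀ ⟨y, hy⟩
    refine ⟨m, ?_⟩
    have h2 : (((g₀ : L) ^ m)⁻¹ * y : L) = (((g₀ ^ m)⁻¹ * ⟨y, hy⟩ : ↥U) : L) := rfl
    rw [h2]
    refine (hU₁ _).2 ?_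
    rw [_root_.map_mul, _root_.map_inv, map_pow, hm, inv_mul_cancel]
  · -- order
    rw [← s.u_eq, Subgroup.relIndex, ← hfker, Subgroup.index_ker]
    have h1 : Nat.card f.range ∣ Nat.card (Fin (q - 1) → Multiplicative (ZMod a)) :=
      Subgroup.card_subgroup_dvd_card _
    have h2 : Nat.card (Fin (q - 1) → Multiplicative (ZMod a)) = a ^ (q - 1) := by
      rw [Nat.card_fun, Nat.card_fin]
      congr 1
      exact Nat.card_zmod a
    rwa [h2] at h1

/-- Peterfalvi (9.7)(a) in coordinates -/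
theorem nonGalois_coord (s : Setup K H U W₁ W₂ H₀ C p q n) (h : ¬ Galois H U H₀) :
    ∃ (w : L) (x : ↥H → ZMod q → ZMod p) (c : ZMod q → ↥U →* (ZMod p)ˣ) (H₁ U₁ : Subgroup L) (a : ℕ),
      Coords H U W₁ H₀ C p q w x c ∧ NonGalois K H U W₁ W₂ H₀ C H₁ U₁ p q n a ∧
      (∀ h : ↥H, (h : L) ∈ H₁ ↔ ∀ i, i ≠ 0 → x h i = 0) ∧ (∀ y : ↥U, (y : L) ∈ U₁ ↔ c 0 y = 1) := by
  have : Finite L := Nat.finite_of_card_ne_zero (fun h0 => by
    have := s.hyp.odd
    rw [h0] at this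
    exact (Nat.not_odd_iff_even.2 Even.zero) this)
  obtain ⟨w, x, c, cc⟩ := exists_coords s h
  obtain ⟨H₁, U₁, a, h1, h2, h3⟩ := nonGalois_of_coords cc s
  exact ⟨w, x, c, H₁, U₁, a, cc, h1, h2, h3⟩

/-- Peterfalvi (9.7)(a) -/
theorem nonGalois (s : Setup K H U W₁ W₂ H₀ C p q n) (h : ¬ Galois H U H₀) :
    ∃ (H₁ U₁ : Subgroup L) (a : ℕ), NonGalois K H U W₁ W₂ H₀ C H₁ U₁ p q n a := by
  obtain ⟨_, _, _, H₁, U₁, a, _, h1, _, _⟩ := nonGalois_coord s h
  exact ⟨H₁, U₁, a, h1⟩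

end Cfsg.Agent.OddOrderCharacters.PF9.NonGalois
end

-- part: OddOrderCharacters/PF9/EightDual
section
/-!
# Linear characters of a section and of the components `H₁ ^ w / H₀` (for Peterfalvi (9.8))
-/

set_option autoImplicit false
open Cfsg
open Cfsg.Agent.OddOrderCharacters.PF9.Defs

namespace Cfsg.Agent.OddOrderCharacters.PF9.EightDual

universe u

variable {L : Type u} [Group L]

/-- The linear characters of `B` trivial on `A ⊓ B`. -/
def dualSet (A B : Subgroup L) : Set (↥B →* ℂˣ) := {χ | ∀ b : ↥B, (b : L) ∈ A → χ b = 1}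

theorem mem_dualSet {A B : Subgroup L} {χ : ↥B →* ℂˣ} :
    χ ∈ dualSet A B ↔ ∀ b : ↥B, (b : L) ∈ A → χ b = 1 := Iff.rfl

theorem one_mem_dualSet (A B : Subgroup L) : (1 : ↥B →* ℂˣ) ∈ dualSet A B := fun _ _ => rfl

/-- The number of linear characters of an abelian section. -/
theorem card_dualSet [Finite L] {A B : Subgroup L} (hn : (A.subgroupOf B).Normal)
    (hc : ∀ x ∈ B, ∀ y ∈ B, x * y * x⁻¹ * y⁻¹ ∈ A) : (dualSet A B).ncard = A.relIndex B := by
  classical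
  letI : CommGroup (↥B ⧸ A.subgroupOf B) :=
    { (inferInstance : Group (↥B ⧸ A.subgroupOf B)) with
      mul_comm := by
        intro a b
        induction a using QuotientGroup.induction_on with
        | H a =>
          induction b using QuotientGroup.induction_on with
          | H b =>
            change QuotientGroup.mk (a * b) = QuotientGroup.mk (b * a)
            rw [QuotientGroup.eq]
            change (((a * b)⁻¹ * (b * a) : ↥B) : L) ∈ A
            have := hc _ (inv_mem b.2) _ (inv_mem a.2)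
            simpa [mul_assoc] using this }
  let e : dualSet A B ≃ ((↥B ⧸ A.subgroupOf B) →* ℂˣ) :=
    { toFun := fun χ => QuotientGroup.lift (A.subgroupOf B) χ.1 (fun x hx =>
        χ.2 x (Subgroup.mem_subgroupOf.mp hx))
      invFun := fun ψ => ⟨ψ.comp (QuotientGroup.mk' (A.subgroupOf B)), by
        intro b hb
        have : (QuotientGroup.mk' (A.subgroupOf B)) b = 1 := by
          rw [QuotientGroup.mk'_apply, QuotientGroup.eq_one_iff]
          exact Subgroup.mem_subgroupOf.mpr hb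
        rw [MonoidHom.comp_apply, this, map_one]⟩
      left_inv := by
        intro χ
        apply Subtype.ext
        ext b
        rfl
      right_inv := by
        intro ψ
        ext b
        rfl }
  have h1 : Nat.card (dualSet A B) = Nat.card ((↥B ⧸ A.subgroupOf B) →* ℂˣ) := Nat.card_congr e
  have : NeZero (Monoid.exponent (↥B ⧸ A.subgroupOf B)) := ⟨Monoid.exponent_ne_zero_of_finite⟩
  rw [← Nat.card_coe_set_eq, h1,
    CommGroup.card_monoidHom_of_hasEnoughRootsOfUnity (↥B ⧸ A.subgroupOf B) ℂ]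
  rfl

instance finite_hom [Finite L] (B : Subgroup L) : Finite (↥B →* ℂˣ) := by
  have h : ∀ (f : ↥B →* ℂˣ) (b : ↥B), f b ∈ rootsOfUnity (Nat.card ↥B) ℂ := by
    intro f b
    rw [mem_rootsOfUnity, ← map_pow, pow_card_eq_one', map_one]
  have : NeZero (Nat.card ↥B) := ⟨Nat.card_pos.ne'⟩
  let F : (↥B →* ℂˣ) → (↥B → rootsOfUnity (Nat.card ↥B) ℂ) := fun f b => ⟨f b, h f b⟩
  refine Finite.of_injective F ?_
  intro f g hfg
  ext b
  have := congrArg (fun φ => ((φ b : rootsOfUnity (Nat.card ↥B) ℂ) : ℂˣ)) hfg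
  exact congrArg (fun x : ℂˣ => (x : ℂ)) this

/-- Conjugation on a subgroup normalised by `x`. -/
def cjSub (B : Subgroup L) (x : L) (hx : ∀ b ∈ B, x * b * x⁻¹ ∈ B) : ↥B →* ↥B where
  toFun b := ⟨x * b * x⁻¹, hx b b.2⟩
  map_one' := by apply Subtype.ext; simp
  map_mul' a b := by apply Subtype.ext; simp

theorem cjSub_coe (B : Subgroup L) (x : L) (hx : ∀ b ∈ B, x * b * x⁻¹ ∈ B) (b : ↥B) :
    ((cjSub B x hx b : ↥B) : L) = x * b * x⁻¹ := rfl

/-- The component of a linear character of the normal subgroup `H` at `w`: `h ↦ lam (w h w⁻¹)` on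
`H₁`. -/
def cmp {H H₁ : Subgroup L} (hH : H.Normal) (hle : H₁ ≤ H) (lam : ↥H →* ℂˣ) (w : L) :
    ↥H₁ →* ℂˣ where
  toFun h := lam ⟨w * h * w⁻¹, hH.conj_mem _ (hle h.2) w⟩
  map_one' := by
    rw [← map_one lam]; congr 1; apply Subtype.ext; simp
  map_mul' a b := by
    rw [← map_mul lam]; congr 1; apply Subtype.ext; simp

theorem cmp_apply {H H₁ : Subgroup L} (hH : H.Normal) (hle : H₁ ≤ H) (lam : ↥H →* ℂˣ) (w : L)
    (h : ↥H₁) : cmp hH hle lam w h = lam ⟨w * h * w⁻¹, hH.conj_mem _ (hle h.2) w⟩ := rfl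

section NonGalois

variable {K H U W₁ W₂ H₀ C H₁ U₁ : Subgroup L} {p q n a : ℕ}

/-- Elements of `H₁` outside `H₀` generate `H₁` modulo `H₀`. -/
theorem exists_pow_mem [Finite L] (g : NonGalois K H U W₁ W₂ H₀ C H₁ U₁ p q n a) {h₀ : L}
    (h₀m : h₀ ∈ H₁) (hn : h₀ ∉ H₀) {h : L} (hh : h ∈ H₁) : ∃ k : ℕ, (h₀ ^ k)⁻¹ * h ∈ H₀ := by
  have hH₀ := g.setup.kernel.normal
  have hp := Fact.mk g.setup.p_prime
  have hcard : Nat.card (↥H₁ ⧸ H₀.subgroupOf H₁) = p := g.H₁_index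
  have hne : (QuotientGroup.mk (⟨h₀, h₀m⟩ : ↥H₁) : ↥H₁ ⧸ H₀.subgroupOf H₁) ≠ 1 := by
    intro h1
    rw [QuotientGroup.eq_one_iff] at h1
    exact hn (Subgroup.mem_subgroupOf.mp h1)
  obtain ⟨k, hk⟩ := mem_powers_of_prime_card (g := (QuotientGroup.mk (⟨h₀, h₀m⟩ : ↥H₁) :
    ↥H₁ ⧸ H₀.subgroupOf H₁)) (g' := QuotientGroup.mk (⟨h, hh⟩ : ↥H₁)) hcard hne
  refine ⟨k, ?_⟩
  have h2 : (QuotientGroup.mk ((⟨h₀, h₀m⟩ : ↥H₁) ^ k) : ↥H₁ ⧸ H₀.subgroupOf H₁) =
      QuotientGroup.mk (⟨h, hh⟩ : ↥H₁) := hk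
  rw [QuotientGroup.eq] at h2
  exact Subgroup.mem_subgroupOf.mp h2

/-- An element of `U` fixing a nontrivial linear character of `H₁ / H₀` lies in `U₁`. -/
theorem mem_U₁_of_fix [Finite L] (g : NonGalois K H U W₁ W₂ H₀ C H₁ U₁ p q n a)
    {χ : ↥H₁ →* ℂˣ} (hχ : χ ∈ dualSet H₀ H₁) (hχ1 : χ ≠ 1) {y : L} (hy : y ∈ U)
    (hfix : ∀ (h h' : ↥H₁), (h' : L) = y * h * y⁻¹ → χ h' = χ h) : y ∈ U₁ := by
  have hH₀ := g.setup.kernel.normal
  obtain ⟨h₀, hh₀⟩ : ∃ h₀ : ↥H₁, χ h₀ ≠ 1 := by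
    by_contra hcon
    push Not at hcon
    exact hχ1 (MonoidHom.ext hcon)
  have hn : (h₀ : L) ∉ H₀ := fun h => hh₀ (hχ h₀ h)
  have hpow : (h₀ : L) ^ p ∈ H₀ := g.setup.H_pow _ (g.H₁_le h₀.2)
  -- the image of `h₀`
  obtain ⟨k, hk⟩ := exists_pow_mem g h₀.2 hn (g.H₁_norm y hy h₀ h₀.2)
  have hχk : χ h₀ ^ k = χ h₀ := by
    have h1 : χ ((h₀ ^ k)⁻¹ * ⟨y * h₀ * y⁻¹, g.H₁_norm y hy h₀ h₀.2⟩) = 1 := hχ _ hk
    rw [map_mul, map_inv, map_pow, hfix h₀ ⟨y * h₀ * y⁻¹, g.H₁_norm y hy h₀ h₀.2⟩ rfl,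
      inv_mul_eq_one] at h1
    exact h1
  have hχp : χ h₀ ^ p = 1 := by
    rw [← map_pow]; exact hχ _ hpow
  have hord : orderOf (χ h₀) = p := by
    have := Fact.mk g.setup.p_prime
    exact orderOf_eq_prime hχp hh₀
  have hmod : k ≡ 1 [MOD p] := by
    rw [← hord, ← pow_eq_pow_iff_modEq, pow_one]; exact hχk
  -- hence `y h₀ y⁻¹ h₀⁻¹ ∈ H₀`
  have hpowmem : ∀ i j : ℕ, i ≡ j [MOD p] → ((h₀ : L) ^ i)⁻¹ * (h₀ : L) ^ j ∈ H₀ := by
    have hz : ∀ m : ℤ, (p : ℤ) ∣ m → (h₀ : L) ^ m ∈ H₀ := by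
      rintro m ⟨t, rfl⟩
      rw [zpow_mul, zpow_natCast]
      exact Subgroup.zpow_mem _ hpow t
    intro i j hij
    have h2 : ((h₀ : L) ^ i)⁻¹ * (h₀ : L) ^ j = (h₀ : L) ^ ((j : ℤ) - i) := by
      rw [sub_eq_neg_add, zpow_add, zpow_neg, zpow_natCast, zpow_natCast]
    rw [h2]
    exact hz _ ((Nat.modEq_iff_dvd).mp hij)
  have hy0 : y * h₀ * y⁻¹ * (h₀ : L)⁻¹ ∈ H₀ := by
    have h3 := hpowmem 1 k hmod.symm
    have h4 : (h₀ : L)⁻¹ * (y * h₀ * y⁻¹) ∈ H₀ := by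
      have := mul_mem h3 hk
      simpa [mul_assoc] using this
    have h5 := hH₀.conj_mem _ h4 (h₀ : L)
    simpa [mul_assoc] using h5
  rw [g.mem_U₁]
  refine ⟨hy, fun h hh => ?_⟩
  -- the set of all such `h` is closed under products
  let T : Subgroup L :=
    { carrier := {h | y * h * y⁻¹ * h⁻¹ ∈ H₀}
      one_mem' := by simp
      mul_mem' := by
        intro b c hb hc
        change y * (b * c) * y⁻¹ * (b * c)⁻¹ ∈ H₀
        have h6 := mul_mem (hb : y * b * y⁻¹ * b⁻¹ ∈ H₀) (hH₀.conj_mem _ hc b)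
        have e : y * b * y⁻¹ * b⁻¹ * (b * (y * c * y⁻¹ * c⁻¹) * b⁻¹) =
            y * (b * c) * y⁻¹ * (b * c)⁻¹ := by group
        rwa [e] at h6
      inv_mem' := by
        intro b hb
        change y * b⁻¹ * y⁻¹ * b⁻¹⁻¹ ∈ H₀
        have h6 := hH₀.conj_mem _ (inv_mem (hb : y * b * y⁻¹ * b⁻¹ ∈ H₀)) b⁻¹
        have e : b⁻¹ * (y * b * y⁻¹ * b⁻¹)⁻¹ * b⁻¹⁻¹ = y * b⁻¹ * y⁻¹ * b⁻¹⁻¹ := by group
        rwa [e] at h6 }
  have hH₀T : ∀ z ∈ H₀, z ∈ T := by
    intro z hz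
    change y * z * y⁻¹ * z⁻¹ ∈ H₀
    exact mul_mem (hH₀.conj_mem z hz y) (inv_mem hz)
  obtain ⟨m, hm⟩ := exists_pow_mem g h₀.2 hn hh
  have h7 : (h₀ : L) ^ m * (((h₀ : L) ^ m)⁻¹ * h) ∈ T :=
    mul_mem (Subgroup.pow_mem T hy0 m) (hH₀T _ hm)
  rw [mul_inv_cancel_left] at h7
  exact h7

theorem w_norm_H (g : NonGalois K H U W₁ W₂ H₀ C H₁ U₁ p q n a) : H.Normal :=
  g.setup.hyp.H_normal

/-- A linear character of `H / H₀` is determined by its components. -/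
theorem ext_cmp (g : NonGalois K H U W₁ W₂ H₀ C H₁ U₁ p q n a) {lam lam' : ↥H →* ℂˣ}
    (h : ∀ w ∈ W₁, cmp g.setup.hyp.H_normal g.H₁_le lam w =
      cmp g.setup.hyp.H_normal g.H₁_le lam' w) : lam = lam' := by
  have hH := g.setup.hyp.H_normal
  have hle : (⨆ w ∈ W₁, H₁.map (MulAut.conj w).toMonoidHom) ≤
      ((lam.eqLocus lam').map H.subtype : Subgroup L) := by
    refine iSup₂_le fun w hw => ?_
    rintro _ ⟨k, hk, rfl⟩
    refine ⟨⟨w * k * w⁻¹, hH.conj_mem _ (g.H₁_le hk) w⟩, ?_, rfl⟩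
    have := congrArg (fun f : ↥H₁ →* ℂˣ => f ⟨k, hk⟩) (h w hw)
    exact this
  rw [g.sup_conj] at hle
  ext x
  obtain ⟨y, hy, hyx⟩ := hle x.2
  have : y = x := Subtype.ext hyx
  rw [← this]
  exact congrArg (fun z : ℂˣ => (z : ℂ)) hy

theorem cmp_mem_dualSet (g : NonGalois K H U W₁ W₂ H₀ C H₁ U₁ p q n a) {lam : ↥H →* ℂˣ}
    (h : lam ∈ dualSet H₀ H) (w : L) :
    cmp g.setup.hyp.H_normal g.H₁_le lam w ∈ dualSet H₀ H₁ := by
  intro b hb
  exact h _ (g.setup.kernel.normal.conj_mem _ hb w)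

theorem comm_mem (g : NonGalois K H U W₁ W₂ H₀ C H₁ U₁ p q n a) :
    ∀ x ∈ H, ∀ y ∈ H, x * y * x⁻¹ * y⁻¹ ∈ H₀ := fun x hx y hy =>
  g.setup.H_comm (Subgroup.commutator_mem_commutator hx hy)

theorem card_dual_H [Finite L] (g : NonGalois K H U W₁ W₂ H₀ C H₁ U₁ p q n a) :
    (dualSet H₀ H).ncard = p ^ q := by
  have := g.setup.kernel.normal
  rw [card_dualSet inferInstance (comm_mem g), g.setup.card_bar]

theorem card_dual_H₁ [Finite L] (g : NonGalois K H U W₁ W₂ H₀ C H₁ U₁ p q n a) :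
    (dualSet H₀ H₁).ncard = p := by
  have := g.setup.kernel.normal
  rw [card_dualSet inferInstance (fun x hx y hy => comm_mem g x (g.H₁_le hx) y (g.H₁_le hy)),
    g.H₁_index]

/-- Linear characters of `H / H₀` with prescribed components exist. -/
theorem exists_of_cmp [Finite L] (g : NonGalois K H U W₁ W₂ H₀ C H₁ U₁ p q n a)
    (f : ↥W₁ → (↥H₁ →* ℂˣ)) (hf : ∀ w, f w ∈ dualSet H₀ H₁) :
    ∃ lam ∈ dualSet H₀ H, ∀ w : ↥W₁, cmp g.setup.hyp.H_normal g.H₁_le lam w = f w := by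
  classical
  let Φ : dualSet H₀ H → (↥W₁ → dualSet H₀ H₁) := fun lam w =>
    ⟨cmp g.setup.hyp.H_normal g.H₁_le lam.1 w, cmp_mem_dualSet g lam.2 w⟩
  have hinj : Function.Injective Φ := by
    intro lam lam' h
    apply Subtype.ext
    apply ext_cmp g
    intro w hw
    have := congrArg (fun F => ((F ⟨w, hw⟩ : dualSet H₀ H₁) : ↥H₁ →* ℂˣ)) h
    exact this
  have hbij : Function.Bijective Φ := by
    refine hinj.bijective_of_nat_card_le ?_
    rw [Nat.card_fun, Nat.card_coe_set_eq, Nat.card_coe_set_eq, card_dual_H g, card_dual_H₁ g,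
      g.setup.q_eq]
  obtain ⟨lam, hlam⟩ := hbij.2 (fun w => ⟨f w, hf w⟩)
  refine ⟨lam.1, lam.2, fun w => ?_⟩
  exact congrArg (fun F => ((F w : dualSet H₀ H₁) : ↥H₁ →* ℂˣ)) hlam

/-- The `U`-orbit of a linear character of `H₁`. -/
def orb (g : NonGalois K H U W₁ W₂ H₀ C H₁ U₁ p q n a) (χ : ↥H₁ →* ℂˣ) : Set (↥H₁ →* ℂˣ) :=
  {χ' | ∃ (x : L) (hx : x ∈ U), χ' = χ.comp (cjSub H₁ x (g.H₁_norm x hx))}

theorem orb_subset (g : NonGalois K H U W₁ W₂ H₀ C H₁ U₁ p q n a) {χ : ↥H₁ →* ℂˣ}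
    (hχ : χ ∈ dualSet H₀ H₁) : orb g χ ⊆ dualSet H₀ H₁ := by
  rintro _ ⟨x, hx, rfl⟩ b hb
  exact hχ _ (g.setup.kernel.normal.conj_mem _ hb x)

theorem self_mem_orb (g : NonGalois K H U W₁ W₂ H₀ C H₁ U₁ p q n a) (χ : ↥H₁ →* ℂˣ) :
    χ ∈ orb g χ := by
  refine ⟨1, one_mem _, ?_⟩
  ext b
  simp only [MonoidHom.comp_apply]
  congr 2
  apply Subtype.ext
  simp [cjSub_coe]

/-- The `U`-orbit of a linear character of `H₁ / H₀` has at most `a` elements. -/
theorem orb_ncard_le [Finite L] (g : NonGalois K H U W₁ W₂ H₀ C H₁ U₁ p q n a) {χ : ↥H₁ →* ℂˣ}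
    (hχ : χ ∈ dualSet H₀ H₁) : (orb g χ).ncard ≤ a := by
  classical
  have hinv : ∀ y ∈ U₁, ∀ (h h' : ↥H₁), (h' : L) = y * h * y⁻¹ → χ h' = χ h := by
    intro y hy h h' hh
    have h1 := ((g.mem_U₁ y).mp hy).2 h h.2
    have h2 : ((h' * h⁻¹ : ↥H₁) : L) ∈ H₀ := by
      rw [Subgroup.coe_mul, Subgroup.coe_inv, hh]; exact h1
    have h3 := hχ _ h2
    rw [map_mul, map_inv, mul_inv_eq_one] at h3
    exact h3
  -- the orbit is the image of the coset space `U / U₁`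
  let F : ↥U → (↥H₁ →* ℂˣ) := fun x => χ.comp (cjSub H₁ x (g.H₁_norm x x.2))
  have hF : ∀ x y : ↥U, x⁻¹ * y ∈ U₁.subgroupOf U → F x⁻¹ = F y⁻¹ := by
    intro x y hxy
    have hxy' : (x : L)⁻¹ * y ∈ U₁ := Subgroup.mem_subgroupOf.mp hxy
    ext b
    have hb : χ ⟨(x : L)⁻¹ * b * (x : L)⁻¹⁻¹, g.H₁_norm _ (inv_mem x.2) b b.2⟩ =
        χ ⟨(y : L)⁻¹ * b * (y : L)⁻¹⁻¹, g.H₁_norm _ (inv_mem y.2) b b.2⟩ := by
      apply hinv _ hxy'
      simp only
      group
    exact congrArg (fun z : ℂˣ => (z : ℂ)) hb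
  let F' : (↥U ⧸ U₁.subgroupOf U) → (↥H₁ →* ℂˣ) := fun c =>
    Quotient.liftOn' c (fun x => F x⁻¹) (fun x y hxy => hF x y (QuotientGroup.leftRel_apply.mp hxy))
  have hsub : orb g χ ⊆ Set.range F' := by
    rintro _ ⟨x, hx, rfl⟩
    refine ⟨Quotient.mk'' (⟨x, hx⟩⁻¹ : ↥U), ?_⟩
    change F (⟨x, hx⟩⁻¹ : ↥U)⁻¹ = _
    rw [inv_inv]
  calc (orb g χ).ncard ≤ (Set.range F').ncard := Set.ncard_le_ncard hsub (Set.toFinite _)
    _ = Nat.card (Set.range F') := (Nat.card_coe_set_eq _).symm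
    _ ≤ Nat.card (↥U ⧸ U₁.subgroupOf U) := Finite.card_range_le F'
    _ = a := g.a_eq

/-- There are linear characters of `H₁ / H₀` in different `U`-orbits. -/
theorem exists_notMem_orb [Finite L] (g : NonGalois K H U W₁ W₂ H₀ C H₁ U₁ p q n a) :
    ∃ χ ∈ dualSet H₀ H₁, ∃ χ' ∈ dualSet H₀ H₁, χ ≠ 1 ∧ χ' ≠ 1 ∧ χ' ∉ orb g χ := by
  classical
  have hp1 : 1 < p := g.setup.p_prime.one_lt
  have hlt : a < p - 1 := by
    obtain ⟨k, hk⟩ := g.a_dvd
    have hodd := g.a_odd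
    have hpodd := g.setup.p_odd
    have hk1 : k ≠ 1 := by
      rintro rfl
      rw [mul_one] at hk
      rw [← hk] at hodd
      obtain ⟨m, hm⟩ := hodd
      obtain ⟨m', hm'⟩ := hpodd
      omega
    have hk0 : k ≠ 0 := by
      rintro rfl
      omega
    have ha := g.a_gt
    calc a = a * 1 := (mul_one a).symm
      _ < a * k := by
          apply Nat.mul_lt_mul_of_pos_left
          · omega
          · omega
      _ = p - 1 := hk.symm
  have hcard := card_dual_H₁ g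
  obtain ⟨χ, hχ, hχ1⟩ : ∃ χ ∈ dualSet H₀ H₁, χ ≠ 1 := by
    by_contra hcon
    push Not at hcon
    have : dualSet H₀ H₁ ⊆ {1} := fun χ hχ => hcon χ hχ
    have h1 := Set.ncard_le_ncard this (Set.toFinite _)
    rw [Set.ncard_singleton, hcard] at h1
    omega
  have hne : ¬ (dualSet H₀ H₁ ⊆ insert 1 (orb g χ)) := by
    intro h1
    have h2 := Set.ncard_le_ncard h1 (Set.toFinite _)
    have h3 := Set.ncard_insert_le (1 : ↥H₁ →* ℂˣ) (orb g χ)
    have h4 := orb_ncard_le g hχ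
    rw [hcard] at h2
    omega
  obtain ⟨χ', hχ', hn⟩ := Set.not_subset.mp hne
  rw [Set.mem_insert_iff, not_or] at hn
  exact ⟨χ, hχ, χ', hχ', hχ1, hn.1, hn.2⟩

end NonGalois

end Cfsg.Agent.OddOrderCharacters.PF9.EightDual
end

-- part: OddOrderCharacters/PF9/Cliff
section
/-!
# Peterfalvi, Section 9: members of `X(H₀)` and their degrees
-/

set_option autoImplicit false

open Cfsg
open scoped ComplexConjugate
open Cfsg.Agent.OddOrderCharacters.PFDefs
open Cfsg.Agent.OddOrderCharacters.PF9.Defs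

namespace Cfsg.Agent.OddOrderCharacters.PF9.Cliff

open Cfsg.Agent.Characters.Core Cfsg.Agent.OddOrderCharacters.IndRes
  Cfsg.Agent.OddOrderCharacters.NormalInduced Cfsg.Agent.OddOrderCharacters.PF9.CliffGen

universe u

variable {L : Type u} [Group L]

/-! ### Group theory -/

theorem relIndex_sup [Finite L] {H U C : Subgroup L} (hH : H.Normal) (hHU : H ⊓ U = ⊥)
    (hC : C ≤ U) : (H ⊔ C).relIndex (H ⊔ U) = C.relIndex U := by
  have hHC : H ⊓ C = ⊥ := le_bot_iff.1 ((inf_le_inf_left H hC).trans hHU.le)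
  have h1 : H.relIndex (H ⊔ C) = Nat.card C := by
    rw [Subgroup.relIndex_sup_left, ← Subgroup.inf_relIndex_right, hHC, Subgroup.relIndex_bot_left]
  have h2 : H.relIndex (H ⊔ U) = Nat.card U := by
    rw [Subgroup.relIndex_sup_left, ← Subgroup.inf_relIndex_right, hHU, Subgroup.relIndex_bot_left]
  have h3 := Subgroup.relIndex_mul_relIndex H (H ⊔ C) (H ⊔ U) le_sup_left
    (sup_le_sup_left hC H)
  have h4 := Subgroup.relIndex_mul_relIndex ⊥ C U bot_le hC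
  rw [Subgroup.relIndex_bot_left, Subgroup.relIndex_bot_left] at h4
  rw [h1, h2, ← h4] at h3
  exact Nat.eq_of_mul_eq_mul_left Nat.card_pos h3

/-- The stabiliser condition: `I` is the stabiliser in `U` of the linear character `lam` of `H`. -/
def IsStab (U I H : Subgroup L) (lam : ↥H →* ℂˣ) : Prop :=
  ∀ x, x ∈ I ↔ x ∈ U ∧ ∀ (h h' : ↥H), (h' : L) = x * h * x⁻¹ → lam h' = lam h

theorem IsStab.le {U I H : Subgroup L} {lam : ↥H →* ℂˣ} (h : IsStab U I H lam) : I ≤ U :=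
  fun x hx => ((h x).1 hx).1

theorem exists_isStab (U H : Subgroup L) (hH : H.Normal) (lam : ↥H →* ℂˣ) :
    ∃ I : Subgroup L, IsStab U I H lam := by
  let I : Subgroup L :=
    { carrier := {x | x ∈ U ∧ ∀ (h h' : ↥H), (h' : L) = x * h * x⁻¹ → lam h' = lam h}
      one_mem' := by
        refine ⟨U.one_mem, fun h h' e => ?_⟩
        congr 1
        apply Subtype.ext
        rw [e]
        group
      mul_mem' := by
        rintro a b ⟨ha, ha'⟩ ⟨hb, hb'⟩
        refine ⟨U.mul_mem ha hb, fun h h' e => ?_⟩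
        have h1 := hb' h ⟨b * h * b⁻¹, hH.conj_mem _ h.2 _⟩ rfl
        have h2 := ha' ⟨b * h * b⁻¹, hH.conj_mem _ h.2 _⟩ h' (by
          rw [e]
          show a * b * h * (a * b)⁻¹ = a * (b * h * b⁻¹) * a⁻¹
          group)
        rw [h2, h1]
      inv_mem' := by
        rintro a ⟨ha, ha'⟩
        refine ⟨U.inv_mem ha, fun h h' e => ?_⟩
        refine (ha' h' h ?_).symm
        rw [e]
        group }
  exact ⟨I, fun x => Iff.rfl⟩

/-- Membership in `HI`, `I` the stabiliser in `U` of `lam`. -/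
theorem mem_sup_iff {H U I : Subgroup L} (hH : H.Normal) (hHU : H ⊓ U = ⊥) {lam : ↥H →* ℂˣ}
    (hI : IsStab U I H lam) {g : L} (hg : g ∈ H ⊔ U) :
    g ∈ H ⊔ I ↔ ∀ (h h' : ↥H), (h' : L) = g * h * g⁻¹ → lam h' = lam h := by
  obtain ⟨a, ha, x, hx, rfl⟩ := Subgroup.mem_sup_of_normal_left.1 hg
  have hconj : ∀ h' : ↥H, lam h' = lam ⟨a⁻¹ * h' * a, by
      simpa using hH.conj_mem _ h'.2 a⁻¹⟩ := by
    intro h'
    have e : h' = ⟨a, ha⟩ * ⟨a⁻¹ * h' * a, by simpa using hH.conj_mem _ h'.2 a⁻¹⟩ * ⟨a, ha⟩⁻¹ := by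
      apply Subtype.ext
      show (h' : L) = a * (a⁻¹ * h' * a) * a⁻¹
      group
    conv_lhs => rw [e]
    rw [map_mul, map_mul, map_inv, mul_comm, ← mul_assoc, inv_mul_cancel, one_mul]
  have hx' : a * x ∈ H ⊔ I ↔ x ∈ I := by
    constructor
    · intro h
      obtain ⟨b, hb, y, hy, e⟩ := Subgroup.mem_sup_of_normal_left.1 h
      have h1 : x * y⁻¹ = a⁻¹ * b := by
        rw [mul_inv_eq_iff_eq_mul, mul_assoc, e]
        group
      have h2 : x * y⁻¹ ∈ H ⊓ U := by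
        refine ⟨?_, U.mul_mem hx (U.inv_mem (hI.le hy))⟩
        rw [h1]
        exact H.mul_mem (H.inv_mem ha) hb
      rw [hHU, Subgroup.mem_bot, mul_inv_eq_one] at h2
      rwa [h2]
    · intro h
      exact Subgroup.mul_mem_sup ha h
  rw [hx', hI x]
  constructor
  · rintro ⟨-, h1⟩ h h' e
    rw [hconj h']
    apply h1
    show a⁻¹ * (h' : L) * a = _
    rw [e]
    group
  · intro h1
    refine ⟨hx, fun h h' e => ?_⟩
    have h2 := h1 h ⟨a * h' * a⁻¹, hH.conj_mem _ h'.2 _⟩ (by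
      show a * (h' : L) * a⁻¹ = _
      rw [e]
      group)
    rw [← h2, hconj ⟨a * h' * a⁻¹, hH.conj_mem _ h'.2 _⟩]
    congr 1
    apply Subtype.ext
    show (h' : L) = a⁻¹ * (a * h' * a⁻¹) * a
    group

section characters

variable [Fintype L] {K H U W₁ W₂ H₀ C : Subgroup L} {p q n : ℕ}

/-- the linear character `lam` of `H` as a function on `H.subgroupOf K`. -/
def lift (K H : Subgroup L) (lam : ↥H →* ℂˣ) : ↥(H.subgroupOf K) →* ℂˣ :=
  lam.comp ((K.subtype.comp (H.subgroupOf K).subtype).codRestrict H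
    fun x => Subgroup.mem_subgroupOf.mp x.2)

omit [Fintype L] in
theorem lift_apply (K H : Subgroup L) (lam : ↥H →* ℂˣ) (x : ↥(H.subgroupOf K)) :
    lift K H lam x = lam ⟨(x : ↥K), Subgroup.mem_subgroupOf.mp x.2⟩ := rfl

/-- The inertia group of `lam` in `K = HU` is `HI`, `I` the stabiliser of `lam` in `U`. -/
theorem mem_inertia_iff (hH : H.Normal) (hHU : H ⊓ U = ⊥) (hK : H ⊔ U = K) {I : Subgroup L}
    {lam : ↥H →* ℂˣ} (hI : IsStab U I H lam) (hN : (H.subgroupOf K).Normal) (g : ↥K) :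
    g ∈ (H ⊔ I).subgroupOf K ↔
      conjFn (H.subgroupOf K) (fun x => (lift K H lam x : ℂ)) g =
        fun x => (lift K H lam x : ℂ) := by
  rw [Subgroup.mem_subgroupOf, mem_sup_iff hH hHU hI (hK.symm ▸ g.2), funext_iff]
  constructor
  · intro h x
    rw [conjFn_apply]
    congr 1
    exact h ⟨(x : ↥K), Subgroup.mem_subgroupOf.mp x.2⟩ _ rfl
  · intro h x x' e
    have hxK : (x : L) ∈ K := hK ▸ (le_sup_left : H ≤ H ⊔ U) x.2
    have h1 := h ⟨⟨x, hxK⟩, Subgroup.mem_subgroupOf.mpr x.2⟩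
    rw [conjFn_apply] at h1
    have h2 := Units.ext h1
    rw [lift_apply, lift_apply] at h2
    rw [← h2]
    congr 1
    exact Subtype.ext e

/-- every `θ ∈ Irr K` with `H₀` but not `H` in the kernel lies over a nonprincipal linear character of `H / H₀`. -/
theorem exists_lin (hHK : H ≤ K) (hcomm : ⁅H, H⁆ ≤ H₀) {θ : ↥K → ℂ} (hθ : InX K H H₀ θ)
    [Fintype (H.subgroupOf K)] :
    ∃ lam : ↥H →* ℂˣ, lam ≠ 1 ∧ (∀ h : ↥H, (h : L) ∈ H₀ → lam h = 1) ∧
      classInner (res (H.subgroupOf K) θ) (fun x => (lift K H lam x : ℂ)) ≠ 0 := by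
  classical
  have : Fintype K := Fintype.ofFinite _
  obtain ⟨⟨x, hxH, hx⟩, -⟩ : (∃ x : ↥K, (x : L) ∈ H ∧ θ x ≠ θ 1) ∧ True := ⟨hθ.not_ker, trivial⟩
  obtain ⟨ψ, hψ, hψ1, h0⟩ := exists_ne_one_constituent (H.subgroupOf K)
    (isIrr_isCharacter hθ.irr) (Subgroup.mem_subgroupOf.mpr hxH) hx
  obtain ⟨f, rfl⟩ := exists_hom_of_constituent (H.subgroupOf K) (isIrr_isCharacter hθ.irr) (by
    intro y hy
    apply hθ.ker
    have h1 : y ∈ ⁅H, H⁆.subgroupOf K := by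
      refine (Subgroup.commutator_le.2 ?_) hy
      intro a ha b hb
      exact Subgroup.commutator_mem_commutator ha hb
    exact hcomm h1) hψ h0
  let e : ↥H →* ↥(H.subgroupOf K) :=
    ((Subgroup.inclusion hHK).codRestrict (H.subgroupOf K)
      fun h => Subgroup.mem_subgroupOf.mpr h.2)
  have he : lift K H (f.comp e) = f := by
    ext x
    rw [lift_apply]
    rfl
  refine ⟨f.comp e, ?_, ?_, ?_⟩
  · intro h
    apply hψ1
    funext x
    rw [← he, h, lift_apply]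
    simp
  · intro h hh
    have h1 := constituent_ker (isCharacter_res (H.subgroupOf K) (isIrr_isCharacter hθ.irr)) hψ h0
      (y := e h) (hθ.ker _ hh)
    apply Units.ext
    simpa using h1
  · rwa [he]

theorem exists_ind_stab (hH : H.Normal) (hHU : H ⊓ U = ⊥) (hK : H ⊔ U = K) {I : Subgroup L}
    {lam : ↥H →* ℂˣ} (hI : IsStab U I H lam) [Fintype (H.subgroupOf K)] [Fintype K]
    {θ : ↥K → ℂ} (hθ : IsIrrCharacter ↥K θ)
    (h0 : classInner (res (H.subgroupOf K) θ) (fun x => (lift K H lam x : ℂ)) ≠ 0) :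
    ∃ ψ : ↥((H ⊔ I).subgroupOf K) → ℂ, IsIrrCharacter _ ψ ∧
      θ = indFun ((H ⊔ I).subgroupOf K) ψ := by
  classical
  have hN : (H.subgroupOf K).Normal := hH.subgroupOf K
  have hNT : H.subgroupOf K ≤ (H ⊔ I).subgroupOf K := fun x hx =>
    Subgroup.mem_subgroupOf.mpr ((le_sup_left : H ≤ H ⊔ I) (Subgroup.mem_subgroupOf.mp hx))
  obtain ⟨ψ, hψ, -, h1⟩ := exists_ind (Characters.Linear.isIrrCharacter_hom (lift K H lam))
    (mem_inertia_iff hH hHU hK hI hN) hNT hθ h0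
  exact ⟨ψ, hψ, h1⟩

/-- every `θ ∈ X(H₀)` lies over a nonprincipal linear character `lam` of `H` trivial on `H₀`, and `|U : Stab_U(lam)|`
divides `θ 1`. -/
theorem exists_lin_dvd (s : Setup K H U W₁ W₂ H₀ C p q n) {θ : ↥K → ℂ} (hθ : InX K H H₀ θ) :
    ∃ lam : ↥H →* ℂˣ, lam ≠ 1 ∧ (∀ h : ↥H, (h : L) ∈ H₀ → lam h = 1) ∧
      ∀ I : Subgroup L, IsStab U I H lam → ∃ k : ℕ, θ 1 = (I.relIndex U : ℂ) * k := by
  classical
  have : Fintype K := Fintype.ofFinite _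
  have hH := s.hyp.H_normal
  have hHK : H ≤ K := s.hyp.K_eq ▸ le_sup_left
  obtain ⟨lam, h1, h2, h3⟩ := exists_lin hHK s.H_comm hθ
  refine ⟨lam, h1, h2, fun I hI => ?_⟩
  obtain ⟨ψ, hψ, h4⟩ := exists_ind_stab hH s.hyp.HU_inf s.hyp.K_eq hI hθ.irr h3
  obtain ⟨k, hk⟩ := isCharacter_apply_one (isIrr_isCharacter hψ)
  refine ⟨k, ?_⟩
  rw [h4, indFun_apply_one, hk]
  congr 2
  show (H ⊔ I).relIndex K = I.relIndex U
  rw [← s.hyp.K_eq, relIndex_sup hH s.hyp.HU_inf hI.le]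

omit [Fintype L] in
theorem comm_le_of (hcomm : ⁅H ⊔ C, H ⊔ C⁆ ≤ H₀ ⊔ ⁅C, C⁆) {θ : ↥K → ℂ}
    (hθ : ∀ y : ↥K, (y : L) ∈ H₀ ⊔ ⁅C, C⁆ → θ y = θ 1) :
    ∀ y ∈ ⁅(H ⊔ C).subgroupOf K, (H ⊔ C).subgroupOf K⁆, θ y = θ 1 := by
  intro y hy
  apply hθ
  have h1 : y ∈ ⁅H ⊔ C, H ⊔ C⁆.subgroupOf K := by
    refine (Subgroup.commutator_le.2 ?_) hy
    intro a ha b hb
    exact Subgroup.commutator_mem_commutator ha hb
  exact hcomm h1

/-- `θ 1 ≤ u` for `θ ∈ X(H₀C')` (as `HC / H₀C'` is abelian of index `u` in `K / H₀C'`). -/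
theorem degree_le (s : Setup K H U W₁ W₂ H₀ C p q n) {θ : ↥K → ℂ} (hθ : InX K H (H₀ ⊔ ⁅C, C⁆) θ) :
    ∃ k : ℕ, θ 1 = k ∧ k ≤ n := by
  classical
  have : Fintype K := Fintype.ofFinite _
  obtain ⟨k, hk, hk'⟩ := degree_le_index ((H ⊔ C).subgroupOf K) hθ.irr
    (comm_le_of s.HC_comm hθ.ker)
  refine ⟨k, hk, hk'.trans (le_of_eq ?_)⟩
  show (H ⊔ C).relIndex K = n
  rw [← s.hyp.K_eq, relIndex_sup s.hyp.H_normal s.hyp.HU_inf s.C_lt.le, s.u_eq]

omit [Fintype L] in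
theorem inX_mono {Y Y' : Subgroup L} (h : Y ≤ Y') {θ : ↥K → ℂ} (hθ : InX K H Y' θ) : InX K H Y θ :=
  ⟨hθ.irr, hθ.not_ker, fun y hy => hθ.ker y (h hy)⟩

/-- For `θ ∈ X(H₀C')`: if every nonprincipal linear character of `H / H₀` has stabiliser `C` in `U` then `θ` has degree
`u` and `Ind θ` is induced from a linear character of `HC`. -/
theorem degree_eq_of_free (s : Setup K H U W₁ W₂ H₀ C p q n) {θ : ↥K → ℂ}
    (hθ : InX K H (H₀ ⊔ ⁅C, C⁆) θ)
    (hfree : ∀ lam : ↥H →* ℂˣ, lam ≠ 1 → (∀ h : ↥H, (h : L) ∈ H₀ → lam h = 1) → IsStab U C H lam) :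
    θ 1 = n ∧ ∃ ξ : ↥(H ⊔ C) →* ℂˣ, indFun K θ = indFun (H ⊔ C) (fun x => (ξ x : ℂ)) := by
  classical
  have : Fintype K := Fintype.ofFinite _
  have hH := s.hyp.H_normal
  have hHK : H ≤ K := s.hyp.K_eq ▸ le_sup_left
  have hCU : H ⊔ C ≤ K := s.hyp.K_eq ▸ sup_le_sup_left s.C_lt.le H
  obtain ⟨lam, h1, h2, h3⟩ := exists_lin hHK s.H_comm (inX_mono le_sup_left hθ)
  obtain ⟨ψ, hψ, h4⟩ := exists_ind_stab hH s.hyp.HU_inf s.hyp.K_eq (hfree lam h1 h2) hθ.irr h3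
  have h5 : classInner (res ((H ⊔ C).subgroupOf K) θ) ψ ≠ 0 := by
    rw [← classInner_conj_symm, ← classInner_indFun_left _ _ (isIrr_isClassFunction hθ.irr), ← h4,
      classInner_irr_self hθ.irr]
    simp
  obtain ⟨f, rfl⟩ := exists_hom_of_constituent ((H ⊔ C).subgroupOf K) (isIrr_isCharacter hθ.irr)
    (comm_le_of s.HC_comm hθ.ker) hψ h5
  constructor
  · rw [h4, indFun_apply_one]
    simp only [map_one, Units.val_one, mul_one]
    congr 1
    show (H ⊔ C).relIndex K = n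
    rw [← s.hyp.K_eq, relIndex_sup hH s.hyp.HU_inf s.C_lt.le, s.u_eq]
  · let e : ↥(H ⊔ C) →* ↥((H ⊔ C).subgroupOf K) :=
      ((Subgroup.inclusion hCU).codRestrict ((H ⊔ C).subgroupOf K)
        fun h => Subgroup.mem_subgroupOf.mpr h.2)
    refine ⟨f.comp e, ?_⟩
    rw [h4]
    have h6 := indFun_trans (H ⊔ C) K hCU (fun x => ((f.comp e) x : ℂ))
    rw [← h6]
    congr 1

end characters

end Cfsg.Agent.OddOrderCharacters.PF9.Cliff
end

-- part: OddOrderCharacters/PF9/Cliff2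
section
/-!
# Clifford toolbox for Peterfalvi, Section 9: the members of `X(H₀)` over a linear character of `H`
-/

set_option autoImplicit false
set_option linter.style.haveILetI false
set_option linter.unusedVariables false
open Cfsg
open Cfsg.Agent.OddOrderCharacters.PFDefs
open Cfsg.Agent.OddOrderCharacters.PF9.Defs
open scoped ComplexConjugate

namespace Cfsg.Agent.OddOrderCharacters.PF9.Cliff2

open Cfsg.Agent.Characters.Core
open Cfsg.Agent.OddOrderCharacters.IndRes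

universe u v

section gluing

variable {L : Type u} [Group L]

/-- Gluing a linear character `lam` of a normal subgroup `H` and a linear character `nu` of a subgroup `I`
with `H ⊓ I = ⊥` which stabilises `lam`. -/
theorem exists_glue (H I : Subgroup L) (hH : H.Normal) (hHI : H ⊓ I = ⊥) (lam : ↥H →* ℂˣ)
    (hst : ∀ x ∈ I, ∀ (h h' : ↥H), (h' : L) = x * h * x⁻¹ → lam h' = lam h) (nu : ↥I →* ℂˣ) :
    ∃ ξ : ↥(H ⊔ I) →* ℂˣ, (∀ (x : ↥(H ⊔ I)) (h : ↥H), (h : L) = x → ξ x = lam h) ∧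
      (∀ (x : ↥(H ⊔ I)) (i : ↥I), (i : L) = x → ξ x = nu i) := by
  have hHle : H ≤ H ⊔ I := le_sup_left
  have hIle : I ≤ H ⊔ I := le_sup_right
  haveI : (H.subgroupOf (H ⊔ I)).Normal := hH.subgroupOf _
  obtain ⟨F, hF1, hF2⟩ := SplitExtension.exists_hom_of_complement (G := ↥(H ⊔ I)) (U := ℂˣ)
    (H.subgroupOf (H ⊔ I)) (I.subgroupOf (H ⊔ I))
    (by
      rw [eq_bot_iff]
      rintro x ⟨hx1, hx2⟩
      rw [Subgroup.mem_bot]
      apply Subtype.ext
      have : (x : L) ∈ H ⊓ I := ⟨hx1, hx2⟩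
      rw [hHI, Subgroup.mem_bot] at this
      exact this)
    (by
      rw [eq_top_iff]
      rintro x -
      obtain ⟨h, hh, i, hi, hx⟩ := Subgroup.mem_sup_of_normal_left.1 x.2
      have : x = (⟨h, hHle hh⟩ : ↥(H ⊔ I)) * ⟨i, hIle hi⟩ := Subtype.ext hx.symm
      rw [this]
      exact Subgroup.mul_mem_sup hh hi)
    (lam.comp (Subgroup.subgroupOfEquivOfLe hHle).toMonoidHom)
    (nu.comp (Subgroup.subgroupOfEquivOfLe hIle).toMonoidHom)
    (by
      intro w n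
      have h1 := hst (w : ↥(H ⊔ I)) w.2 (Subgroup.subgroupOfEquivOfLe hHle n)
        (Subgroup.subgroupOfEquivOfLe hHle ⟨w * n * (w : ↥(H ⊔ I))⁻¹,
          (inferInstance : (H.subgroupOf (H ⊔ I)).Normal).conj_mem _ n.2 w⟩) rfl
      simp only [MonoidHom.coe_comp, Function.comp_apply, MulEquiv.coe_toMonoidHom]
      rw [h1, mul_comm, ← mul_assoc, inv_mul_cancel, one_mul])
  refine ⟨F, ?_, ?_⟩
  · intro x h hx
    have h1 : x = ((⟨⟨h, hHle h.2⟩, h.2⟩ : ↥(H.subgroupOf (H ⊔ I))) : ↥(H ⊔ I)) :=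
      Subtype.ext hx.symm
    rw [h1, hF1]
    rfl
  · intro x i hx
    have h1 : x = ((⟨⟨i, hIle i.2⟩, i.2⟩ : ↥(I.subgroupOf (H ⊔ I))) : ↥(H ⊔ I)) :=
      Subtype.ext hx.symm
    rw [h1, hF2]
    rfl

end gluing

section ext

variable {L : Type u} [Group L]

theorem extendByZero_subgroupOf (K T : Subgroup L) (f : ↥T → ℂ) (x : ↥K) :
    extendByZero (T.subgroupOf K) (fun y => f ⟨((y : ↥K) : L), Subgroup.mem_subgroupOf.mp y.2⟩) x =
      extendByZero T f (x : L) := by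
  by_cases hx : (x : L) ∈ T
  · rw [extendByZero_of_mem T f hx, extendByZero_of_mem (T.subgroupOf K) _ hx]
  · rw [extendByZero_of_notMem T f hx, extendByZero_of_notMem (T.subgroupOf K) _ hx]

end ext

variable {L : Type u} [Group L] [Fintype L] {K H U W₁ W₂ H₀ C : Subgroup L} {p q n : ℕ}

/-- A nonprincipal linear character `lam` of `H / H₀`, with stabiliser `I` in `U`, and a linear character `nu` of `I`
give the linear character `ξ = lam · nu` of `HI` and the member `θ = Ind_{HI}^K ξ` of `X(H₀)` of degree `|U : I|`. -/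
theorem exists_InX_of_lin' (s : Setup K H U W₁ W₂ H₀ C p q n) (lam : ↥H →* ℂˣ) (hlam : lam ≠ 1)
    (hlam0 : ∀ h : ↥H, (h : L) ∈ H₀ → lam h = 1) (I : Subgroup L)
    (hI : ∀ x, x ∈ I ↔ x ∈ U ∧ ∀ (h h' : ↥H), (h' : L) = x * h * x⁻¹ → lam h' = lam h)
    (nu : ↥I →* ℂˣ) :
    ∃ ξ : ↥(H ⊔ I) →* ℂˣ, (∀ (x : ↥(H ⊔ I)) (h : ↥H), (h : L) = x → ξ x = lam h) ∧
      (∀ (x : ↥(H ⊔ I)) (i : ↥I), (i : L) = x → ξ x = nu i) ∧
      ∃ θ : ↥K → ℂ, InX K H H₀ θ ∧ θ 1 = I.relIndex U ∧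
        (∀ Y : Subgroup L, Y.Normal → Y ≤ H ⊔ I → (∀ x : ↥(H ⊔ I), (x : L) ∈ Y → ξ x = 1) →
          ∀ y : ↥K, (y : L) ∈ Y → θ y = θ 1) ∧
        indFun K θ = indFun (H ⊔ I) (fun x => (ξ x : ℂ)) ∧
        (∀ (x : ↥K), θ x = (Nat.card ↥(H ⊔ I) : ℂ)⁻¹ *
          ∑ᶠ y : ↥K, extendByZero (H ⊔ I) (fun x => (ξ x : ℂ)) ((y : L)⁻¹ * x * y)) := by
  classical
  have hN := s.hyp.H_normal
  have hIU : I ≤ U := fun x hx => ((hI x).mp hx).1
  have hHK : H ≤ K := s.hyp.K_eq ▸ le_sup_left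
  have hUK : U ≤ K := s.hyp.K_eq ▸ le_sup_right
  have hHI : H ⊓ I = ⊥ := by
    rw [eq_bot_iff, ← s.hyp.HU_inf]
    exact inf_le_inf_left _ hIU
  have hTK : H ⊔ I ≤ K := sup_le hHK (hIU.trans hUK)
  obtain ⟨ξ, hξ1, hξ2⟩ := exists_glue H I hN hHI lam (fun x hx => ((hI x).mp hx).2) nu
  refine ⟨ξ, hξ1, hξ2, ?_⟩
  letI : Fintype ↥K := Fintype.ofFinite _
  set f : ↥(H ⊔ I) → ℂ := fun x => (ξ x : ℂ) with hf
  set θ : ↥K → ℂ := indFun ((H ⊔ I).subgroupOf K)
    (fun y => f ⟨((y : ↥K) : L), Subgroup.mem_subgroupOf.mp y.2⟩) with hθ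
  have hcard : Nat.card ↥((H ⊔ I).subgroupOf K) = Nat.card ↥(H ⊔ I) :=
    Nat.card_congr (Subgroup.subgroupOfEquivOfLe hTK).toEquiv
  have hform : ∀ x : ↥K, θ x = (Nat.card ↥(H ⊔ I) : ℂ)⁻¹ *
      ∑ y : ↥K, extendByZero (H ⊔ I) f ((y : L)⁻¹ * x * y) := by
    intro x
    rw [hθ, Characters.Core.indFun_apply, hcard]
    congr 1
    refine Finset.sum_congr rfl fun y _ => ?_
    rw [extendByZero_subgroupOf K (H ⊔ I)]
    rfl
  have hcard0 : (Nat.card ↥(H ⊔ I) : ℂ) ≠ 0 := by exact_mod_cast Nat.card_pos.ne'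
  have hker : ∀ Y : Subgroup L, Y.Normal → Y ≤ H ⊔ I → (∀ x : ↥(H ⊔ I), (x : L) ∈ Y → ξ x = 1) →
      ∀ y : ↥K, (y : L) ∈ Y → θ y = θ 1 := by
    intro Y hY hYle hY1 y hy
    rw [hform, hform]
    congr 1
    refine Finset.sum_congr rfl fun z _ => ?_
    have h1 : (z : L)⁻¹ * y * z ∈ Y := by
      have := hY.conj_mem y hy (z : L)⁻¹
      rwa [inv_inv] at this
    have h2 : (z : L)⁻¹ * ((1 : ↥K) : L) * z ∈ Y := by
      have : (z : L)⁻¹ * ((1 : ↥K) : L) * z = 1 := by simp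
      rw [this]; exact Y.one_mem
    rw [extendByZero_of_mem _ f (hYle h1), extendByZero_of_mem _ f (hYle h2), hf]
    simp only
    rw [hY1 _ h1, hY1 _ h2]
  have hnormHK : (H.subgroupOf K).Normal := hN.subgroupOf _
  refine ⟨θ, ⟨?_, ?_, ?_⟩, ?_, hker, ?_, ?_⟩
  · -- irreducibility, by Clifford
    have hT : ∀ g : ↥K, g ∈ (H ⊔ I).subgroupOf K ↔ ∀ h : ↥(H.subgroupOf K),
        (fun z : ↥(H.subgroupOf K) => (lam ⟨((z : ↥K) : L), z.2⟩ : ℂ))
          ⟨g * h * g⁻¹, hnormHK.conj_mem h h.2 g⟩ =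
        (fun z : ↥(H.subgroupOf K) => (lam ⟨((z : ↥K) : L), z.2⟩ : ℂ)) h := by
      intro g
      have hg : (g : L) ∈ H ⊔ U := by rw [s.hyp.K_eq]; exact g.2
      obtain ⟨a, ha, x, hx, hax⟩ := Subgroup.mem_sup_of_normal_left.1 hg
      have hconj : ∀ (h h' : ↥H), (h' : L) = g * h * (g : L)⁻¹ → ∀ h'' : ↥H,
          (h'' : L) = x * h * x⁻¹ → lam h' = lam h'' := by
        intro h h' hh' h'' hh''
        have : h' = ⟨a, ha⟩ * h'' * ⟨a, ha⟩⁻¹ := by
          apply Subtype.ext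
          rw [hh', ← hax]
          simp only [Subgroup.coe_mul, Subgroup.coe_inv, hh'']
          group
        rw [this, map_mul, map_mul, map_inv, mul_comm, ← mul_assoc, inv_mul_cancel, one_mul]
      constructor
      · intro hgT h
        have hxI : x ∈ I := by
          have h1 : (g : L) ∈ H ⊔ I := hgT
          obtain ⟨a', ha', x', hx', hax'⟩ := Subgroup.mem_sup_of_normal_left.1 h1
          have h2 : a * x = a' * x' := hax.trans hax'.symm
          have h3 : a'⁻¹ * a = x' * x⁻¹ := by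
            rw [inv_mul_eq_iff_eq_mul, ← mul_assoc, ← h2]; group
          have h4 : x' * x⁻¹ ∈ H ⊓ U :=
            ⟨h3 ▸ H.mul_mem (H.inv_mem ha') ha, U.mul_mem (hIU hx') (U.inv_mem hx)⟩
          rw [s.hyp.HU_inf, Subgroup.mem_bot, mul_inv_eq_one] at h4
          rw [← h4]; exact hx'
        simp only
        have h5 := hconj ⟨((h : ↥K) : L), h.2⟩ ⟨((g * h * g⁻¹ : ↥K) : L),
          hnormHK.conj_mem h h.2 g⟩ rfl ⟨x * ((h : ↥K) : L) * x⁻¹, hN.conj_mem _ h.2 x⟩ rfl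
        rw [h5, ((hI x).mp hxI).2 ⟨((h : ↥K) : L), h.2⟩ _ rfl]
      · intro hall
        show (g : L) ∈ H ⊔ I
        rw [← hax]
        refine Subgroup.mul_mem_sup ha ((hI x).mpr ⟨hx, ?_⟩)
        intro h h' hh'
        have h6 := hall ⟨⟨h, hHK h.2⟩, h.2⟩
        simp only at h6
        have h7 := hconj h ⟨(g : L) * h * (g : L)⁻¹, hN.conj_mem _ h.2 _⟩ rfl h' hh'
        rw [← h7]
        exact Units.ext h6
    have hirr1 : IsIrrCharacter ↥(H.subgroupOf K)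
        (fun z : ↥(H.subgroupOf K) => (lam ⟨((z : ↥K) : L), z.2⟩ : ℂ)) :=
      Characters.Linear.isIrrCharacter_hom
        (lam.comp (Subgroup.subgroupOfEquivOfLe hHK).toMonoidHom)
    have hirr2 : IsIrrCharacter ↥((H ⊔ I).subgroupOf K)
        (fun y => f ⟨((y : ↥K) : L), Subgroup.mem_subgroupOf.mp y.2⟩) :=
      Characters.Linear.isIrrCharacter_hom
        (ξ.comp (Subgroup.subgroupOfEquivOfLe hTK).toMonoidHom)
    letI : Fintype ↥((H ⊔ I).subgroupOf K) := Fintype.ofFinite _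
    letI : Fintype ↥((H.subgroupOf K).subgroupOf ((H ⊔ I).subgroupOf K)) := Fintype.ofFinite _
    have hle : H.subgroupOf K ≤ (H ⊔ I).subgroupOf K := by
      intro x hx
      exact (le_sup_left : H ≤ H ⊔ I) hx
    have hinner : classInner (indFun ((H.subgroupOf K).subgroupOf ((H ⊔ I).subgroupOf K))
        (fun x : ↥((H.subgroupOf K).subgroupOf ((H ⊔ I).subgroupOf K)) =>
          (fun z : ↥(H.subgroupOf K) => (lam ⟨((z : ↥K) : L), z.2⟩ : ℂ))
          ⟨((x : ↥((H ⊔ I).subgroupOf K)) : ↥K), Subgroup.mem_subgroupOf.mp x.2⟩))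
        (fun y => f ⟨((y : ↥K) : L), Subgroup.mem_subgroupOf.mp y.2⟩) ≠ 0 := by
      rw [classInner_indFun_left _ _ (isIrr_isClassFunction hirr2)]
      have e : res ((H.subgroupOf K).subgroupOf ((H ⊔ I).subgroupOf K))
          (fun y : ↥((H ⊔ I).subgroupOf K) =>
            f ⟨((y : ↥K) : L), Subgroup.mem_subgroupOf.mp y.2⟩) =
          (fun x : ↥((H.subgroupOf K).subgroupOf ((H ⊔ I).subgroupOf K)) =>
            (fun z : ↥(H.subgroupOf K) => (lam ⟨((z : ↥K) : L), z.2⟩ : ℂ))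
            ⟨((x : ↥((H ⊔ I).subgroupOf K)) : ↥K), Subgroup.mem_subgroupOf.mp x.2⟩) := by
        funext x
        simp only [res_apply, hf]
        rw [hξ1 _ ⟨(((x : ↥((H ⊔ I).subgroupOf K)) : ↥K) : L),
          Subgroup.mem_subgroupOf.mp (Subgroup.mem_subgroupOf.mp x.2)⟩ rfl]
      rw [e]
      intro h0
      have h1 := congrFun (classInner_self_eq_zero h0) 1
      simp only [Pi.zero_apply] at h1
      exact (Units.ne_zero _) h1
    exact (S1489.result (H.subgroupOf K) ((H ⊔ I).subgroupOf K)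
      (fun z : ↥(H.subgroupOf K) => (lam ⟨((z : ↥K) : L), z.2⟩ : ℂ)) hirr1 hT hle
      (fun y => f ⟨((y : ↥K) : L), Subgroup.mem_subgroupOf.mp y.2⟩)
      (fun y => f ⟨((y : ↥K) : L), Subgroup.mem_subgroupOf.mp y.2⟩) hirr2 hirr2 hinner hinner).1
  · -- `H` is not in the kernel
    by_contra hcon
    push Not at hcon
    letI : Fintype ↥H := Fintype.ofFinite _
    have h1 : ∑ h : ↥H, θ ⟨h, hHK h.2⟩ = (Nat.card ↥H : ℂ) * θ 1 := by
      rw [Finset.sum_congr rfl (fun (h : ↥H) _ => hcon ⟨(h : L), hHK h.2⟩ h.2), Finset.sum_const,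
        Finset.card_univ, nsmul_eq_mul, ← Nat.card_eq_fintype_card]
    have h2 : ∑ h : ↥H, θ ⟨h, hHK h.2⟩ = 0 := by
      simp only [hform]
      rw [← Finset.mul_sum, Finset.sum_comm]
      rw [Finset.sum_eq_zero, mul_zero]
      intro y _
      obtain ⟨h₀, hh₀⟩ : ∃ h₀ : ↥H, lam h₀ ≠ 1 := by
        by_contra hc
        push Not at hc
        exact hlam (MonoidHom.ext hc)
      -- the conjugate of `lam` by `y`
      have hc : ∀ h : ↥H, (y : L)⁻¹ * (h : L) * y ∈ H := fun h => by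
        have := hN.conj_mem (h : L) h.2 (y : L)⁻¹
        rwa [inv_inv] at this
      have h3 : ∀ h : ↥H, extendByZero (H ⊔ I) f ((y : L)⁻¹ * ((⟨h, hHK h.2⟩ : ↥K) : L) * y) =
          (lam ⟨(y : L)⁻¹ * (h : L) * y, hc h⟩ : ℂ) := by
        intro h
        rw [extendByZero_of_mem _ f ((le_sup_left : H ≤ H ⊔ I) (hc h))]
        simp only [hf]
        rw [hξ1 _ ⟨_, hc h⟩ rfl]
      rw [Finset.sum_congr rfl (fun h _ => h3 h)]
      set S := ∑ h : ↥H, (lam ⟨(y : L)⁻¹ * (h : L) * y, hc h⟩ : ℂ) with hS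
      set h₁ : ↥H := ⟨(y : L) * h₀ * (y : L)⁻¹, hN.conj_mem _ h₀.2 _⟩ with hh₁
      have h5 : S = (lam h₀ : ℂ) * S := by
        rw [hS, Finset.mul_sum]
        refine (Fintype.sum_equiv (Equiv.mulLeft h₁) _ _ fun h => ?_).symm
        rw [← Units.val_mul, ← map_mul]
        congr 2
        apply Subtype.ext
        simp only [Equiv.coe_mulLeft, Subgroup.coe_mul, hh₁]
        group
      by_contra hS0
      apply hh₀
      have h6 : ((lam h₀ : ℂ) - 1) * S = 0 := by rw [sub_mul, one_mul, ← h5, sub_self]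
      rcases mul_eq_zero.mp h6 with h7 | h7
      · exact Units.ext (sub_eq_zero.mp h7)
      · exact absurd h7 hS0
    rw [h2] at h1
    have h3 : θ 1 ≠ 0 := by
      rw [hθ, indFun_apply_one]
      refine mul_ne_zero (Nat.cast_ne_zero.mpr Subgroup.index_ne_zero_of_finite) ?_
      simp only [hf]
      exact Units.ne_zero _
    have h4 : (Nat.card ↥H : ℂ) ≠ 0 := by exact_mod_cast Nat.card_pos.ne'
    exact (mul_ne_zero h4 h3) h1.symm
  · -- `H₀` is in the kernel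
    refine hker H₀ s.kernel.normal (s.kernel.lt.le.trans le_sup_left) ?_
    intro x hx
    rw [hξ1 x ⟨x, s.kernel.lt.le hx⟩ rfl]
    exact hlam0 _ hx
  · -- degree
    rw [hθ, indFun_apply_one]
    have h1 : f ⟨(((1 : ↥((H ⊔ I).subgroupOf K)) : ↥K) : L),
        Subgroup.mem_subgroupOf.mp (1 : ↥((H ⊔ I).subgroupOf K)).2⟩ = 1 := by
      have : (⟨(((1 : ↥((H ⊔ I).subgroupOf K)) : ↥K) : L),
        Subgroup.mem_subgroupOf.mp (1 : ↥((H ⊔ I).subgroupOf K)).2⟩ : ↥(H ⊔ I)) = 1 := rfl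
      rw [this, hf]
      simp only [map_one, Units.val_one]
    rw [h1, mul_one]
    have h2 : ((H ⊔ I).subgroupOf K).index = I.relIndex U := by
      show (H ⊔ I).relIndex K = I.relIndex U
      have h3 : H.relIndex (H ⊔ I) = Nat.card ↥I := by
        rw [Subgroup.relIndex_sup_left, ← Subgroup.inf_relIndex_right, hHI,
          Subgroup.relIndex_bot_left]
      have h4 : H.relIndex K = Nat.card ↥U := by
        rw [← s.hyp.K_eq, Subgroup.relIndex_sup_left, ← Subgroup.inf_relIndex_right,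
          s.hyp.HU_inf, Subgroup.relIndex_bot_left]
      have h5 := Subgroup.relIndex_mul_relIndex H (H ⊔ I) K le_sup_left hTK
      have h6 := Subgroup.relIndex_mul_relIndex ⊥ I U bot_le hIU
      rw [Subgroup.relIndex_bot_left, Subgroup.relIndex_bot_left] at h6
      rw [h3, h4, ← h6] at h5
      exact Nat.eq_of_mul_eq_mul_left Nat.card_pos h5
    rw [h2]
  · -- transitivity
    exact indFun_trans (H ⊔ I) K hTK f
  · intro x
    rw [hform, finsum_eq_sum_of_fintype]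

/-- If two functions on `L` induced from linear characters `ξ`, `ξ'` of `HI`, `HI'` (extending `lam`, `lam'`) are equal then
`lam'` is conjugate to `lam` under `W₁ U`. -/
theorem conj_of_ind_eq' (s : Setup K H U W₁ W₂ H₀ C p q n) {I I' : Subgroup L}
    (lam lam' : ↥H →* ℂˣ)
    (ξ : ↥(H ⊔ I) →* ℂˣ) (ξ' : ↥(H ⊔ I') →* ℂˣ)
    (hξ : ∀ (x : ↥(H ⊔ I)) (h : ↥H), (h : L) = x → ξ x = lam h)
    (hξ' : ∀ (x : ↥(H ⊔ I')) (h : ↥H), (h : L) = x → ξ' x = lam' h)
    (heq : indFun (H ⊔ I) (fun x => (ξ x : ℂ)) = indFun (H ⊔ I') (fun x => (ξ' x : ℂ))) :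
    ∃ w ∈ W₁, ∃ x ∈ U, ∀ (h h' : ↥H), (h' : L) = (w * x) * h * (w * x)⁻¹ → lam' h = lam h' := by
  obtain ⟨g, hg⟩ := Mackey.exists_conj_of_indFun_eq (H ⊔ I') (H ⊔ I) ξ' ξ heq.symm
  have hN := s.hyp.H_normal
  have hKn := s.hyp.K_normal
  have hgtop : g ∈ K ⊔ W₁ := by rw [s.hyp.W₁_sup]; exact Subgroup.mem_top g
  obtain ⟨k, hk, w, hw, rfl⟩ := Subgroup.mem_sup_of_normal_left.1 hgtop
  rw [← s.hyp.K_eq] at hk
  obtain ⟨a, ha, x, hx, rfl⟩ := Subgroup.mem_sup_of_normal_left.1 hk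
  have hx' : w⁻¹ * x * w ∈ U := by
    have := s.hyp.W₁_norm w⁻¹ (W₁.inv_mem hw) x hx
    rwa [inv_inv] at this
  refine ⟨w, hw, w⁻¹ * x * w, hx', ?_⟩
  intro h h' hh'
  have hgh : (a * x * w) * (h : L) * (a * x * w)⁻¹ ∈ H := hN.conj_mem _ h.2 _
  have h1 := hg ⟨h, (le_sup_left : H ≤ H ⊔ I') h.2⟩ ⟨_, (le_sup_left : H ≤ H ⊔ I) hgh⟩ rfl
  rw [hξ' _ h rfl, hξ _ ⟨_, hgh⟩ rfl] at h1
  rw [h1]
  have h2 : (⟨_, hgh⟩ : ↥H) = ⟨a, ha⟩ * h' * ⟨a, ha⟩⁻¹ := by
    apply Subtype.ext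
    simp only [Subgroup.coe_mul, Subgroup.coe_inv, hh']
    group
  rw [h2, map_mul, map_mul, map_inv, mul_comm, ← mul_assoc, inv_mul_cancel, one_mul]

/-- The form of the skeleton. -/
theorem conj_of_ind_eq (s : Setup K H U W₁ W₂ H₀ C p q n) {I I' : Subgroup L} (hI : I ≤ U) (hI' : I' ≤ U)
    (lam lam' : ↥H →* ℂˣ) (hlam0 : ∀ h : ↥H, (h : L) ∈ H₀ → lam h = 1)
    (hlam0' : ∀ h : ↥H, (h : L) ∈ H₀ → lam' h = 1)
    (ξ : ↥(H ⊔ I) →* ℂˣ) (ξ' : ↥(H ⊔ I') →* ℂˣ)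
    (hξ : ∀ (x : ↥(H ⊔ I)) (h : ↥H), (h : L) = x → ξ x = lam h)
    (hξ' : ∀ (x : ↥(H ⊔ I')) (h : ↥H), (h : L) = x → ξ' x = lam' h)
    (heq : indFun (H ⊔ I) (fun x => (ξ x : ℂ)) = indFun (H ⊔ I') (fun x => (ξ' x : ℂ))) :
    ∃ w ∈ W₁, ∃ x ∈ U, ∀ (h h' : ↥H), (h' : L) = (w * x) * h * (w * x)⁻¹ → lam' h = lam h' :=
  conj_of_ind_eq' s lam lam' ξ ξ' hξ hξ' heq

/-- A nonprincipal linear character `lam` of `H / H₀`, with stabiliser `I` in `U`, and a linear character `nu` of `I`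
give the linear character `ξ = lam · nu` of `HI` and the member `θ = Ind_{HI}^K ξ` of `X(H₀)` of degree `|U : I|`. -/
theorem exists_InX_of_lin (s : Setup K H U W₁ W₂ H₀ C p q n) (lam : ↥H →* ℂˣ) (hlam : lam ≠ 1)
    (hlam0 : ∀ h : ↥H, (h : L) ∈ H₀ → lam h = 1) (I : Subgroup L) (hI : Cliff.IsStab U I H lam)
    (nu : ↥I →* ℂˣ) :
    ∃ ξ : ↥(H ⊔ I) →* ℂˣ, (∀ (x : ↥(H ⊔ I)) (h : ↥H), (h : L) = x → ξ x = lam h) ∧
      (∀ (x : ↥(H ⊔ I)) (i : ↥I), (i : L) = x → ξ x = nu i) ∧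
      ∃ θ : ↥K → ℂ, InX K H H₀ θ ∧ θ 1 = I.relIndex U ∧
        (∀ Y : Subgroup L, Y.Normal → Y ≤ H ⊔ I → (∀ x : ↥(H ⊔ I), (x : L) ∈ Y → ξ x = 1) →
          ∀ y : ↥K, (y : L) ∈ Y → θ y = θ 1) ∧
        indFun K θ = indFun (H ⊔ I) (fun x => (ξ x : ℂ)) ∧
        (∀ (x : ↥K), θ x = (Nat.card ↥(H ⊔ I) : ℂ)⁻¹ *
          ∑ᶠ y : ↥K, extendByZero (H ⊔ I) (fun x => (ξ x : ℂ)) ((y : L)⁻¹ * x * y)) :=
  exists_InX_of_lin' s lam hlam hlam0 I hI nu

end Cfsg.Agent.OddOrderCharacters.PF9.Cliff2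
end
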