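import Cfsg.Agent.OddOrderCharacters.PF9.Defs
import Cfsg.Agent.OddOrderCharacters.PF9.NonGalois_mg
import Cfsg.Agent.OddOrderCharacters.PF9.Mackey
import Cfsg.Agent.OddOrderCharacters.PF9.MackeyIrr
set_option linter.all false

/-!
# Peterfalvi (9.8)(d): the number of irreducible members of `S(H₀U')` of degree `qa`
-/

set_option autoImplicit false
open Cfsg
open scoped ComplexConjugate
open Cfsg.Agent.OddOrderCharacters.PFDefs
open Cfsg.Agent.OddOrderCharacters.PF9.Defs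

namespace Cfsg.Agent.OddOrderCharacters.PF9.EightCount

open Cfsg.Agent.OddOrderCharacters.PF9.EightDual

universe u

variable {L : Type u} [Group L] {K H U W₁ W₂ H₀ C H₁ U₁ : Subgroup L} {p q n a : ℕ}

theorem U₁_le (g : NonGalois K H U W₁ W₂ H₀ C H₁ U₁ p q n a) : U₁ ≤ U :=
  fun x hx => ((g.mem_U₁ x).1 hx).1

theorem der_le (g : NonGalois K H U W₁ W₂ H₀ C H₁ U₁ p q n a) : ⁅U, U⁆ ≤ U₁ :=
  g.setup.U_der_le.trans g.C_le

/-- `ξ` extends `χ`, `ν` and is trivial on the other conjugates of `H₁`. -/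
structure IsExt (H H₁ U₁ W₁ : Subgroup L) (χ : ↥H₁ →* ℂˣ) (ν : ↥U₁ →* ℂˣ)
    (ξ : ↥(H ⊔ U₁) →* ℂˣ) : Prop where
  on_H₁ : ∀ (x : ↥(H ⊔ U₁)) (h : ↥H₁), (h : L) = x → ξ x = χ h
  on_conj : ∀ w ∈ W₁, w ≠ 1 → ∀ h ∈ H₁, ∀ x : ↥(H ⊔ U₁), (x : L) = w * h * w⁻¹ → ξ x = 1
  on_U₁ : ∀ (x : ↥(H ⊔ U₁)) (i : ↥U₁), (i : L) = x → ξ x = ν i

theorem hom_conj {B : Type*} [Group B] (ξ : B →* ℂˣ) (a b : B) : ξ (a * b * a⁻¹) = ξ b := by
  rw [map_mul, map_mul, map_inv, mul_comm, inv_mul_cancel_left]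

/-- The elements conjugating `ξ` to `ξ'`. -/
theorem conj_analysis (g : NonGalois K H U W₁ W₂ H₀ C H₁ U₁ p q n a)
    {χ χ' : ↥H₁ →* ℂˣ} (hχ : χ ≠ 1) {ν ν' : ↥U₁ →* ℂˣ} (hν' : ν' ∈ dualSet ⁅U, U⁆ U₁)
    {ξ ξ' : ↥(H ⊔ U₁) →* ℂˣ} (hξ : IsExt H H₁ U₁ W₁ χ ν ξ) (hξ' : IsExt H H₁ U₁ W₁ χ' ν' ξ')
    {y : L} (hy : ∀ (c : ↥(H ⊔ U₁)) (b : ↥(H ⊔ U₁)), (b : L) = y * c * y⁻¹ → ξ c = ξ' b) :
    ∃ c ∈ H, ∃ (x : L) (hx : x ∈ U), y = c * x ∧ χ = χ'.comp (cjSub H₁ x (g.H₁_norm x hx)) ∧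
      ν = ν' := by
  have hH := g.setup.hyp.H_normal
  have hytop : y ∈ K ⊔ W₁ := by rw [g.setup.hyp.W₁_sup]; exact Subgroup.mem_top y
  have hKn := g.setup.hyp.K_normal
  obtain ⟨k, hk, w, hw, rfl⟩ := Subgroup.mem_sup_of_normal_left.1 hytop
  rw [← g.setup.hyp.K_eq] at hk
  obtain ⟨c, hc, x, hx, rfl⟩ := Subgroup.mem_sup_of_normal_left.1 hk
  have hHle : H ≤ H ⊔ U₁ := le_sup_left
  have hUle : U₁ ≤ H ⊔ U₁ := le_sup_right
  have hw1 : w = 1 := by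
    by_contra hw1
    obtain ⟨h, hh⟩ : ∃ h : ↥H₁, χ h ≠ 1 := by
      by_contra hcon
      push Not at hcon
      exact hχ (MonoidHom.ext hcon)
    apply hh
    have hx' : w⁻¹ * x * w ∈ U := by
      have := g.setup.hyp.W₁_norm w⁻¹ (W₁.inv_mem hw) x hx
      rwa [inv_inv] at this
    have h1 := g.H₁_norm _ hx' h h.2
    have h2 : w * (w⁻¹ * x * w * h * (w⁻¹ * x * w)⁻¹) * w⁻¹ ∈ H :=
      hH.conj_mem _ (g.H₁_le h1) w
    have h3 := hy ⟨h, hHle (g.H₁_le h.2)⟩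
      (⟨c, hHle hc⟩ * ⟨_, hHle h2⟩ * ⟨c, hHle hc⟩⁻¹) (by
        simp only [Subgroup.coe_mul, Subgroup.coe_inv]
        group)
    rw [hom_conj, hξ.on_H₁ _ h rfl, hξ'.on_conj w hw hw1 _ h1 _ rfl] at h3
    exact h3
  subst hw1
  refine ⟨c, hc, x, hx, by rw [mul_one], ?_, ?_⟩
  · ext h
    have h1 := g.H₁_norm x hx h h.2
    have h3 := hy ⟨h, hHle (g.H₁_le h.2)⟩
      (⟨c, hHle hc⟩ * ⟨_, hHle (g.H₁_le h1)⟩ * ⟨c, hHle hc⟩⁻¹) (by
        simp only [Subgroup.coe_mul, Subgroup.coe_inv]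
        group)
    rw [hom_conj, hξ.on_H₁ _ h rfl, hξ'.on_H₁ _ ⟨_, h1⟩ rfl] at h3
    exact congrArg (fun z : ℂˣ => (z : ℂ)) h3
  · ext i
    have h1 := g.U_conj_U₁ x hx i i.2
    have h3 := hy ⟨i, hUle i.2⟩
      (⟨c, hHle hc⟩ * ⟨_, hUle h1⟩ * ⟨c, hHle hc⟩⁻¹) (by
        simp only [Subgroup.coe_mul, Subgroup.coe_inv]
        group)
    rw [hom_conj, hξ.on_U₁ _ i rfl, hξ'.on_U₁ _ ⟨_, h1⟩ rfl] at h3
    have h4 : ((⟨x * i * x⁻¹, h1⟩ * i⁻¹ : ↥U₁) : L) ∈ ⁅U, U⁆ :=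
      Subgroup.commutator_mem_commutator hx (U₁_le g i.2)
    have h5 := hν' _ h4
    rw [map_mul, map_inv, mul_inv_eq_one] at h5
    rw [h3, h5]

section finite

variable [Fintype L]

/-- Existence of the irreducible member of `S(H₀U')` attached to `χ`, `ν`. -/
theorem exists_ext (g : NonGalois K H U W₁ W₂ H₀ C H₁ U₁ p q n a) {χ : ↥H₁ →* ℂˣ}
    (hχ : χ ∈ dualSet H₀ H₁) (hχ1 : χ ≠ 1) {ν : ↥U₁ →* ℂˣ} (hν : ν ∈ dualSet ⁅U, U⁆ U₁) :
    ∃ ξ : ↥(H ⊔ U₁) →* ℂˣ, IsExt H H₁ U₁ W₁ χ ν ξ ∧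
      indFun (H ⊔ U₁) (fun x => (ξ x : ℂ)) ∈ seqIndD K H (H₀ ⊔ ⁅U, U⁆) ∧
      IsIrrCharacter L (indFun (H ⊔ U₁) (fun x => (ξ x : ℂ))) ∧
      indFun (H ⊔ U₁) (fun x => (ξ x : ℂ)) 1 = (q : ℂ) * a := by
  classical
  have hH := g.setup.hyp.H_normal
  have hH₀ := g.setup.kernel.normal
  obtain ⟨lam, hlam, hcmp⟩ := exists_of_cmp g (fun w => if (w : L) = 1 then χ else 1) (by
    intro w
    split_ifs
    · exact hχ
    · exact one_mem_dualSet _ _)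
  have hlam1 : ∀ h : ↥H₁, lam ⟨h, g.H₁_le h.2⟩ = χ h := by
    intro h
    have h1 := congrArg (fun f : ↥H₁ →* ℂˣ => f h) (hcmp 1)
    simp only [Subgroup.coe_one, if_true] at h1
    rw [← h1, cmp_apply]
    congr 1
    apply Subtype.ext
    simp
  have hlamw : ∀ w ∈ W₁, w ≠ 1 → ∀ (h : L) (hh : h ∈ H₁),
      lam ⟨w * h * w⁻¹, hH.conj_mem _ (g.H₁_le hh) w⟩ = 1 := by
    intro w hw hw1 h hh
    have h1 := congrArg (fun f : ↥H₁ →* ℂˣ => f ⟨h, hh⟩) (hcmp ⟨w, hw⟩)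
    simp only [hw1, if_false] at h1
    exact h1
  have hlamne : lam ≠ 1 := by
    rintro rfl
    apply hχ1
    ext h
    rw [← hlam1 h]
    rfl
  have hI : Cliff.IsStab U U₁ H lam := by
    intro x
    constructor
    · intro hx
      refine ⟨U₁_le g hx, ?_⟩
      let lam' : ↥H →* ℂˣ := lam.comp (cjSub H x (fun b hb => hH.conj_mem b hb x))
      have h1 : lam' = lam := by
        apply ext_cmp g
        intro w hw
        ext h
        rw [cmp_apply, cmp_apply]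
        show ((lam ⟨x * (w * h * w⁻¹) * x⁻¹, _⟩ : ℂˣ) : ℂ) = _
        congr 1
        by_cases hw1 : w = 1
        · subst hw1
          have h2 : x * h * x⁻¹ * (h : L)⁻¹ ∈ H₀ :=
            ((g.mem_U₁ x).1 hx).2 h h.2
          have h3 : ((⟨x * (1 * h * 1⁻¹) * x⁻¹, hH.conj_mem _ (hH.conj_mem _ (g.H₁_le h.2) 1) x⟩ *
              (⟨1 * h * 1⁻¹, hH.conj_mem _ (g.H₁_le h.2) 1⟩)⁻¹ : ↥H) : L) ∈ H₀ := by
            simpa using h2
          have h4 := hlam _ h3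
          rw [map_mul, map_inv, mul_inv_eq_one] at h4
          exact h4
        · rw [hlamw w hw hw1 h h.2]
          have hx' : w⁻¹ * x * w ∈ U := by
            have := g.setup.hyp.W₁_norm w⁻¹ (W₁.inv_mem hw) x (U₁_le g hx)
            rwa [inv_inv] at this
          have h2 := hlamw w hw hw1 _ (g.H₁_norm _ hx' h h.2)
          rw [← h2]
          congr 1
          apply Subtype.ext
          show x * (w * h * w⁻¹) * x⁻¹ = w * (w⁻¹ * x * w * h * (w⁻¹ * x * w)⁻¹) * w⁻¹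
          group
      intro h h' e
      have h2 := congrArg (fun f : ↥H →* ℂˣ => f h) h1
      rw [show h' = cjSub H x (fun b hb => hH.conj_mem b hb x) h from Subtype.ext e]
      exact h2
    · rintro ⟨hxU, hx⟩
      apply mem_U₁_of_fix g hχ hχ1 hxU
      intro h h' e
      rw [← hlam1 h', ← hlam1 h]
      exact hx _ _ e
  obtain ⟨ξ, h1, h2, θ, hθ, hdeg, hker, hind, -⟩ :=
    Cliff2.exists_InX_of_lin g.setup lam hlamne (fun h hh => hlam h hh) U₁ hI ν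
  have hext : IsExt H H₁ U₁ W₁ χ ν ξ := by
    refine ⟨?_, ?_, h2⟩
    · intro x h e
      rw [h1 x ⟨h, g.H₁_le h.2⟩ e, hlam1]
    · intro w hw hw1 h hh x e
      rw [h1 x ⟨w * h * w⁻¹, hH.conj_mem _ (g.H₁_le hh) w⟩ e.symm, hlamw w hw hw1 h hh]
  have hY : H₀ ⊔ ⁅U, U⁆ ≤ H ⊔ U₁ :=
    sup_le (g.setup.kernel.lt.le.trans le_sup_left) ((der_le g).trans le_sup_right)
  have hkerY : ∀ y : ↥K, (y : L) ∈ H₀ ⊔ ⁅U, U⁆ → θ y = θ 1 := by
    apply hker _ g.setup.H₀U'_normal hY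
    intro x hx
    obtain ⟨b, hb, d, hd, e⟩ := Subgroup.mem_sup_of_normal_left.1 hx
    have h3 : x = ⟨b, hY (Subgroup.mem_sup_left hb)⟩ * ⟨d, hY (Subgroup.mem_sup_right hd)⟩ :=
      Subtype.ext e.symm
    rw [h3, map_mul, h1 _ ⟨b, g.setup.kernel.lt.le hb⟩ rfl, h2 _ ⟨d, der_le g hd⟩ rfl,
      hlam _ hb, hν _ hd, one_mul]
  refine ⟨ξ, hext, ?_, ?_, ?_⟩
  · rw [mem_seqIndD_iff]
    exact ⟨θ, ⟨hθ.irr, hθ.not_ker, hkerY⟩, hind.symm⟩
  · apply MackeyIrr.isIrr_ind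
    intro y hy
    obtain ⟨c, hc, x, hx, rfl, h3, -⟩ := conj_analysis g hχ1 hν hext hext hy
    refine Subgroup.mul_mem_sup hc ?_
    apply mem_U₁_of_fix g hχ hχ1 hx
    intro h h' e
    have h4 := congrArg (fun f : ↥H₁ →* ℂˣ => f h) h3
    have h5 : h' = cjSub H₁ x (g.H₁_norm x hx) h := Subtype.ext e
    rw [h5]
    exact h4.symm
  · rw [← hind, IndRes.indFun_apply_one, hdeg, g.a_eq]
    congr 1
    have h3 : Nat.card ↥W₁ = K.index := by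
      have hKn := g.setup.hyp.K_normal
      have h4 := Subgroup.relIndex_sup_left (H := W₁) (K := K)
      rw [g.setup.hyp.W₁_sup, Subgroup.relIndex_top_right, ← Subgroup.inf_relIndex_right,
        g.setup.hyp.W₁_inf, Subgroup.relIndex_bot_left] at h4
      exact h4.symm
    rw [← h3, g.setup.q_eq]

/-- (9.8)(d) -/
theorem nonGalois_count (g : NonGalois K H U W₁ W₂ H₀ C H₁ U₁ p q n a) :
    (p - 1) * ⁅U, U⁆.relIndex U ≤ a ^ 2 *
      {ζ | ζ ∈ seqIndD K H (H₀ ⊔ ⁅U, U⁆) ∧ IsIrrCharacter L ζ ∧ ζ 1 = (q : ℂ) * a}.ncard := by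
  classical
  set Z : Set (L → ℂ) :=
    {ζ | ζ ∈ seqIndD K H (H₀ ⊔ ⁅U, U⁆) ∧ IsIrrCharacter L ζ ∧ ζ 1 = (q : ℂ) * a} with hZ
  have hZfin : Z.Finite := by
    have : Finite (IrrCharacter L) := Characters.Core.finite_irr
    refine Set.Finite.subset (Set.finite_range (fun χ : IrrCharacter L => (χ : L → ℂ))) ?_
    rintro ζ ⟨-, h, -⟩
    exact ⟨⟨ζ, h⟩, rfl⟩
  let P : Set ((↥H₁ →* ℂˣ) × (↥U₁ →* ℂˣ)) := (dualSet H₀ H₁ \ {1}) ×ˢ dualSet ⁅U, U⁆ U₁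
  have hPfin : P.Finite := Set.toFinite _
  have hex : ∀ x : P, ∃ ξ : ↥(H ⊔ U₁) →* ℂˣ, IsExt H H₁ U₁ W₁ x.1.1 x.1.2 ξ ∧
      indFun (H ⊔ U₁) (fun x => (ξ x : ℂ)) ∈ Z := by
    rintro ⟨⟨χ, ν⟩, ⟨hχ, hχ1⟩, hν⟩
    obtain ⟨ξ, h1, h2, h3, h4⟩ := exists_ext g hχ hχ1 hν
    exact ⟨ξ, h1, h2, h3, h4⟩
  choose Ξ hΞ1 hΞ2 using hex
  let F : P → (L → ℂ) := fun x => indFun (H ⊔ U₁) (fun y => (Ξ x y : ℂ))
  have : Fintype P := hPfin.fintype
  have hfib : ∀ z ∈ (Finset.univ : Finset P).image F,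
      ((Finset.univ : Finset P).filter (fun x => F x = z)).card ≤ a := by
    intro z hz
    obtain ⟨x₀, -, rfl⟩ := Finset.mem_image.1 hz
    have h1 : ((Finset.univ : Finset P).filter (fun x => F x = F x₀)).card ≤
        (orb g x₀.1.1).ncard := by
      have : Fintype (orb g x₀.1.1) := Fintype.ofFinite _
      rw [← Nat.card_coe_set_eq, Nat.card_eq_fintype_card, ← Set.toFinset_card]
      refine Finset.card_le_card_of_injOn (fun x => x.1.1) ?_ ?_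
      · intro x hx
        rw [Finset.mem_coe, Finset.mem_filter] at hx
        obtain ⟨y, hy⟩ := Mackey.exists_conj_of_indFun_eq (H ⊔ U₁) (H ⊔ U₁) (Ξ x) (Ξ x₀) hx.2
        obtain ⟨c, hc, u, hu, -, h3, -⟩ :=
          conj_analysis g x.2.1.2 x₀.2.2 (hΞ1 x) (hΞ1 x₀) hy
        rw [Finset.mem_coe, Set.mem_toFinset]
        exact ⟨u, hu, h3⟩
      · intro x hx x' hx' e
        rw [Finset.mem_coe, Finset.mem_filter] at hx hx'
        obtain ⟨y, hy⟩ := Mackey.exists_conj_of_indFun_eq (H ⊔ U₁) (H ⊔ U₁) (Ξ x) (Ξ x₀) hx.2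
        obtain ⟨c, hc, u, hu, -, -, h3⟩ :=
          conj_analysis g x.2.1.2 x₀.2.2 (hΞ1 x) (hΞ1 x₀) hy
        obtain ⟨y', hy'⟩ := Mackey.exists_conj_of_indFun_eq (H ⊔ U₁) (H ⊔ U₁) (Ξ x') (Ξ x₀) hx'.2
        obtain ⟨c', hc', u', hu', -, -, h3'⟩ :=
          conj_analysis g x'.2.1.2 x₀.2.2 (hΞ1 x') (hΞ1 x₀) hy'
        exact Subtype.ext (Prod.ext e (h3.trans h3'.symm))
    exact h1.trans (orb_ncard_le g x₀.2.1.1)
  have hcount := Finset.card_le_mul_card_image (Finset.univ : Finset P) a hfib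
  have himg : ((Finset.univ : Finset P).image F).card ≤ Z.ncard := by
    rw [← Set.ncard_coe_finset]
    refine Set.ncard_le_ncard ?_ hZfin
    intro z hz
    rw [Finset.mem_coe] at hz
    obtain ⟨x, -, rfl⟩ := Finset.mem_image.1 hz
    exact hΞ2 x
  have hP : (Finset.univ : Finset P).card = (p - 1) * ⁅U, U⁆.relIndex U₁ := by
    rw [Finset.card_univ, ← Nat.card_eq_fintype_card, Nat.card_coe_set_eq]
    rw [Set.ncard_prod]
    congr 1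
    · rw [Set.ncard_sdiff_singleton_of_mem (one_mem_dualSet _ _), card_dual_H₁ g]
    · have hn : (⁅U, U⁆.subgroupOf U₁).Normal := by
        refine ⟨fun x hx y => ?_⟩
        rw [Subgroup.mem_subgroupOf] at hx ⊢
        have h1 : ((y * x * y⁻¹ : ↥U₁) : L) = (y : L) * x * (y : L)⁻¹ * (x : L)⁻¹ * x := by
          simp only [Subgroup.coe_mul, Subgroup.coe_inv]
          group
        rw [h1]
        exact Subgroup.mul_mem _ (Subgroup.commutator_mem_commutator (U₁_le g y.2)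
          (U₁_le g x.2)) hx
      exact card_dualSet hn fun x hx y hy =>
        Subgroup.commutator_mem_commutator (U₁_le g hx) (U₁_le g hy)
  have hrel : ⁅U, U⁆.relIndex U = ⁅U, U⁆.relIndex U₁ * a := by
    rw [← g.a_eq, Subgroup.relIndex_mul_relIndex _ _ _ (der_le g) (U₁_le g)]
  calc (p - 1) * ⁅U, U⁆.relIndex U = ((p - 1) * ⁅U, U⁆.relIndex U₁) * a := by rw [hrel]; ring
    _ ≤ (a * Z.ncard) * a := by
        refine Nat.mul_le_mul_right _ ?_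
        rw [← hP]
        exact hcount.trans (Nat.mul_le_mul_left _ himg)
    _ = a ^ 2 * Z.ncard := by ring

end finite

end Cfsg.Agent.OddOrderCharacters.PF9.EightCount
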