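import Cfsg.Agent.OddOrderCharacters.PF9.Defs
import Cfsg.Agent.OddOrderCharacters.IndRes
set_option linter.all false

/-!
# Peterfalvi §9: induction from `K` to `L`, where `L / K ≅ W₁` is cyclic of prime order `q`

* `exists_mul` : `L = K W₁`;
* `conjFn_eq_of_W₁` : the `L`-conjugates of a class function of `K` are its `W₁`-conjugates;
* `ind_irr_iff`, `ind_eq_iff`.
-/

set_option autoImplicit false
open Cfsg
open Cfsg.Agent.OddOrderCharacters.PFDefs
open Cfsg.Agent.OddOrderCharacters.PF9.Defs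
open Cfsg.Agent.Characters.Core
open Cfsg.Agent.OddOrderCharacters.NormalInduced
open Cfsg.Agent.OddOrderCharacters.IndRes

namespace Cfsg.Agent.OddOrderCharacters.PF9.Cliff3

universe u

variable {L : Type u} [Group L] {K W₁ : Subgroup L}

/-- `L = K W₁`. -/
theorem exists_mul (hK : K.Normal) (hsup : K ⊔ W₁ = ⊤) (g : L) : ∃ k ∈ K, ∃ w ∈ W₁, g = k * w := by
  have hg : g ∈ K ⊔ W₁ := hsup ▸ Subgroup.mem_top g
  rw [← SetLike.mem_coe, Subgroup.normal_mul K W₁] at hg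
  obtain ⟨k, hk, w, hw, rfl⟩ := Set.mem_mul.mp hg
  exact ⟨k, hk, w, hw, rfl⟩

/-- The invariance condition in the form used by the skeleton. -/
theorem conjFn_eq_iff_forall (hK : K.Normal) (θ θ' : ↥K → ℂ) (w : L) :
    conjFn K θ w = θ' ↔ ∀ (x y : ↥K), (y : L) = w * x * w⁻¹ → θ y = θ' x := by
  constructor
  · rintro rfl x y hy
    rw [conjFn_apply]
    congr 1
    exact Subtype.ext hy
  · intro h
    funext x
    rw [conjFn_apply]
    exact h x _ rfl

/-- Conjugating a class function of `K` by `k w`, `k ∈ K`, is conjugating by `w`. -/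
theorem conjFn_mul_of_mem [hK : K.Normal] {θ : ↥K → ℂ} (hθ : IsClassFunction ↥K θ) {k : L}
    (hk : k ∈ K) (w : L) : conjFn K θ (k * w) = conjFn K θ w := by
  rw [conjFn_mul, conjFn_of_mem K hθ hk]

/-- The index of `K` is the order of `W₁`. -/
theorem index_eq [Finite L] [hK : K.Normal] (hsup : K ⊔ W₁ = ⊤) (hinf : K ⊓ W₁ = ⊥) :
    K.index = Nat.card W₁ := by
  have hc : Subgroup.IsComplement' K W₁ :=
    Subgroup.isComplement'_of_disjoint_and_mul_eq_univ (disjoint_iff.mpr hinf) (by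
      rw [← Subgroup.normal_mul, hsup]; rfl)
  exact hc.symm.index_eq_card

section prime

variable [Fintype L] [hK : K.Normal]

omit [Fintype L] in
/-- If `θ` is fixed by `W₁` it is fixed by `L`. -/
theorem conjFn_eq_of_forall (hsup : K ⊔ W₁ = ⊤) {θ : ↥K → ℂ} (hθ : IsClassFunction ↥K θ)
    (h : ∀ w ∈ W₁, conjFn K θ w = θ) (g : L) : conjFn K θ g = θ := by
  obtain ⟨k, hk, w, hw, rfl⟩ := exists_mul hK hsup g
  rw [conjFn_mul_of_mem hθ hk, h w hw]

omit [Fintype L] in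
/-- Powers of an element fixing `θ` fix `θ`. -/
theorem conjFn_pow {θ : ↥K → ℂ} {w : L} (h : conjFn K θ w = θ) (n : ℕ) :
    conjFn K θ (w ^ n) = θ := by
  induction n with
  | zero => rw [pow_zero, conjFn_one]
  | succ n ih => rw [pow_succ, conjFn_mul, ih, h]

omit [Fintype L] in
/-- If `W₁` has prime order and does not fix `θ`, then `K` is the inertia group of `θ`. -/
theorem mem_of_conjFn_eq (hsup : K ⊔ W₁ = ⊤) (hp : (Nat.card W₁).Prime) {θ : ↥K → ℂ}
    (hθ : IsClassFunction ↥K θ) (h : ¬ ∀ w ∈ W₁, conjFn K θ w = θ) {g : L}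
    (hg : conjFn K θ g = θ) : g ∈ K := by
  obtain ⟨k, hk, w, hw, rfl⟩ := exists_mul hK hsup g
  rw [conjFn_mul_of_mem hθ hk] at hg
  by_cases hw1 : w = 1
  · rw [hw1, mul_one]; exact hk
  · exfalso
    apply h
    intro v hv
    have hfact : Fact (Nat.card W₁).Prime := ⟨hp⟩
    have hne : (⟨w, hw⟩ : W₁) ≠ 1 := fun h0 => hw1 (congrArg Subtype.val h0)
    have hgen := mem_powers_of_prime_card (G := W₁) rfl hne (g' := ⟨v, hv⟩)
    obtain ⟨n, hn⟩ := hgen
    have hn' : w ^ n = v := congrArg Subtype.val hn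
    rw [← hn']
    exact conjFn_pow hg n

/-- The dichotomy: `Ind θ` is irreducible, or has norm `q` and `θ` is `W₁`-invariant. -/
theorem ind_irr_dichotomy (hsup : K ⊔ W₁ = ⊤) (hinf : K ⊓ W₁ = ⊥) (hp : (Nat.card W₁).Prime)
    {θ : ↥K → ℂ} (hθ : IsIrrCharacter ↥K θ) :
    (IsIrrCharacter L (indFun K θ) ∧ classInner (indFun K θ) (indFun K θ) = 1 ∧
        ¬ (∀ w ∈ W₁, conjFn K θ w = θ)) ∨
      (¬ IsIrrCharacter L (indFun K θ) ∧
        classInner (indFun K θ) (indFun K θ) = (Nat.card W₁ : ℂ) ∧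
        ∀ w ∈ W₁, conjFn K θ w = θ) := by
  by_cases h : ∀ w ∈ W₁, conjFn K θ w = θ
  · right
    have hall := conjFn_eq_of_forall hsup (isIrr_isClassFunction hθ) h
    have hnorm : classInner (indFun K θ) (indFun K θ) = (Nat.card W₁ : ℂ) := by
      rw [classInner_indFun_self K hθ]
      have h1 : Nat.card {g : L // conjFn K θ g = θ} = Nat.card L :=
        Nat.card_congr (Equiv.subtypeUnivEquiv hall)
      rw [h1, ← K.card_mul_index, index_eq hsup hinf]
      push_cast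
      rw [← mul_assoc, inv_mul_cancel₀ (card_ne_zero_complex (G := K)), one_mul]
    refine ⟨?_, hnorm, h⟩
    intro hirr
    have h1 := classInner_irr_self hirr
    rw [hnorm] at h1
    have h2 : Nat.card W₁ = 1 := by exact_mod_cast h1
    exact hp.one_lt.ne' h2
  · left
    have hirr := isIrr_indFun_of_stabilizer K hθ
      (fun g hg => mem_of_conjFn_eq hsup hp (isIrr_isClassFunction hθ) h hg)
    exact ⟨hirr, classInner_irr_self hirr, h⟩

/-- `Ind θ = Ind θ'` iff `θ` and `θ'` are `W₁`-conjugate. -/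
theorem ind_eq_iff' (hsup : K ⊔ W₁ = ⊤) {θ θ' : ↥K → ℂ} (hθ : IsIrrCharacter ↥K θ)
    (hθ' : IsIrrCharacter ↥K θ') :
    indFun K θ = indFun K θ' ↔ ∃ w ∈ W₁, conjFn K θ w = θ' := by
  rw [eq_comm, indFun_eq_iff K hθ' hθ]
  constructor
  · rintro ⟨g, hg⟩
    obtain ⟨k, hk, w, hw, rfl⟩ := exists_mul hK hsup g
    rw [conjFn_mul_of_mem (isIrr_isClassFunction hθ) hk] at hg
    exact ⟨w, hw, hg⟩
  · rintro ⟨w, -, h⟩
    exact ⟨w, h⟩

/-- `Ind θ` restricted to `K` is the sum of the `W₁`-conjugates of `θ`. -/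
theorem res_ind_eq_sum (hsup : K ⊔ W₁ = ⊤) (hinf : K ⊓ W₁ = ⊥) [Fintype W₁] {θ : ↥K → ℂ}
    (hθ : IsClassFunction ↥K θ) (x : ↥K) :
    indFun K θ (x : L) = ∑ w : W₁, conjFn K θ (w : L) x := by
  classical
  have hK0 : (Nat.card K : ℂ) ≠ 0 := card_ne_zero_complex
  rw [indFun_coe, inv_mul_eq_iff_eq_mul₀ hK0]
  -- sum over pairs `(k, w)`
  let _ : Fintype K := Fintype.ofFinite K
  have hc : Subgroup.IsComplement' K W₁ :=
    Subgroup.isComplement'_of_disjoint_and_mul_eq_univ (disjoint_iff.mpr hinf) (by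
      rw [← Subgroup.normal_mul, hsup]; rfl)
  have h1 : ∑ g : L, conjFn K θ g x = ∑ p : K × W₁, conjFn K θ ((p.1 : L) * (p.2 : L)) x :=
    (Fintype.sum_equiv (Equiv.ofBijective _ hc) _ _ (fun p => rfl)).symm
  rw [h1, Fintype.sum_prod_type]
  have h2 : ∀ k : K, ∑ w : W₁, conjFn K θ ((k : L) * (w : L)) x = ∑ w : W₁, conjFn K θ (w : L) x := by
    intro k
    refine Finset.sum_congr rfl fun w _ => ?_
    rw [conjFn_mul_of_mem hθ k.2]
  rw [Finset.sum_congr rfl (fun k _ => h2 k), Finset.sum_const, Finset.card_univ, nsmul_eq_mul,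
    ← Nat.card_eq_fintype_card]

end prime

section setup

variable [Fintype L] {H U W₂ H₀ C : Subgroup L} {p q n : ℕ}

/-- G3: `L / K` is cyclic of prime order `q`. -/
theorem ind_irr_iff (s : Setup K H U W₁ W₂ H₀ C p q n) {θ : ↥K → ℂ} (hθ : IsIrrCharacter ↥K θ) :
    (IsIrrCharacter L (indFun K θ) ∧ classInner (indFun K θ) (indFun K θ) = 1 ∧
        ¬ (∀ w ∈ W₁, ∀ (x y : ↥K), (y : L) = w * x * w⁻¹ → θ y = θ x)) ∨
      (¬ IsIrrCharacter L (indFun K θ) ∧ classInner (indFun K θ) (indFun K θ) = q ∧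
        ∀ w ∈ W₁, ∀ (x y : ↥K), (y : L) = w * x * w⁻¹ → θ y = θ x) := by
  have hK : K.Normal := s.hyp.K_normal
  have h := ind_irr_dichotomy s.hyp.W₁_sup s.hyp.W₁_inf s.hyp.W₁_prime hθ
  rw [s.q_eq] at h
  have e : (∀ w ∈ W₁, conjFn K θ w = θ) ↔
      ∀ w ∈ W₁, ∀ (x y : ↥K), (y : L) = w * x * w⁻¹ → θ y = θ x :=
    forall₂_congr fun w _ => conjFn_eq_iff_forall hK θ θ w
  rwa [e] at h

/-- `Ind θ = Ind θ'` iff `θ`, `θ'` are `W₁`-conjugate. -/
theorem ind_eq_iff (s : Setup K H U W₁ W₂ H₀ C p q n) {θ θ' : ↥K → ℂ} (hθ : IsIrrCharacter ↥K θ)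
    (hθ' : IsIrrCharacter ↥K θ') :
    indFun K θ = indFun K θ' ↔ ∃ w ∈ W₁, ∀ (x y : ↥K), (y : L) = w * x * w⁻¹ → θ' x = θ y := by
  have hK : K.Normal := s.hyp.K_normal
  rw [ind_eq_iff' s.hyp.W₁_sup hθ hθ']
  refine exists_congr fun w => and_congr_right fun _ => ?_
  rw [conjFn_eq_iff_forall hK θ θ' w]
  exact ⟨fun h x y hy => (h x y hy).symm, fun h x y hy => (h x y hy).symm⟩

end setup

end Cfsg.Agent.OddOrderCharacters.PF9.Cliff3
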